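/-
Small facts about the alternating groups of degree five and six.
-/
import Mathlib

set_option autoImplicit false
set_option maxRecDepth 10000
set_option synthInstance.maxSize 2048
set_option synthInstance.maxHeartbeats 200000

namespace H63.SmallExp

open Equiv

/-- An element of order four in `A_6`. -/
def a6Four : alternatingGroup (Fin 6) :=
  ⟨swap 0 3 * swap 0 2 * swap 0 1 * swap 4 5, Equiv.Perm.mem_alternatingGroup.2 (by decide)⟩

theorem a6Four_pow : a6Four ^ 4 = 1 ∧ a6Four ^ 2 ≠ 1 := by decide +kernel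

theorem a6Four_norm : ∀ b : alternatingGroup (Fin 6), b ^ 2 ≠ 1 → b ^ 4 = 1 →
    (b * a6Four * b⁻¹ = a6Four ∨ b * a6Four * b⁻¹ = a6Four⁻¹) → b = a6Four ∨ b = a6Four⁻¹ := by
  decide +kernel

theorem a6Four_cent : ∀ b : alternatingGroup (Fin 6), b * a6Four = a6Four * b →
    b = 1 ∨ b = a6Four ∨ b = a6Four ^ 2 ∨ b = a6Four ^ 3 := by
  decide +kernel

theorem a6_inverted : ∀ h : alternatingGroup (Fin 6), h ^ 3 = 1 ∨ h ^ 5 = 1 →
    ∃ z : alternatingGroup (Fin 6), z * h * z⁻¹ = h⁻¹ := by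
  decide +kernel

theorem a6_four_group : ∃ a b : alternatingGroup (Fin 6), a ≠ 1 ∧ b ≠ 1 ∧ a ≠ b ∧
    a * a = 1 ∧ b * b = 1 ∧ a * b = b * a :=
  ⟨⟨swap 0 1 * swap 2 3, Equiv.Perm.mem_alternatingGroup.2 (by decide)⟩, ⟨swap 0 2 * swap 1 3, Equiv.Perm.mem_alternatingGroup.2 (by decide)⟩, by decide +kernel⟩

theorem a5_four_group : ∃ a b : alternatingGroup (Fin 5), a ≠ 1 ∧ b ≠ 1 ∧ a ≠ b ∧
    a * a = 1 ∧ b * b = 1 ∧ a * b = b * a :=
  ⟨⟨swap 0 1 * swap 2 3, Equiv.Perm.mem_alternatingGroup.2 (by decide)⟩, ⟨swap 0 2 * swap 1 3, Equiv.Perm.mem_alternatingGroup.2 (by decide)⟩, by decide +kernel⟩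

theorem a5_inverts : ∀ z : alternatingGroup (Fin 5), z * z = 1 → z ≠ 1 →
    ∃ k : alternatingGroup (Fin 5), k ^ 3 = 1 ∧ k ≠ 1 ∧ z * k * z⁻¹ = k⁻¹ := by
  decide +kernel

theorem a5_inverted : ∀ k : alternatingGroup (Fin 5), k ^ 3 = 1 → k ≠ 1 →
    ∃ z : alternatingGroup (Fin 5), z * z = 1 ∧ z ≠ 1 ∧ z * k * z⁻¹ = k⁻¹ := by
  decide +kernel

theorem a5_four_normalizer : ∀ z z' : alternatingGroup (Fin 5), z * z = 1 → z ≠ 1 → z' * z' = 1 →
    z' ≠ 1 → z ≠ z' → z * z' = z' * z →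
    ∃ k : alternatingGroup (Fin 5), k ^ 3 = 1 ∧ k ≠ 1 ∧ k * z * k⁻¹ = z' ∧
      k * z' * k⁻¹ = z * z' := by
  decide +kernel

end H63.SmallExp
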