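/-
Fixed-point-free automorphisms of odd prime order inverted by an involution, acting on a 2-group
in which the squares of the displacements are trivial.
-/
import Mathlib

set_option autoImplicit false

namespace H63.SmallExp

open Finset

section Orbit

variable {A : Type*} [CommGroup A]

/-- The product over an orbit of a fixed-point-free automorphism of finite order is trivial. -/
theorem orbit_prod_eq_one (f : MulAut A) {n : ℕ} (hn : f ^ n = 1) (hfix : ∀ a, f a = a → a = 1)
    (x : A) : ∏ i ∈ range n, (f ^ i) x = 1 := by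
  apply hfix
  rw [map_prod]
  have h1 : ∀ i, f ((f ^ i) x) = (f ^ (i + 1)) x := fun i => by rw [pow_succ']; rfl
  simp_rw [h1]
  have h2 := Finset.prod_range_succ (fun i => (f ^ i) x) n
  have h3 := Finset.prod_range_succ' (fun i => (f ^ i) x) n
  rw [hn] at h2
  simp only [pow_zero, MulAut.one_apply] at h3
  rw [h3, MulAut.one_apply] at h2
  exact mul_right_cancel h2

end Orbit

section Aut

variable {Q : Type*} [Group Q]

/-- A power of a fixed-point-free automorphism of prime order. -/
theorem fpf_pow (f : MulAut Q) {p : ℕ} [Fact p.Prime] (hp : f ^ p = 1)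
    (hfix : ∀ a, f a = a → a = 1) {c : ℕ} (hc : ¬ p ∣ c) (a : Q) (ha : (f ^ c) a = a) : a = 1 := by
  apply hfix
  have hcop : Nat.Coprime c p := (Nat.coprime_comm.1 ((Fact.out : p.Prime).coprime_iff_not_dvd.2 hc))
  obtain ⟨d, hd⟩ := Nat.exists_mul_mod_eq_one_of_coprime hcop (Fact.out : p.Prime).one_lt
  have h1 : ∀ k : ℕ, ((f ^ c) ^ k) a = a := fun k => by
    induction k with
    | zero => rfl
    | succ k ih => rw [pow_succ, MulAut.mul_apply, ha, ih]
  have h2 := h1 d
  rw [← pow_mul, ← Nat.mod_add_div (c * d) p, pow_add, pow_mul, hp, one_pow, mul_one, hd.2,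
    pow_one] at h2
  exact h2

end Aut

section Center

variable {Q : Type*} [Group Q]

/-- The automorphism induced on the quotient by the center. -/
def centerMap (f : MulAut Q) : MulAut (Q ⧸ Subgroup.center Q) :=
  QuotientGroup.congr _ _ f (by
    ext x
    simp only [Subgroup.mem_map, Subgroup.mem_center_iff]
    constructor
    · rintro ⟨y, hy, rfl⟩ g
      have := congrArg f (hy (f.symm g))
      simpa using this
    · intro hx
      refine ⟨f.symm x, fun g => ?_, by simp⟩
      have := congrArg f.symm (hx (f g))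
      simpa using this)

theorem centerMap_mk (f : MulAut Q) (x : Q) :
    centerMap f (QuotientGroup.mk x) = QuotientGroup.mk (f x) := rfl

theorem centerMap_pow (f : MulAut Q) (k : ℕ) (x : Q) :
    ((centerMap f) ^ k) (QuotientGroup.mk x) = QuotientGroup.mk ((f ^ k) x) := by
  induction k generalizing x with
  | zero => rfl
  | succ k ih => rw [pow_succ, pow_succ, MulAut.mul_apply, MulAut.mul_apply, centerMap_mk, ih]

theorem centerMap_mul_apply (f g : MulAut Q) (x : Q) :
    centerMap (f * g) (QuotientGroup.mk x) = centerMap f (centerMap g (QuotientGroup.mk x)) := rfl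

theorem centerMap_fix [Finite Q] (f : MulAut Q) (hfix : ∀ a, f a = a → a = 1)
    (a : Q ⧸ Subgroup.center Q) (ha : centerMap f a = a) : a = 1 := by
  have hinj : Function.Injective (fun x : Q => x⁻¹ * f x) := by
    intro x y h
    have h' : x⁻¹ * f x = y⁻¹ * f y := h
    have : f (y * x⁻¹) = y * x⁻¹ := by
      rw [map_mul, map_inv]
      have h2 : f y = y * x⁻¹ * f x := by rw [mul_assoc, h', mul_inv_cancel_left]
      rw [h2]; group
    exact (mul_inv_eq_one.1 (hfix _ this)).symm
  have hsurj : Function.Surjective (fun b : Q ⧸ Subgroup.center Q => b⁻¹ * centerMap f b) := by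
    intro b
    obtain ⟨x, rfl⟩ := QuotientGroup.mk_surjective b
    obtain ⟨y, hy⟩ := (Finite.injective_iff_surjective.1 hinj) x
    exact ⟨QuotientGroup.mk y, by rw [← hy]; rfl⟩
  exact (Finite.injective_iff_surjective.2 hsurj)
    (show a⁻¹ * centerMap f a = 1⁻¹ * centerMap f 1 by rw [ha, map_one]; simp)

end Center

section Elementary

variable {p : ℕ} [Fact p.Prime]

/-- If `ρ` acts fixed-point-freely, with odd prime order, on a finite 2-group `Q`, is inverted by
the involution `z`, and `(v * z v) ^ 2 = 1` for all `v`, then `Q` is elementary abelian. -/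
theorem elementary_of_displacement (hp : p ≠ 2) : ∀ (n : ℕ) (Q : Type*) [Group Q] [Finite Q],
    Nat.card Q = n → IsPGroup 2 Q → ∀ ρ z : MulAut Q, ρ ^ p = 1 → (∀ v, z (z v) = v) →
    (∀ v, z (ρ v) = ρ⁻¹ (z v)) → (∀ v, ρ v = v → v = 1) → (∀ v, (v * z v) ^ 2 = 1) →
    (∀ v w : Q, v * w = w * v) ∧ ∀ v : Q, v ^ 2 = 1 := by
  intro n
  induction n using Nat.strong_induction_on with
  | _ n ih =>
  intro Q _ _ hn h2 ρ z hρ hzz hzρ hfix hsq
  classical
  rcases subsingleton_or_nontrivial Q with hs | hnt
  · exact ⟨fun v w => Subsingleton.elim _ _, fun v => Subsingleton.elim _ _⟩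
  have hpodd : Odd p := (Fact.out : p.Prime).odd_of_ne_two hp
  have hp2 : ¬ p ∣ 2 := fun h =>
    hp ((Nat.prime_dvd_prime_iff_eq (Fact.out : p.Prime) Nat.prime_two).1 h)
  set Z := Subgroup.center Q
  -- the quotient by the center is elementary abelian
  haveI : Nontrivial Z := h2.center_nontrivial
  have hlt : Nat.card (Q ⧸ Z) < n := by
    rw [← hn, Subgroup.card_eq_card_quotient_mul_card_subgroup Z]
    have h1 : 1 < Nat.card Z := Finite.one_lt_card
    have h3 : 0 < Nat.card (Q ⧸ Z) := Nat.card_pos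
    exact lt_mul_of_one_lt_right h3 h1
  obtain ⟨hqc, hq2⟩ := ih _ hlt (Q ⧸ Z) rfl (h2.to_quotient Z) (centerMap ρ) (centerMap z)
    (by
      ext b
      obtain ⟨x, rfl⟩ := QuotientGroup.mk_surjective b
      rw [centerMap_pow, hρ]; rfl)
    (fun b => by
      obtain ⟨x, rfl⟩ := QuotientGroup.mk_surjective b
      rw [centerMap_mk, centerMap_mk, hzz])
    (fun b => by
      obtain ⟨x, rfl⟩ := QuotientGroup.mk_surjective b
      rw [centerMap_mk, centerMap_mk, hzρ, centerMap_mk]
      apply (centerMap ρ).injective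
      rw [centerMap_mk, MulAut.apply_inv_self, MulAut.apply_inv_self])
    (fun b hb => centerMap_fix ρ hfix b hb)
    (fun b => by
      obtain ⟨x, rfl⟩ := QuotientGroup.mk_surjective b
      rw [centerMap_mk, ← QuotientGroup.mk_mul, ← QuotientGroup.mk_pow, hsq]; rfl)
  have hsqc : ∀ v : Q, v ^ 2 ∈ Z := fun v => by
    have := hq2 (QuotientGroup.mk v)
    rwa [← QuotientGroup.mk_pow, QuotientGroup.eq_one_iff] at this
  -- commutators
  let c : Q → Q → Q := fun v w => v * w * v⁻¹ * w⁻¹
  have hcZ : ∀ v w, c v w ∈ Z := fun v w => by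
    rw [← QuotientGroup.eq_one_iff]
    simp only [c, QuotientGroup.mk_mul, QuotientGroup.mk_inv]
    rw [hqc (QuotientGroup.mk v) (QuotientGroup.mk w)]
    group
  have hcc : ∀ v w x, x * c v w = c v w * x := fun v w x =>
    Subgroup.mem_center_iff.1 (hcZ v w) x
  have hvw : ∀ v w, v * w = c v w * (w * v) := fun v w => by simp only [c]; group
  have hc_r : ∀ v w w', c v (w * w') = c v w * c v w' := fun v w w' => by
    calc c v (w * w') = c v w * (w * c v w' * w⁻¹) := by simp only [c]; group
      _ = c v w * c v w' := by rw [hcc v w' w, mul_inv_cancel_right]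
  have hc_l : ∀ v v' w, c (v * v') w = c v w * c v' w := fun v v' w => by
    calc c (v * v') w = v * c v' w * v⁻¹ * c v w := by simp only [c]; group
      _ = c v w * c v' w := by rw [hcc v' w v, mul_inv_cancel_right, hcc v w]
  have hc2 : ∀ v w, c v w * c v w = 1 := fun v w => by
    rw [← hc_l, ← sq]
    have h := Subgroup.mem_center_iff.1 (hsqc v) w
    simp only [c]
    rw [← h]; group
  have hcsymm : ∀ v w, c v w = c w v := fun v w => by
    have h1 : c v w * c w v = 1 := by simp only [c]; group
    calc c v w = c v w * (c w v * c w v) := by rw [hc2, mul_one]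
      _ = c w v := by rw [← mul_assoc, h1, one_mul]
  have hcmap : ∀ (f : MulAut Q) v w, f (c v w) = c (f v) (f w) := fun f v w => by
    simp only [c, map_mul, map_inv]
  -- the linearised identity
  have hF : ∀ v w, c w v * c w (z v) * c (z w) v * z (c w v) = 1 := by
    intro v w
    have hsw : ∀ v : Q, v * z v * (v * z v) = 1 := fun v => by rw [← sq]; exact hsq v
    have e1 : v * w * z (v * w) = c w (z v) * (v * z v * (w * z w)) := by
      rw [map_mul]
      calc v * w * (z v * z w) = v * (w * z v) * z w := by group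
        _ = v * (c w (z v) * (z v * w)) * z w := by rw [← hvw]
        _ = c w (z v) * (v * z v * (w * z w)) := by
          rw [← mul_assoc v, hcc w (z v) v]; group
    set a := v * z v with ha
    set b := w * z w with hb
    have haa : a * a = 1 := hsw v
    have hbb : b * b = 1 := hsw w
    have h4 : c b a = 1 := by
      have := hsw (v * w)
      rw [e1] at this
      have hk := hcc w (z v)
      calc c b a = (c w (z v) * c w (z v)) * (a * b * (a * b)) := by
            rw [hc2, one_mul]
            have hba : b * a = c b a * (a * b) := hvw b a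
            calc c b a = c b a * (a * a) * (b * b) := by rw [haa, hbb, mul_one, mul_one]
              _ = a * (c b a * (a * b)) * b := by
                rw [← mul_assoc a (c b a), hcc b a a]; group
              _ = a * b * (a * b) := by rw [← hba]; group
        _ = c w (z v) * (a * b) * (c w (z v) * (a * b)) := by
            rw [← mul_assoc (c w (z v) * (a * b)) (c w (z v)) (a * b),
              mul_assoc (c w (z v)) (a * b) (c w (z v)), hk (a * b)]
            group
        _ = 1 := this
    rw [ha, hb, hc_l, hc_r, hc_r, ← hcmap z] at h4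
    rw [← h4]
    group
  -- average over the orbit
  have hcomm : ∀ v w : Q, v * w = w * v := by
    letI : CommGroup (Q ⧸ Z) := { (inferInstance : Group (Q ⧸ Z)) with mul_comm := hqc }
    letI : CommGroup Z := { (inferInstance : Group Z) with
      mul_comm := fun a b => Subtype.ext (Subgroup.mem_center_iff.1 b.2 a) }
    let σ : MulAut Q := (ρ ^ 2)⁻¹
    have hσp : σ ^ p = 1 := by
      simp only [σ, inv_pow, ← pow_mul]
      rw [mul_comm, pow_mul, hρ, one_pow, inv_one]
    have hσfix : ∀ v, σ v = v → v = 1 := fun v hv => fpf_pow ρ hρ hfix hp2 v (by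
      have := congrArg (ρ ^ 2 : MulAut Q) hv
      simp only [σ] at this
      rw [MulAut.apply_inv_self] at this
      exact this.symm)
    have hzpow : ∀ (m : ℕ) v, z ((ρ ^ m) v) = ((ρ ^ m)⁻¹) (z v) := by
      intro m
      induction m with
      | zero => intro v; simp
      | succ m ih =>
        intro v
        rw [pow_succ, MulAut.mul_apply, ih, hzρ, ← MulAut.mul_apply, ← mul_inv_rev,
          ← pow_succ', pow_succ]
    have hσm : ∀ m : ℕ, σ ^ m = (ρ ^ m)⁻¹ * (ρ ^ m)⁻¹ := fun m => by
      simp only [σ, inv_pow, ← pow_mul]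
      rw [← mul_inv_rev, ← pow_add]
      congr 2
      ring
    intro v w
    suffices h : c w v = 1 by
      have := hvw w v
      rw [h, one_mul] at this
      exact this.symm
    have hterm : ∀ m : ℕ,
        c w v * c w ((σ ^ m) (z v)) * c ((σ ^ m) (z w)) v * (σ ^ m) (z (c w v)) = 1 := by
      intro m
      have h := congrArg ((ρ ^ m)⁻¹ : MulAut Q) (hF ((ρ ^ m) v) ((ρ ^ m) w))
      rw [map_one, map_mul, map_mul, map_mul, hcmap, hcmap, hcmap] at h
      rw [← hcmap (ρ ^ m) w v, hzpow] at h
      simp only [MulAut.inv_apply_self, hzpow] at h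
      simp only [hσm, MulAut.mul_apply]
      exact h
    -- products of orbits
    have horb : ∀ x : Q, ∏ m ∈ range p, (QuotientGroup.mk ((σ ^ m) x) : Q ⧸ Z) = 1 := by
      intro x
      have := orbit_prod_eq_one (centerMap σ) (n := p)
        (by
          ext b
          obtain ⟨y, rfl⟩ := QuotientGroup.mk_surjective b
          rw [centerMap_pow, hσp]; rfl)
        (centerMap_fix σ hσfix) (QuotientGroup.mk x)
      simp_rw [centerMap_pow] at this
      exact this
    let φ : Q →* Z := MonoidHom.mk' (fun x => ⟨c w x, hcZ w x⟩) fun x y => Subtype.ext (hc_r w x y)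
    let ψ : Q →* Z := MonoidHom.mk' (fun x => ⟨c x v, hcZ x v⟩) fun x y => Subtype.ext (hc_l x y v)
    have hker : ∀ (χ : Q →* Z), (∀ x ∈ Z, χ x = 1) → ∀ x : Q,
        ∏ m ∈ range p, χ ((σ ^ m) x) = 1 := by
      intro χ hχ x
      let χ' : Q ⧸ Z →* Z := QuotientGroup.lift Z χ hχ
      have : ∀ m, χ ((σ ^ m) x) = χ' (QuotientGroup.mk ((σ ^ m) x)) := fun m => rfl
      simp_rw [this]
      rw [← map_prod, horb, map_one]
    have hφ := hker φ (fun x hx => Subtype.ext (by
      show c w x = 1
      simp only [c]; rw [Subgroup.mem_center_iff.1 hx w]; group)) (z v)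
    have hψ := hker ψ (fun x hx => Subtype.ext (by
      show c x v = 1
      simp only [c]; rw [← Subgroup.mem_center_iff.1 hx v]; group)) (z w)
    -- the central orbit
    have hzZ : ∀ (f : MulAut Q) (x : Q), x ∈ Z → f x ∈ Z := fun f x hx => by
      rw [Subgroup.mem_center_iff] at hx ⊢
      intro g
      have := congrArg f (hx (f.symm g))
      simpa using this
    let σZ : MulAut Z :=
      { toFun := fun x => ⟨σ x, hzZ σ x x.2⟩
        invFun := fun x => ⟨σ.symm x, hzZ σ.symm x x.2⟩
        left_inv := fun x => Subtype.ext (σ.symm_apply_apply _)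
        right_inv := fun x => Subtype.ext (σ.apply_symm_apply _)
        map_mul' := fun x y => Subtype.ext (map_mul σ (x : Q) y) }
    have hσZ : ∀ (m : ℕ) (x : Z), (((σZ ^ m) x : Z) : Q) = (σ ^ m) (x : Q) := by
      intro m
      induction m with
      | zero => intro x; rfl
      | succ m ih => intro x; rw [pow_succ, pow_succ, MulAut.mul_apply, MulAut.mul_apply, ih]; rfl
    have hθ := orbit_prod_eq_one σZ (n := p)
      (MulEquiv.ext fun x => Subtype.ext (by rw [hσZ, hσp]; rfl))
      (fun x hx => Subtype.ext (hσfix _ (congrArg Subtype.val hx)))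
      (⟨z (c w v), hzZ z _ (hcZ w v)⟩ : Z)
    have hall : ∏ m ∈ range p, ((⟨c w v, hcZ w v⟩ : Z) * φ ((σ ^ m) (z v)) * ψ ((σ ^ m) (z w)) *
        (σZ ^ m) ⟨z (c w v), hzZ z _ (hcZ w v)⟩) = 1 :=
      Finset.prod_eq_one fun m _ => Subtype.ext (by
        simp only [Subgroup.coe_mul, hσZ, φ, ψ, MonoidHom.mk'_apply, Subgroup.coe_one]
        exact hterm m)
    rw [Finset.prod_mul_distrib, Finset.prod_mul_distrib, Finset.prod_mul_distrib, hφ, hψ, hθ,
      mul_one, mul_one, mul_one, Finset.prod_const, Finset.card_range] at hall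
    have := congrArg Subtype.val hall
    simp only [SubmonoidClass.coe_pow, Subgroup.coe_one] at this
    obtain ⟨k, hk⟩ := hpodd
    rw [hk, pow_succ, pow_mul, sq, hc2, one_pow, one_mul] at this
    exact this
  refine ⟨hcomm, fun v => ?_⟩
  -- squares are inverted by `z`
  have hinv : ∀ x : Q, z (x ^ 2) = (x ^ 2)⁻¹ := fun x => by
    apply eq_inv_of_mul_eq_one_right
    rw [map_pow, ← (show Commute x (z x) from hcomm x (z x)).mul_pow, hsq]
  set u := v ^ 2 with hu
  have h1 : z u = u⁻¹ := hinv v
  have h2' : z (ρ u) = (ρ u)⁻¹ := by rw [hu, map_pow]; exact hinv (ρ v)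
  rw [hzρ, h1, map_inv, inv_inj] at h2'
  refine fpf_pow ρ hρ hfix hp2 u ?_
  rw [pow_two, MulAut.mul_apply, ← h2', MulAut.apply_inv_self]

end Elementary

section Module

variable {D : Type*} [CommGroup D]

/-- For a free involution on an elementary abelian 2-group, fixed points are displacements. -/
theorem exists_displacement (h2 : ∀ v : D, v * v = 1) (ρ z : MulAut D)
    (hρ : ρ ^ 3 = 1 ∨ ρ ^ 5 = 1) (hzρ : ∀ v, z (ρ v) = ρ⁻¹ (z v))
    (hfix : ∀ v, ρ v = v → v = 1) (w : D) (hw : z w = w) : ∃ u, u * z u = w := by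
  have hwi : w = w⁻¹ := eq_inv_of_mul_eq_one_left (h2 w)
  have hz2 : ∀ v : D, z (ρ (ρ v)) = ρ⁻¹ ((ρ⁻¹ : MulAut D) (z v)) := fun v => by rw [hzρ, hzρ]
  rcases hρ with h | h
  · refine ⟨ρ w, ?_⟩
    have ho := orbit_prod_eq_one ρ h hfix w
    have hinv : ρ⁻¹ w = ρ (ρ w) := by
      apply ρ.injective
      rw [MulAut.apply_inv_self]
      calc w = (ρ ^ 3) w := by rw [h]; rfl
        _ = _ := by simp [pow_succ, MulAut.mul_apply]
    rw [hzρ, hw, hinv]
    simp only [Finset.prod_range_succ, Finset.prod_range_zero, pow_succ, pow_zero,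
      MulAut.mul_apply, MulAut.one_apply, one_mul] at ho
    rw [mul_assoc] at ho
    conv_rhs => rw [hwi]
    exact eq_inv_of_mul_eq_one_right ho
  · refine ⟨ρ w * ρ (ρ w), ?_⟩
    have ho := orbit_prod_eq_one ρ h hfix w
    have hinv : ρ⁻¹ w = ρ (ρ (ρ (ρ w))) := by
      apply ρ.injective
      rw [MulAut.apply_inv_self]
      calc w = (ρ ^ 5) w := by rw [h]; rfl
        _ = _ := by simp [pow_succ, MulAut.mul_apply]
    have hinv2 : (ρ⁻¹ : MulAut D) ((ρ⁻¹ : MulAut D) w) = ρ (ρ (ρ w)) := by
      rw [hinv]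
      exact MulAut.inv_apply_self D ρ _
    rw [map_mul, hzρ, hw, hz2, hw, hinv2, hinv]
    simp only [Finset.prod_range_succ, Finset.prod_range_zero, pow_succ, pow_zero,
      MulAut.mul_apply, MulAut.one_apply, one_mul] at ho
    rw [mul_assoc, mul_assoc, mul_assoc] at ho
    conv_rhs => rw [hwi]
    rw [← eq_inv_of_mul_eq_one_right ho]
    ac_rfl

/-- In an elementary abelian group with `φ v = v * z v` for a free involution, `|D| = |ker φ|²`. -/
theorem card_eq_sq_fixed [Finite D] (h2 : ∀ v : D, v * v = 1) (ρ z : MulAut D)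
    (hρ : ρ ^ 3 = 1 ∨ ρ ^ 5 = 1) (hzz : ∀ v, z (z v) = v) (hzρ : ∀ v, z (ρ v) = ρ⁻¹ (z v))
    (hfix : ∀ v, ρ v = v → v = 1) : Nat.card D = Nat.card {v : D // z v = v} ^ 2 := by
  let φ : D →* D := MonoidHom.mk' (fun v => v * z v) fun a b => by rw [map_mul]; ac_rfl
  have hker : ∀ v, v ∈ φ.ker ↔ z v = v := fun v => by
    rw [MonoidHom.mem_ker]
    show v * z v = 1 ↔ _
    constructor
    · intro h
      exact (eq_inv_of_mul_eq_one_right h).trans (eq_inv_of_mul_eq_one_right (h2 v)).symm
    · intro h; rw [h, h2]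
  have hran : ∀ v, v ∈ φ.range ↔ z v = v := fun v => by
    constructor
    · rintro ⟨u, rfl⟩
      show z (u * z u) = u * z u
      rw [map_mul, hzz, mul_comm]
    · intro h
      exact exists_displacement h2 ρ z hρ hzρ hfix v h
  have hq : Nat.card (D ⧸ φ.ker) = Nat.card φ.range :=
    Nat.card_congr (QuotientGroup.quotientKerEquivRange φ).toEquiv
  rw [Subgroup.card_eq_card_quotient_mul_card_subgroup φ.ker, hq, sq,
    Nat.card_congr (Equiv.subtypeEquivRight hran), Nat.card_congr (Equiv.subtypeEquivRight hker)]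

/-- In an elementary abelian group on which a four-group `{1, z₁, z₂, z₃}` acts, permuted by a
fixed-point-free `u` of order three, displacements of `z₁` are fixed by `u z₁ u⁻¹`. -/
theorem four_fixed_eq (h2 : ∀ v : D, v * v = 1) (u z : MulAut D) (hu : u ^ 3 = 1)
    (hfix : ∀ v, u v = v → v = 1) (hzz : ∀ v, z (z v) = v)
    (hcomm : ∀ v, z (u (z (u⁻¹ v))) = u (z (u⁻¹ (z v))))
    (hmul : ∀ v, z (u (z (u⁻¹ v))) = u (u (z (u⁻¹ (u⁻¹ v))))) (w : D) (hw : ∃ v, v * z v = w) :
    u (z (u⁻¹ w)) = w := by
  obtain ⟨v, rfl⟩ := hw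
  let φ : MulAut D → D →* D := fun f => MonoidHom.mk' (fun v => v * f v) fun a b => by
    rw [map_mul]; ac_rfl
  set z2 : MulAut D := u * z * u⁻¹ with hz2
  set z3 : MulAut D := u * z2 * u⁻¹ with hz3
  have e2 : ∀ v, z2 v = u (z (u⁻¹ v)) := fun v => rfl
  have e3 : ∀ v, z3 v = u (z2 (u⁻¹ v)) := fun v => rfl
  have hc : ∀ v, z (z2 v) = z2 (z v) := hcomm
  have hm : ∀ v, z (z2 v) = z3 v := hmul
  have hu3 : ∀ v, u (u (u v)) = v := fun v => by
    calc u (u (u v)) = (u ^ 3) v := by simp [pow_succ, MulAut.mul_apply]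
      _ = v := by rw [hu]; rfl
  have hsum : ∀ x, x * u x * u (u x) = 1 := fun x => by
    have := orbit_prod_eq_one u hu hfix x
    simpa [Finset.prod_range_succ, pow_succ, MulAut.mul_apply] using this
  -- `M` commutes with `u`
  let M : D → D := fun x => φ z (φ z2 x)
  have hMdef : ∀ x, M x = x * z2 x * (z x * z3 x) := fun x => by
    show x * z2 x * z (x * z2 x) = _
    rw [map_mul, hm]
  have hz31 : ∀ x, u (z3 x) = z (u x) := fun x => by
    rw [e3, e2]
    have h1 : u⁻¹ (u⁻¹ x) = u x := by
      apply u.injective; apply u.injective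
      rw [MulAut.apply_inv_self, MulAut.apply_inv_self, hu3]
    rw [h1, hu3]
  have hMu : ∀ x, u (M x) = M (u x) := fun x => by
    have a1 : u (z x) = z2 (u x) := by rw [e2, MulAut.inv_apply_self]
    have a2 : u (z2 x) = z3 (u x) := by rw [e3, MulAut.inv_apply_self]
    rw [hMdef, hMdef, map_mul, map_mul, map_mul, hz31, a1, a2]
    ac_rfl
  have hMM' : ∀ x, φ z2 (φ z x) = M x := fun x => by
    show x * z x * z2 (x * z x) = x * z2 x * z (x * z2 x)
    rw [map_mul, map_mul, hc]
    ac_rfl
  -- the two sandwiches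
  have s0 : ∀ x, φ z (φ z x) = 1 := fun x => by
    show x * z x * z (x * z x) = 1
    rw [map_mul, hzz, mul_comm (z x) x, h2]
  have s1 : ∀ x, φ z (u (φ z x)) = u (M x) := fun x => by
    have : u (φ z x) = φ z2 (u x) := by
      show u (x * z x) = u x * z2 (u x)
      rw [e2, MulAut.inv_apply_self, map_mul]
    rw [this, hMu]
  have s2 : ∀ x, φ z (u (u (φ z x))) = u (u (M x)) := fun x => by
    apply u.injective
    rw [hu3]
    show u (u (u (φ z x)) * z (u (u (φ z x)))) = M x
    rw [map_mul, hu3, ← hMM' x]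
    congr 1
    rw [e2]
    congr 2
    apply u.injective
    rw [MulAut.apply_inv_self, hu3]
  have hM1 : ∀ x, M x = 1 := fun x => by
    have h := congrArg (φ z) (hsum (φ z x))
    rw [map_one, map_mul, map_mul, s0, s1, s2, one_mul] at h
    calc M x = M x * (u (M x) * u (u (M x))) := by rw [h, mul_one]
      _ = 1 := by rw [← mul_assoc]; exact hsum _
  have h := hM1 v
  rw [← hMM'] at h
  change v * z v * z2 (v * z v) = 1 at h
  rw [e2] at h
  exact (eq_inv_of_mul_eq_one_right h).trans (eq_inv_of_mul_eq_one_right (h2 _)).symm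

end Module

end H63.SmallExp
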