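/-
Finite groups all of whose elements have order at most five: elementary consequences.
-/
import Cfsg.Agent.H63.SmallExp.Fpf
import Cfsg.Agent.H8.Coprime
import Cfsg.Agent.H1.Cores

set_option autoImplicit false

namespace H63.SmallExp

open Subgroup

universe u v

/-- All element orders are at most five. -/
def Hyp (G : Type u) [Group G] : Prop := ∀ g : G, orderOf g ≤ 5

variable {G : Type u} [Group G]

theorem Hyp.subgroup (h : Hyp G) (H : Subgroup G) : Hyp H := fun g => by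
  rw [← Subgroup.orderOf_coe]; exact h g

theorem Hyp.of_injective {H : Type v} [Group H] (h : Hyp G) (f : H →* G)
    (hf : Function.Injective f) : Hyp H := fun g => by
  rw [← orderOf_injective f hf g]; exact h _

theorem Hyp.of_surjective [Finite G] {H : Type v} [Group H] (h : Hyp G) (f : G →* H)
    (hf : Function.Surjective f) : Hyp H := fun y => by
  obtain ⟨x, rfl⟩ := hf y
  exact (Nat.le_of_dvd (orderOf_pos x) (orderOf_map_dvd f x)).trans (h x)

theorem Hyp.quotient [Finite G] (h : Hyp G) (N : Subgroup G) [N.Normal] : Hyp (G ⧸ N) :=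
  h.of_surjective (QuotientGroup.mk' N) (QuotientGroup.mk'_surjective N)

variable [Finite G]

theorem orderOf_cases (h : Hyp G) (g : G) :
    orderOf g = 1 ∨ orderOf g = 2 ∨ orderOf g = 3 ∨ orderOf g = 4 ∨ orderOf g = 5 := by
  have h1 := h g
  have h2 := orderOf_pos g
  omega

theorem prime_cases (h : Hyp G) {p : ℕ} (hp : p.Prime) (hd : p ∣ Nat.card G) :
    p = 2 ∨ p = 3 ∨ p = 5 := by
  haveI := Fact.mk hp
  obtain ⟨g, hg⟩ := exists_prime_orderOf_dvd_card' (G := G) p hd
  have := h g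
  rw [hg] at this
  interval_cases p <;> first | omega | exact absurd hp (by norm_num)

theorem eppo (h : Hyp G) (g : G) : IsPrimePow (orderOf g) ∨ g = 1 := by
  rcases orderOf_cases h g with e | e | e | e | e
  · exact Or.inr (orderOf_eq_one_iff.1 e)
  · exact Or.inl (e ▸ Nat.prime_two.isPrimePow)
  · exact Or.inl (e ▸ Nat.prime_three.isPrimePow)
  · exact Or.inl (e ▸ ⟨2, 2, Nat.prime_two.prime, by norm_num, by norm_num⟩)
  · exact Or.inl (e ▸ Nat.prime_five.isPrimePow)

theorem commute_coprime (h : Hyp G) {a b : G} (hab : Commute a b)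
    (hc : Nat.Coprime (orderOf a) (orderOf b)) (ha : a ≠ 1) (hb : b ≠ 1) : False := by
  have h1 := hab.orderOf_mul_eq_mul_orderOf_of_coprime hc
  have h2 := h (a * b)
  rw [h1] at h2
  have ha' : orderOf a ≠ 1 := fun e => ha (orderOf_eq_one_iff.1 e)
  have hb' : orderOf b ≠ 1 := fun e => hb (orderOf_eq_one_iff.1 e)
  have := orderOf_pos a
  have := orderOf_pos b
  have hle : orderOf a ≤ 2 ∨ orderOf b ≤ 2 := by
    by_contra hcon
    push Not at hcon
    nlinarith
  rcases hle with hl | hl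
  · have e : orderOf a = 2 := by omega
    rw [e] at h2 hc
    have : orderOf b = 2 := by omega
    rw [this] at hc
    norm_num at hc
  · have e : orderOf b = 2 := by omega
    rw [e] at h2 hc
    have : orderOf a = 2 := by omega
    rw [this] at hc
    norm_num at hc

/-- The centraliser of a nontrivial `p`-element is a `p`-group. -/
theorem cent_isPGroup (h : Hyp G) {p : ℕ} [hp : Fact p.Prime] {x : G} (hx : x ≠ 1)
    (hxp : ∃ k : ℕ, orderOf x = p ^ k) : IsPGroup p (centralizer ({x} : Set G)) := by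
  rw [IsPGroup.iff_orderOf]
  rintro ⟨y, hy⟩
  rw [Subgroup.orderOf_mk]
  by_cases hy1 : y = 1
  · exact ⟨0, by simp [hy1]⟩
  rcases eppo h y with hpp | h1
  · obtain ⟨q, k, hq, hk, e⟩ := hpp
    by_cases hqp : q = p
    · exact ⟨k, by rw [← e, hqp]⟩
    · exfalso
      obtain ⟨j, hj⟩ := hxp
      refine commute_coprime h (Subgroup.mem_centralizer_singleton_iff.1 hy).symm ?_ hx hy1
      rw [hj, ← e]
      exact Nat.Coprime.pow _ _ ((Nat.coprime_primes hp.out hq.nat_prime).2 (Ne.symm hqp))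
  · exact absurd h1 hy1

theorem orderOf_eq_prime_of_odd (h : Hyp G) {p : ℕ} (hp : p.Prime) (h2 : p ≠ 2) {x : G}
    (hx : x ≠ 1) (hxp : ∃ k : ℕ, orderOf x = p ^ k) : orderOf x = p := by
  obtain ⟨k, hk⟩ := hxp
  have := h x
  rw [hk] at this
  have h3 : 3 ≤ p := by have := hp.two_le; omega
  rcases k with _ | _ | k
  · exact absurd (orderOf_eq_one_iff.1 (by simpa using hk)) hx
  · simpa using hk
  · exfalso
    have : 9 ≤ p ^ (k + 2) :=
      calc 9 = 3 ^ 2 := by norm_num
        _ ≤ 3 ^ (k + 2) := Nat.pow_le_pow_right (by norm_num) (by omega)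
        _ ≤ p ^ (k + 2) := Nat.pow_le_pow_left h3 _
    rw [show k + 1 + 1 = k + 2 from rfl] at *
    omega

theorem pow_four_of_isPGroup (h : Hyp G) {S : Subgroup G} (hS : IsPGroup 2 S) {x : G} (hx : x ∈ S) :
    x ^ 4 = 1 := by
  obtain ⟨k, hk⟩ := (IsPGroup.iff_orderOf.1 hS) ⟨x, hx⟩
  rw [Subgroup.orderOf_mk] at hk
  have := h x
  rw [hk] at this
  apply orderOf_dvd_iff_pow_eq_one.1
  rw [hk, show (4 : ℕ) = 2 ^ 2 by norm_num]
  apply Nat.pow_dvd_pow
  by_contra hcon
  have : 2 ^ 3 ≤ 2 ^ k := Nat.pow_le_pow_right (by norm_num) (by omega)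
  omega

/-- An element of odd prime order has no nontrivial fixed point on a 2-group. -/
theorem fpf (h : Hyp G) {Q : Subgroup G} (hQ : IsPGroup 2 Q) {u : G} {p : ℕ} (hp : p.Prime)
    (h2 : p ≠ 2) (hu : orderOf u = p) {x : G} (hx : x ∈ Q) (hc : Commute u x) : x = 1 := by
  by_contra hx1
  obtain ⟨k, hk⟩ := (IsPGroup.iff_orderOf.1 hQ) ⟨x, hx⟩
  rw [Subgroup.orderOf_mk] at hk
  refine commute_coprime h hc ?_ ?_ hx1
  · rw [hu, hk]
    exact Nat.Coprime.pow_right _ ((Nat.coprime_primes hp Nat.prime_two).2 h2)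
  · intro e
    rw [e, orderOf_one] at hu
    exact hp.ne_one hu.symm

/-- An odd `p`-group normalising a nontrivial 2-group has order dividing `p`. -/
theorem card_dvd_of_normalizes (h : Hyp G) {p : ℕ} [hp : Fact p.Prime] (h2 : p ≠ 2)
    {P Q : Subgroup G} (hP : IsPGroup p P) (hQ : IsPGroup 2 Q) (hQ1 : Q ≠ ⊥)
    (hPQ : P ≤ normalizer (Q : Set G)) : Nat.card P ∣ p := by
  obtain ⟨n, hn⟩ := IsPGroup.iff_card.1 hP
  rcases le_or_gt n 1 with hle | hgt
  · rw [hn]; calc p ^ n ∣ p ^ 1 := Nat.pow_dvd_pow _ hle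
      _ = p := pow_one p
  exfalso
  obtain ⟨K, hK⟩ := Sylow.exists_subgroup_card_pow_prime (G := P) p (n := 2)
    (hn ▸ Nat.pow_dvd_pow _ hgt)
  set A := K.map P.subtype with hA
  have hAc : Nat.card A = p ^ 2 := by
    rw [hA, Subgroup.card_subtype, hK]
  have hel : Cfsg.IsElementaryAbelian p A := by
    refine ⟨⟨⟨fun a b => ?_⟩⟩, fun a ha => ?_⟩
    · exact @mul_comm _ (IsPGroup.commGroupOfCardEqPrimeSq hAc).toCommMonoid.toCommSemigroup.toCommMagma a b
    · by_cases ha1 : a = 1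
      · simp [ha1]
      · have hpA : IsPGroup p A := IsPGroup.of_card hAc
        obtain ⟨k, hk⟩ := (IsPGroup.iff_orderOf.1 hpA) ⟨a, ha⟩
        rw [Subgroup.orderOf_mk] at hk
        rw [← orderOf_eq_prime_of_odd h hp.out h2 ha1 ⟨k, hk⟩]
        exact pow_orderOf_eq_one a
  have hAP : A ≤ P := by rw [hA]; exact Subgroup.map_subtype_le _
  apply hQ1
  rw [eq_bot_iff]
  refine H8.generation_elements hel hAc.ge (hAP.trans hPQ) ?_ fun a ha ha1 => ?_
  · obtain ⟨m, hm⟩ := IsPGroup.iff_card.1 hQ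
    rw [hm]
    exact fun hd => h2 ((Nat.prime_dvd_prime_iff_eq hp.out Nat.prime_two).1 (hp.out.dvd_of_dvd_pow hd))
  · rintro x ⟨hx, hxa⟩
    rw [Subgroup.mem_bot]
    obtain ⟨k, hk⟩ := (IsPGroup.iff_orderOf.1 (hP.to_le hAP)) ⟨a, ha⟩
    rw [Subgroup.orderOf_mk] at hk
    exact fpf h hQ hp.out h2 (orderOf_eq_prime_of_odd h hp.out h2 ha1 ⟨k, hk⟩) hx
      (Subgroup.mem_centralizer_singleton_iff.1 hxa).symm

omit [Finite G] in
/-- Conjugation by a normalising element, as an automorphism. -/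
noncomputable def cj {Q : Subgroup G} {g : G} (hg : g ∈ normalizer (Q : Set G)) : MulAut Q :=
  Q.normalizerMonoidHom ⟨g, hg⟩

omit [Finite G] in
theorem cj_apply {Q : Subgroup G} {g : G} (hg : g ∈ normalizer (Q : Set G)) (x : Q) :
    ((cj hg x : Q) : G) = g * x * g⁻¹ := rfl

omit [Finite G] in
theorem cj_inv_apply {Q : Subgroup G} {g : G} (hg : g ∈ normalizer (Q : Set G)) (x : Q) :
    (((cj hg)⁻¹ x : Q) : G) = g⁻¹ * x * g := by
  have : (cj hg)⁻¹ = cj (inv_mem hg) := by
    rw [cj, cj, ← map_inv]; rfl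
  rw [this, cj_apply, inv_inv]

omit [Finite G] in
theorem cj_pow_eq_one {Q : Subgroup G} {g : G} (hg : g ∈ normalizer (Q : Set G)) {n : ℕ}
    (hn : g ^ n = 1) : (cj hg) ^ n = 1 := by
  rw [cj, ← map_pow]
  have : (⟨g, hg⟩ : normalizer (Q : Set G)) ^ n = 1 := Subtype.ext hn
  rw [this, map_one]

/-- The hypotheses of the fixed-point-free lemmas for conjugation automorphisms. -/
theorem cj_facts (h : Hyp G) {Q : Subgroup G} (hQ : IsPGroup 2 Q) {u z : G} {p : ℕ} (hp : p.Prime)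
    (h2 : p ≠ 2) (hu : orderOf u = p) (hz : z * z = 1) (hinv : z * u * z⁻¹ = u⁻¹)
    (huQ : u ∈ normalizer (Q : Set G)) (hzQ : z ∈ normalizer (Q : Set G)) :
    (cj huQ) ^ p = 1 ∧ (∀ v, cj hzQ (cj hzQ v) = v) ∧
      (∀ v, cj hzQ (cj huQ v) = (cj huQ)⁻¹ (cj hzQ v)) ∧ (∀ v, cj huQ v = v → v = 1) := by
  have hzi : z⁻¹ = z := inv_eq_of_mul_eq_one_right hz
  refine ⟨cj_pow_eq_one huQ (hu ▸ pow_orderOf_eq_one u), fun v => Subtype.ext ?_,
    fun v => Subtype.ext ?_, fun v hv => Subtype.ext ?_⟩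
  · rw [cj_apply, cj_apply, hzi]
    calc z * (z * v * z) * z = (z * z) * v * (z * z) := by group
      _ = v := by rw [hz, one_mul, mul_one]
  · rw [cj_apply, cj_apply, cj_inv_apply, cj_apply]
    have e : z * u = u⁻¹ * z := by rw [← hinv]; group
    have e' : u⁻¹ * z⁻¹ = z⁻¹ * u := by
      have := congrArg (·⁻¹) e
      simpa [mul_inv_rev] using this
    calc z * (u * (v : G) * u⁻¹) * z⁻¹ = (z * u) * v * (u⁻¹ * z⁻¹) := by group
      _ = u⁻¹ * (z * v * z⁻¹) * u := by rw [e, e']; group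
  · have := congrArg Subtype.val hv
    rw [cj_apply, mul_inv_eq_iff_eq_mul] at this
    exact fpf h hQ hp h2 hu v.2 this

/-- A 2-group normalised by a dihedral group of order `2p` is elementary abelian. -/
theorem elementary_of_inverting (h : Hyp G) {Q : Subgroup G} (hQ : IsPGroup 2 Q) {u z : G} {p : ℕ}
    [hp : Fact p.Prime] (h2 : p ≠ 2) (hu : orderOf u = p) (hz : z * z = 1)
    (hinv : z * u * z⁻¹ = u⁻¹) (huQ : u ∈ normalizer (Q : Set G))
    (hzQ : z ∈ normalizer (Q : Set G)) : Cfsg.IsElementaryAbelian 2 Q := by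
  obtain ⟨f1, f2, f3, f4⟩ := cj_facts h hQ hp.out h2 hu hz hinv huQ hzQ
  have hz2 : IsPGroup 2 (zpowers z) := by
    rw [IsPGroup.iff_card, Nat.card_zpowers]
    rcases (Nat.dvd_prime Nat.prime_two).1
      (orderOf_dvd_of_pow_eq_one (show z ^ 2 = 1 by rw [sq]; exact hz)) with e | e
    · exact ⟨0, by rw [e, pow_zero]⟩
    · exact ⟨1, by rw [e, pow_one]⟩
  have hS : IsPGroup 2 (zpowers z ⊔ Q : Subgroup G) :=
    IsPGroup.to_sup_of_normal_right' hz2 hQ (by rwa [zpowers_le])
  obtain ⟨hc, hs⟩ := elementary_of_displacement h2 _ Q rfl hQ (cj huQ) (cj hzQ) f1 f2 f3 f4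
    (fun v => Subtype.ext (by
      simp only [SubmonoidClass.coe_pow, Subgroup.coe_mul, cj_apply, Subgroup.coe_one]
      have h4 := pow_four_of_isPGroup h hS
        (mul_mem (mem_sup_right v.2) (mem_sup_left (mem_zpowers z)))
      rw [inv_eq_of_mul_eq_one_right hz, ← h4]
      simp only [pow_succ, pow_zero, one_mul, mul_assoc]))
  exact ⟨⟨⟨hc⟩⟩, fun a ha => congrArg Subtype.val (hs ⟨a, ha⟩)⟩

/-- An involution inverting an element of odd prime order acts freely on an elementary group. -/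
theorem card_eq_sq_centralizer (h : Hyp G) {D : Subgroup G} (hD : Cfsg.IsElementaryAbelian 2 D)
    {u z : G} {p : ℕ} (hp : p.Prime) (h2 : p ≠ 2) (hu : orderOf u = p) (hz : z * z = 1)
    (hinv : z * u * z⁻¹ = u⁻¹) (huD : u ∈ normalizer (D : Set G))
    (hzD : z ∈ normalizer (D : Set G)) :
    Nat.card D = Nat.card ↥(D ⊓ centralizer ({z} : Set G)) ^ 2 := by
  haveI := hD.1
  have hQ : IsPGroup 2 D := by
    rw [IsPGroup.iff_orderOf]
    intro x
    rcases (Nat.dvd_prime Nat.prime_two).1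
      (orderOf_dvd_of_pow_eq_one (show x ^ 2 = 1 from Subtype.ext (hD.2 x x.2))) with e | e
    · exact ⟨0, by rw [e, pow_zero]⟩
    · exact ⟨1, by rw [e, pow_one]⟩
  obtain ⟨f1, f2, f3, f4⟩ := cj_facts h hQ hp h2 hu hz hinv huD hzD
  have hp' : p = 3 ∨ p = 5 := by
    have := h u
    rw [hu] at this
    have h2le := hp.two_le
    interval_cases p <;> first | omega | exact absurd hp (by norm_num)
  have hsq : ∀ v : D, v * v = 1 := fun v => Subtype.ext (by
    have := hD.2 v v.2; rw [sq] at this; simpa using this)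
  letI : CommGroup D := { (inferInstance : Group D) with mul_comm := hD.1.1.1 }
  have := card_eq_sq_fixed (D := D) hsq (cj huD) (cj hzD)
    (by rcases hp' with rfl | rfl
        · exact Or.inl f1
        · exact Or.inr f1) f2 f3 f4
  rw [this]
  congr 1
  refine Nat.card_congr
    ⟨fun v => ⟨v.1.1, v.1.2, Subgroup.mem_centralizer_singleton_iff.2 ?_⟩,
     fun v => ⟨⟨v.1, v.2.1⟩, Subtype.ext ?_⟩, fun v => rfl, fun v => rfl⟩
  · have := congrArg Subtype.val v.2
    rw [cj_apply, mul_inv_eq_iff_eq_mul] at this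
    exact this.symm
  · have := Subgroup.mem_centralizer_singleton_iff.1 v.2.2
    rw [cj_apply, ← this]; group

omit [Finite G] in
theorem eq_one_of_conj_mem {R P : Subgroup G} [R.Normal] (hdis : Disjoint R P) {x u : G}
    (hx : x ∈ R) (hu : u ∈ P) (hn : x * u * x⁻¹ ∈ P) : Commute x u := by
  have h1 : x * u * x⁻¹ * u⁻¹ ∈ R := by
    have : x * (u * x⁻¹ * u⁻¹) ∈ R :=
      mul_mem hx (Subgroup.Normal.conj_mem (inferInstance : R.Normal) _ (inv_mem hx) u)
    convert this using 1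
    group
  have h2 : x * u * x⁻¹ * u⁻¹ = 1 :=
    Subgroup.disjoint_def.1 hdis h1 (mul_mem hn (inv_mem hu))
  exact commutatorElement_eq_one_iff_commute.1 h2

end H63.SmallExp
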