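/-
Structure of groups with element orders at most five having a nontrivial 2-core and more than one
Sylow 2-subgroup.
-/
import Cfsg.Agent.H63.SmallExp.Basic
import Cfsg.Agent.H63.SmallExp.AltFacts
import Cfsg.Agent.H25.RealOddMain
import Cfsg.Agent.H62.Basic
import Cfsg.Agent.H1.Hall
import Cfsg.Agent.H30.EPPO

set_option autoImplicit false

namespace H63.SmallExp

open Subgroup

universe u

/-- The classification asserted for groups with element orders at most five. -/
def Concl (G : Type u) [Group G] : Prop :=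
  Nonempty (G ≃* ↥(alternatingGroup (Fin 6))) ∨
    ∃ (N : Subgroup G) (_ : N.Normal), Cfsg.IsElementaryAbelian 2 N ∧
      Nonempty (G ⧸ N ≃* ↥(alternatingGroup (Fin 5)))

variable {G : Type u} [Group G]

theorem isPGroup_two_of_elementary {D : Subgroup G} (hD : Cfsg.IsElementaryAbelian 2 D) :
    IsPGroup 2 D := fun x => ⟨1, Subtype.ext (by simpa using hD.2 x x.2)⟩

variable [Finite G]

/-- In a group with element orders at most five, an involution normalising a subgroup of odd prime
order inverts it. -/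
theorem inverts (h : Hyp G) {u z : G} {p : ℕ} [hp : Fact p.Prime] (h2 : p ≠ 2)
    (hu : orderOf u = p) (hz : z * z = 1) (hz1 : z ≠ 1)
    (hn : z * u * z⁻¹ ∈ zpowers u) : z * u * z⁻¹ = u⁻¹ := by
  have hzi : z⁻¹ = z := inv_eq_of_mul_eq_one_right hz
  set w := z * u * z⁻¹ * u with hw
  have hwu : w ∈ zpowers u := mul_mem hn (mem_zpowers u)
  have hc : Commute u (z * u * z⁻¹) := by
    obtain ⟨i, hi⟩ := mem_zpowers_iff.1 hn
    rw [← hi]; exact (Commute.refl u).zpow_right i
  have hzw : Commute z w := by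
    have : z * w * z⁻¹ = w := by
      rw [hw]
      calc z * (z * u * z⁻¹ * u) * z⁻¹ = (z * z) * u * (z⁻¹ * u * z⁻¹) := by group
        _ = u * (z * u * z⁻¹) := by rw [hz, one_mul, hzi]
        _ = z * u * z⁻¹ * u := hc.eq
    exact mul_inv_eq_iff_eq_mul.1 this
  by_cases hw1 : w = 1
  · exact eq_inv_of_mul_eq_one_left hw1
  exfalso
  have hzo : orderOf z = 2 := orderOf_eq_prime (by rw [sq]; exact hz) hz1
  have hwo : orderOf w = p := by
    rcases (Nat.dvd_prime hp.out).1 (hu ▸ orderOf_dvd_of_mem_zpowers hwu) with e | e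
    · exact absurd (orderOf_eq_one_iff.1 e) hw1
    · exact e
  refine commute_coprime h hzw ?_ hz1 hw1
  rw [hzo, hwo]
  exact (Nat.coprime_primes Nat.prime_two hp.out).2 (Ne.symm h2)

/-- A group with a nontrivial 2-core and several Sylow 2-subgroups. -/
theorem local_structure (h : Hyp G) (hne : Cfsg.pCore 2 G ≠ ⊥)
    (hnc : Nat.card (Sylow 2 G) ≠ 1) (hIH : ¬ Group.IsSolvable G → Concl G) :
    Cfsg.IsElementaryAbelian 2 (Cfsg.pCore 2 G) ∧
      ((∃ (p : ℕ) (u z : G), p.Prime ∧ p ≠ 2 ∧ orderOf u = p ∧ z * z = 1 ∧ z ∉ Cfsg.pCore 2 G ∧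
          z * u * z⁻¹ = u⁻¹ ∧ Nat.card G = Nat.card (Cfsg.pCore 2 G) * (2 * p)) ∨
        ∃ f : G →* ↥(alternatingGroup (Fin 5)), Function.Surjective f ∧ f.ker = Cfsg.pCore 2 G) := by
  classical
  haveI : Fact (Nat.Prime 2) := ⟨Nat.prime_two⟩
  set D := Cfsg.pCore 2 G with hDdef
  haveI hDn : D.Normal := H1.pCore_normal' 2 G
  have hD : IsPGroup 2 D := H1.isPGroup_pCore 2 G
  by_cases hs : Group.IsSolvable G
  swap
  · -- non-solvable case
    rcases hIH hs with ⟨⟨e⟩⟩ | ⟨N, hNn, hN, ⟨e⟩⟩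
    · exfalso
      haveI : IsSimpleGroup ↥(alternatingGroup (Fin 6)) :=
        alternatingGroup.isSimpleGroup (α := Fin 6) (by simp)
      haveI : IsSimpleGroup G := e.isSimpleGroup_congr.2 inferInstance
      rcases hDn.eq_bot_or_eq_top with hb | ht
      · exact hne hb
      · have h2 : IsPGroup 2 (⊤ : Subgroup G) := ht ▸ hD
        exact hs (H30.isSolvable_of_isPGroup (h2.of_equiv Subgroup.topEquiv))
    · haveI := hNn
      have hND : N ≤ D := H1.le_pCore (isPGroup_two_of_elementary hN)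
      have hDN : D ≤ N := by
        haveI : (D.map (QuotientGroup.mk' N)).Normal :=
          hDn.map _ (QuotientGroup.mk'_surjective N)
        haveI : IsSimpleGroup (G ⧸ N) := e.isSimpleGroup_congr.2 inferInstance
        rcases (inferInstance : (D.map (QuotientGroup.mk' N)).Normal).eq_bot_or_eq_top with hb | ht
        · rwa [Subgroup.map_eq_bot_iff, QuotientGroup.ker_mk'] at hb
        · exfalso
          have h2 : IsPGroup 2 (D.map (QuotientGroup.mk' N)) := hD.map _
          rw [ht] at h2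
          have h60 : Nat.card (G ⧸ N) = 60 := by
            rw [Nat.card_congr e.toEquiv, nat_card_alternatingGroup, Nat.card_fin]; rfl
          obtain ⟨k, hk⟩ := IsPGroup.iff_card.1 (h2.of_equiv Subgroup.topEquiv)
          rw [h60] at hk
          have : (3 : ℕ) ∣ 2 ^ k := hk ▸ (by norm_num : (3 : ℕ) ∣ 60)
          exact absurd (Nat.prime_three.dvd_of_dvd_pow this) (by norm_num)
      have hDN' : D = N := le_antisymm hDN hND
      refine ⟨hDN' ▸ hN, Or.inr ⟨e.toMonoidHom.comp (QuotientGroup.mk' N),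
        e.surjective.comp (QuotientGroup.mk'_surjective N), ?_⟩⟩
      ext x
      rw [hDN', MonoidHom.mem_ker, MonoidHom.comp_apply, MulEquiv.coe_toMonoidHom,
        map_eq_one_iff _ e.injective, QuotientGroup.mk'_apply, QuotientGroup.eq_one_iff]
  -- solvable case
  set π := QuotientGroup.mk' D with hπ
  have hπs : Function.Surjective π := QuotientGroup.mk'_surjective D
  haveI hXs : Group.IsSolvable (G ⧸ D) := Group.isSolvable_of_surjective hπs
  have hnt : ¬ (⊤ : Subgroup G) ≤ D := fun hle => hnc (by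
    have h2 : IsPGroup 2 (⊤ : Subgroup G) := hD.to_le hle
    haveI : Subsingleton (Sylow 2 G) := ⟨fun P Q => Sylow.ext (by
      rw [show (P : Subgroup G) = ⊤ from (P.3 h2 le_top).symm,
        show (Q : Subgroup G) = ⊤ from (Q.3 h2 le_top).symm])⟩
    exact Nat.card_unique)
  haveI : Nontrivial (G ⧸ D) := by
    rw [QuotientGroup.nontrivial_iff]
    exact fun e => hnt (e ▸ le_rfl)
  obtain ⟨q, V, hq, hVn, hV1, hVq⟩ := H1.exists_normal_pgroup_ne_bot (G ⧸ D)
  haveI := Fact.mk hq
  haveI := hVn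
  have hq2 : q ≠ 2 := by
    rintro rfl
    apply hV1
    have hW : V.comap π ≤ D := by
      haveI : (V.comap π).Normal := hVn.comap π
      refine H1.le_pCore ?_
      exact hVq.comap_of_ker_isPGroup π (by rw [hπ, QuotientGroup.ker_mk']; exact hD)
    rw [← map_comap_eq_self_of_surjective hπs V, Subgroup.map_eq_bot_iff, hπ, QuotientGroup.ker_mk']
    exact hW
  obtain ⟨P⟩ : Nonempty (Sylow q G) := inferInstance
  have hPN : (P : Subgroup G) ≤ normalizer (D : Set G) := by
    rw [normalizer_eq_top D]; exact le_top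
  have hqG : q ∣ Nat.card G := by
    obtain ⟨j, hj⟩ := IsPGroup.iff_card.1 hVq
    have h1 : 1 < Nat.card V := one_lt_card_iff_ne_bot _ |>.2 hV1
    have hj1 : j ≠ 0 := fun e => by rw [hj, e, pow_zero] at h1; omega
    exact ((dvd_pow_self q hj1).trans (hj ▸ dvd_rfl)).trans
      ((card_subgroup_dvd_card V).trans (card_dvd_of_surjective π hπs))
  have hPq : Nat.card (P : Subgroup G) = q := by
    rcases (Nat.dvd_prime hq).1 (card_dvd_of_normalizes h hq2 P.isPGroup' hD hne hPN) with e | e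
    · exact absurd e (by
        have := P.dvd_card_of_dvd_card hqG
        intro e'; rw [e'] at this
        exact hq.ne_one (Nat.dvd_one.1 this))
    · exact e
  haveI : IsCyclic (P : Subgroup G) := isCyclic_of_prime_card hPq
  obtain ⟨⟨u, huP⟩, hu'⟩ := exists_prime_orderOf_dvd_card' (G := (P : Subgroup G)) q (dvd_of_eq hPq.symm)
  rw [Subgroup.orderOf_mk] at hu'
  have hPu : (P : Subgroup G) = zpowers u := (eq_of_le_of_card_ge ((zpowers_le).2 huP)
    (by rw [hPq, Nat.card_zpowers, hu'])).symm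
  have hdisj : Disjoint D (P : Subgroup G) := IsPGroup.disjoint_of_ne 2 q (Ne.symm hq2) _ _ hD P.isPGroup'
  -- the image of `P` is normal
  let Pb : Sylow q (G ⧸ D) := P.mapSurjective hπs
  have hVP : V = (Pb : Subgroup (G ⧸ D)) := by
    have hle : V ≤ (Pb : Subgroup (G ⧸ D)) := by
      obtain ⟨Q, hQ⟩ := hVq.exists_le_sylow
      obtain ⟨g, hg⟩ := MulAction.exists_smul_eq (G ⧸ D) Q Pb
      intro v hv
      rw [← hg, Sylow.coe_subgroup_smul, mem_pointwise_smul_iff_inv_smul_mem, MulAut.smul_def,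
        MulAut.conj_inv_apply]
      exact hQ (by simpa using hVn.conj_mem v hv g⁻¹)
    refine eq_of_le_of_card_ge hle ?_
    have h1 : Nat.card (Pb : Subgroup (G ⧸ D)) ∣ q :=
      (Subgroup.card_map_dvd (H := (P : Subgroup G)) π).trans (dvd_of_eq hPq)
    have h2 : 1 < Nat.card V := one_lt_card_iff_ne_bot _ |>.2 hV1
    rcases (Nat.dvd_prime hq).1 h1 with e | e
    · omega
    · rw [e]
      obtain ⟨j, hj⟩ := IsPGroup.iff_card.1 hVq
      rcases j with _ | j
      · rw [hj, pow_zero] at h2; omega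
      · rw [hj, pow_succ]; exact Nat.le_mul_of_pos_left q (pow_pos hq.pos j)
  set N := normalizer ((P : Subgroup G) : Set G) with hN
  have hNmap : N.map π = ⊤ := by
    rw [hN, H25.RealOdd.map_normalizer_sylow q π hπs P]
    exact normalizer_eq_top_iff.2 (by
      have : ((P : Subgroup G).map π) = V := hVP.symm
      rw [this]; exact hVn)
  have hND : Disjoint N D := by
    rw [Subgroup.disjoint_def]
    intro x hxN hxD
    refine fpf h hD hq hq2 hu' hxD (eq_one_of_conj_mem hdisj hxD huP ?_).symm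
    exact (mem_normalizer_iff.1 hxN u).1 huP
  have hcardG : Nat.card G = Nat.card D * Nat.card N := by
    have hker : (π.comp N.subtype).ker = ⊥ := by
      rw [eq_bot_iff]
      intro x hx
      rw [MonoidHom.mem_ker, MonoidHom.comp_apply, hπ, QuotientGroup.mk'_apply,
        QuotientGroup.eq_one_iff] at hx
      exact Subtype.ext (Subgroup.disjoint_def.1 hND x.2 hx)
    have hbij : Function.Bijective (π.comp N.subtype) := by
      refine ⟨(MonoidHom.ker_eq_bot_iff _).1 hker, fun y => ?_⟩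
      obtain ⟨x, hx, rfl⟩ : y ∈ N.map π := hNmap ▸ Subgroup.mem_top y
      exact ⟨⟨x, hx⟩, rfl⟩
    rw [card_eq_card_quotient_mul_card_subgroup D, ← Nat.card_congr (Equiv.ofBijective _ hbij)]
    ring
  -- `C(P) = P`
  have hC : centralizer ((P : Subgroup G) : Set G) = (P : Subgroup G) := by
    have hP1 : u ≠ 1 := fun e => by rw [e, orderOf_one] at hu'; exact hq.ne_one hu'.symm
    have hle : centralizer ((P : Subgroup G) : Set G) ≤ centralizer ({u} : Set G) :=
      centralizer_le (Set.singleton_subset_iff.2 huP)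
    have hPC : (P : Subgroup G) ≤ centralizer ((P : Subgroup G) : Set G) :=
      le_centralizer_iff_isMulCommutative.2
        ⟨⟨fun a b => (IsCyclic.commGroup (α := (P : Subgroup G))).mul_comm a b⟩⟩
    exact P.3 ((cent_isPGroup h hP1 ⟨1, by rw [pow_one, hu']⟩).to_le hle) hPC
  have hrel : (P : Subgroup G).relIndex N ∣ q - 1 := by
    have := H62.relIndex_centralizer_dvd_prime (p := q) (P : Subgroup G) hPq
    rwa [hC] at this
  have hNcard : Nat.card N = q * (P : Subgroup G).relIndex N := by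
    rw [← relIndex_bot_left N, ← relIndex_mul_relIndex ⊥ (P : Subgroup G) N bot_le (le_normalizer),
      relIndex_bot_left, hPq]
  have hq35 : q = 3 ∨ q = 5 := by
    rcases prime_cases h hq hqG with e | e
    · exact absurd e hq2
    · exact e
  have hr1 : (P : Subgroup G).relIndex N ≠ 1 := by
    intro e
    rw [e, mul_one] at hNcard
    apply hnc
    have hSD : ∀ S : Sylow 2 G, (S : Subgroup G) = D := by
      intro S
      have hDS : D ≤ S := by
        obtain ⟨Q, hQ⟩ := hD.exists_le_sylow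
        obtain ⟨g, rfl⟩ := MulAction.exists_smul_eq G Q S
        intro v hv
        rw [Sylow.coe_subgroup_smul, mem_pointwise_smul_iff_inv_smul_mem, MulAut.smul_def,
          MulAut.conj_inv_apply]
        exact hQ (by simpa using hDn.conj_mem v hv g⁻¹)
      obtain ⟨j, hj⟩ := IsPGroup.iff_card.1 hD
      refine (eq_of_le_of_card_ge hDS (Nat.le_of_dvd Nat.card_pos ?_)).symm
      obtain ⟨i, hi⟩ := IsPGroup.iff_card.1 S.isPGroup'
      have hd := card_subgroup_dvd_card (S : Subgroup G)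
      rw [hcardG, hNcard] at hd
      refine Nat.Coprime.dvd_of_dvd_mul_right ?_ hd
      rw [hi]
      exact Nat.Coprime.pow_left _ ((Nat.coprime_primes Nat.prime_two hq).2 (Ne.symm hq2))
    haveI : Subsingleton (Sylow 2 G) := ⟨fun S T => Sylow.ext ((hSD S).trans (hSD T).symm)⟩
    exact Nat.card_unique
  -- the involutions of `N` invert `u`
  have hinvN : ∀ z ∈ N, z * z = 1 → z ≠ 1 → z * u * z⁻¹ = u⁻¹ := fun z hz hzz hz1 =>
    inverts h hq2 hu' hzz hz1 (hPu ▸ (mem_normalizer_iff.1 hz u).1 huP)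
  have heven : 2 ∣ Nat.card N := by
    rw [hNcard]
    refine Dvd.dvd.mul_left ?_ q
    rcases hq35 with rfl | rfl
    · rcases (Nat.dvd_prime Nat.prime_two).1 hrel with e | e
      · exact absurd e hr1
      · rw [e]
    · rcases (Nat.dvd_prime_pow Nat.prime_two (m := 2)).1 (by norm_num at hrel ⊢; exact hrel) with
        ⟨i, -, e⟩
      rcases i with _ | i
      · rw [pow_zero] at e; exact absurd e hr1
      · rw [e]; exact dvd_pow_self 2 (by omega)
  obtain ⟨⟨z, hzN⟩, hz'⟩ := exists_prime_orderOf_dvd_card' (G := N) 2 heven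
  rw [Subgroup.orderOf_mk] at hz'
  have hzz : z * z = 1 := by rw [← sq, ← hz', pow_orderOf_eq_one]
  have hz1 : z ≠ 1 := fun e => by rw [e, orderOf_one] at hz'; norm_num at hz'
  have hzD : z ∉ D := fun hd => hz1 (Subgroup.disjoint_def.1 hND hzN hd)
  have hzinv := hinvN z hzN hzz hz1
  have hnD : ∀ g : G, g ∈ normalizer (D : Set G) := fun g => by rw [normalizer_eq_top D]; trivial
  have hel := elementary_of_inverting h hD (p := q) hq2 hu' hzz hzinv (hnD u) (hnD z)
  refine ⟨hel, Or.inl ⟨q, u, z, hq, hq2, hu', hzz, hzD, hzinv, ?_⟩⟩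
  rw [hcardG, hNcard, mul_comm q]
  congr 2
  -- `|N : P| ≠ 4`
  rcases hq35 with rfl | rfl
  · rcases (Nat.dvd_prime Nat.prime_two).1 hrel with e | e
    · exact absurd e hr1
    · exact e
  rcases (Nat.dvd_prime_pow Nat.prime_two (m := 2)).1 (by norm_num at hrel ⊢; exact hrel) with
    ⟨i, hi, e⟩
  interval_cases i
  · rw [pow_zero] at e; exact absurd e hr1
  · simpa using e
  exfalso
  norm_num at e
  rw [e] at hNcard
  -- an element of order four
  obtain ⟨Y⟩ : Nonempty (Sylow 2 N) := inferInstance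
  have hY4 : Nat.card (Y : Subgroup N) = 4 := by
    rw [H62.card_sylow_coe (p := 2) (a := 2) (m := 5) (by rw [hNcard]; norm_num) (by norm_num) Y]
    norm_num
  by_cases hy : ∃ y : N, y ∈ (Y : Subgroup N) ∧ y ^ 2 ≠ 1
  swap
  · push Not at hy
    -- three involutions inverting `u`
    obtain ⟨⟨y₁, hy₁⟩, h₁⟩ : ∃ y : (Y : Subgroup N), y ≠ 1 := by
      haveI : Nontrivial (Y : Subgroup N) :=
        Finite.one_lt_card_iff_nontrivial.1 (by rw [hY4]; norm_num)
      exact exists_ne 1
    obtain ⟨⟨y₂, hy₂⟩, h₂, h₂'⟩ : ∃ y : (Y : Subgroup N), y ≠ 1 ∧ y ≠ ⟨y₁, hy₁⟩ := by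
      by_contra hcon
      push Not at hcon
      haveI := Fintype.ofFinite (Y : Subgroup N)
      have hsub : (Finset.univ : Finset (Y : Subgroup N)) ⊆ {1, ⟨y₁, hy₁⟩} := fun y _ => by
        simp only [Finset.mem_insert, Finset.mem_singleton]
        exact or_iff_not_imp_left.2 (hcon y)
      have := (Finset.card_le_card hsub).trans Finset.card_le_two
      rw [Finset.card_univ, ← Nat.card_eq_fintype_card, hY4] at this
      omega
    have hi : ∀ y : N, y ∈ (Y : Subgroup N) → y ≠ 1 → (y : G) * u * (y : G)⁻¹ = u⁻¹ := by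
      intro y hyY hy1
      refine hinvN y y.2 ?_ fun e => hy1 (Subtype.ext e)
      have := congrArg Subtype.val (hy y hyY)
      rw [sq] at this
      simpa using this
    have n1 : y₁ ≠ 1 := fun e => h₁ (Subtype.ext e)
    have n2 : y₂ ≠ 1 := fun e => h₂ (Subtype.ext e)
    have n3 : y₁ * y₂ ≠ 1 := fun e => h₂' (Subtype.ext (by
      show y₂ = y₁
      have h11 := hy y₁ hy₁
      rw [sq] at h11
      exact mul_left_cancel (e.trans h11.symm)))
    have e3 := hi _ (mul_mem hy₁ hy₂) n3
    have e3' : ((y₁ * y₂ : N) : G) * u * ((y₁ * y₂ : N) : G)⁻¹ = u := by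
      rw [Subgroup.coe_mul]
      calc (y₁ : G) * y₂ * u * ((y₁ : G) * y₂)⁻¹
          = (y₁ : G) * ((y₂ : G) * u * (y₂ : G)⁻¹) * (y₁ : G)⁻¹ := by group
        _ = ((y₁ : G) * u * (y₁ : G)⁻¹)⁻¹ := by rw [hi _ hy₂ n2]; group
        _ = u := by rw [hi _ hy₁ n1, inv_inv]
    have : u ^ 2 = 1 := by
      rw [sq]; exact eq_inv_iff_mul_eq_one.1 (e3'.symm.trans e3)
    have h5 := orderOf_dvd_of_pow_eq_one this
    rw [hu'] at h5
    exact absurd (Nat.le_of_dvd two_pos h5) (by norm_num)
  -- an element of order four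
  obtain ⟨y, hyY, hy2⟩ := hy
  have hy4 : (y : G) ^ 4 = 1 := by
    have := pow_card_eq_one' (G := (Y : Subgroup N)) (x := ⟨y, hyY⟩)
    rw [hY4] at this
    simpa using congrArg (fun x : (Y : Subgroup N) => ((x : N) : G)) this
  set a : G := (y : G) ^ 2 with ha
  have haN : a ∈ N := pow_mem y.2 2
  have haa : a * a = 1 := by rw [ha, ← pow_add]; exact hy4
  have ha1 : a ≠ 1 := fun e => hy2 (Subtype.ext (by simpa using e))
  have hainv := hinvN a haN haa ha1
  obtain ⟨f1, f2, f3, f4⟩ := cj_facts h hD (Nat.prime_five) hq2 hu' haa hainv (hnD u) (hnD a)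
  letI : CommGroup D := { (inferInstance : Group D) with mul_comm := hel.1.1.1 }
  have hsq : ∀ v : D, v * v = 1 := fun v => Subtype.ext (by
    have := hel.2 v v.2; rw [sq] at this; simpa using this)
  have hc := card_eq_sq_fixed (D := D) hsq (cj (hnD u)) (cj (hnD a)) (Or.inr f1) f2 f3 f4
  set Yc := cj (hnD (y : G)) with hYc
  set A := cj (hnD a) with hA
  have hAY : ∀ v, A v = Yc (Yc v) := fun v => Subtype.ext (by
    rw [hA, hYc, cj_apply, cj_apply, cj_apply, ha, sq]; group)
  have hyS : IsPGroup 2 (zpowers (y : G) ⊔ D : Subgroup G) := by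
    refine IsPGroup.to_sup_of_normal_right' ?_ hD (fun g _ => hnD g)
    rw [IsPGroup.iff_card, Nat.card_zpowers]
    obtain ⟨i, -, hi⟩ := (Nat.dvd_prime_pow Nat.prime_two (m := 2)).1
      (orderOf_dvd_of_pow_eq_one (show (y : G) ^ 2 ^ 2 = 1 by norm_num; exact hy4))
    exact ⟨i, hi⟩
  have hT : ∀ v : D, v * Yc v * (Yc (Yc v)) * Yc (Yc (Yc v)) = 1 := fun v => Subtype.ext (by
    simp only [Subgroup.coe_mul, hYc, cj_apply, Subgroup.coe_one]
    have h4 := pow_four_of_isPGroup h hyS (mul_mem (mem_sup_right v.2) (mem_sup_left (mem_zpowers (y : G))))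
    have e : ((v : G) * (y : G)) ^ 4 = (v : G) * ((y : G) * v * (y : G)⁻¹) *
        ((y : G) * ((y : G) * v * (y : G)⁻¹) * (y : G)⁻¹) *
        ((y : G) * ((y : G) * ((y : G) * v * (y : G)⁻¹) * (y : G)⁻¹) * (y : G)⁻¹) *
        (y : G) ^ 4 := by
      simp only [pow_succ, pow_zero, one_mul]; group
    rw [h4, hy4, mul_one] at e
    exact e.symm)
  let ψ : D →* D := MonoidHom.mk' (fun v => v * Yc v) fun x y => by rw [map_mul]; ac_rfl
  have hψψ : ∀ v, ψ (ψ v) = v * A v := fun v => by
    show v * Yc v * Yc (v * Yc v) = _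
    rw [map_mul, hAY, mul_assoc, ← mul_assoc (Yc v), hsq, one_mul]
  have hψφ : ∀ v, ψ (v * A v) = 1 := fun v => by
    show v * A v * Yc (v * A v) = 1
    rw [map_mul, hAY]
    calc v * Yc (Yc v) * (Yc v * Yc (Yc (Yc v)))
        = v * Yc v * Yc (Yc v) * Yc (Yc (Yc v)) := by ac_rfl
      _ = 1 := hT v
  have hinv' : ∀ v w : D, v * w = 1 ↔ w = v := fun v w =>
    ⟨fun e => (eq_inv_of_mul_eq_one_right e).trans (eq_inv_of_mul_eq_one_right (hsq v)).symm,
     fun e => e ▸ hsq v⟩
  have hker : ∀ w, w ∈ ψ.ker ↔ A w = w := fun w => by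
    rw [MonoidHom.mem_ker]
    constructor
    · intro e
      have := (hinv' w (Yc w)).1 e
      rw [hAY, this, this]
    · intro e
      obtain ⟨v, rfl⟩ := exists_displacement hsq (cj (hnD u)) A (Or.inr f1) f3 f4 w e
      exact hψφ v
  have hle : ψ.ker ≤ ψ.range := fun w hw => by
    obtain ⟨v, rfl⟩ := exists_displacement hsq (cj (hnD u)) A (Or.inr f1) f3 f4 w ((hker w).1 hw)
    exact ⟨ψ v, hψψ v⟩
  have hk : Nat.card ψ.ker = Nat.card {v : D // A v = v} :=
    Nat.card_congr (Equiv.subtypeEquivRight hker)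
  have hrk : Nat.card ψ.range * Nat.card ψ.ker = Nat.card D := by
    rw [card_eq_card_quotient_mul_card_subgroup ψ.ker,
      Nat.card_congr (QuotientGroup.quotientKerEquivRange ψ).toEquiv]
  rw [hk, hc, sq] at hrk
  have hreq : ψ.ker = ψ.range := eq_of_le_of_card_ge hle
    (by
      haveI : Nonempty {v : D // A v = v} := ⟨⟨1, map_one A⟩⟩
      rw [hk, Nat.eq_of_mul_eq_mul_right Nat.card_pos hrk])
  have hall : ∀ v : D, A v = v := fun v => by
    have : ψ v ∈ ψ.ker := hreq ▸ ⟨v, rfl⟩
    rw [MonoidHom.mem_ker, hψψ] at this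
    exact (hinv' v _).1 this
  have h1 : Nat.card D = Nat.card D ^ 2 := by
    conv_lhs => rw [hc, Nat.card_congr (Equiv.subtypeUnivEquiv hall)]
  have h2 : 1 < Nat.card D := (one_lt_card_iff_ne_bot D).2 hne
  nlinarith

end H63.SmallExp
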