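/-
Groups with element orders at most five and socle `A_5` or `A_6` are simple.
-/
import Cfsg.Agent.H63.SmallExp.Basic
import Cfsg.Agent.H63.SmallExp.AltFacts
import Cfsg.Agent.H62.Basic
import Cfsg.Agent.H65.BaerSuzuki

set_option autoImplicit false

namespace H63.SmallExp

open Subgroup

universe u

variable {G : Type u} [Group G] [Finite G]

/-- The normaliser of a subgroup of prime order. -/
theorem card_normalizer_prime (h : Hyp G) {p : ℕ} [hp : Fact p.Prime] {P : Subgroup G}
    (hP : Nat.card P = p) :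
    ∃ a r, r ∣ p - 1 ∧ Nat.card (normalizer (P : Set G)) = p ^ a * r := by
  obtain ⟨⟨u, huP⟩, hu⟩ := exists_prime_orderOf_dvd_card' (G := P) p (dvd_of_eq hP.symm)
  rw [Subgroup.orderOf_mk] at hu
  have hu1 : u ≠ 1 := fun e => by rw [e, orderOf_one] at hu; exact hp.out.ne_one hu.symm
  have hle : centralizer (P : Set G) ≤ centralizer ({u} : Set G) :=
    centralizer_le (Set.singleton_subset_iff.2 huP)
  obtain ⟨a, ha⟩ := IsPGroup.iff_card.1 ((cent_isPGroup h hu1 ⟨1, by rw [pow_one, hu]⟩).to_le hle)
  refine ⟨a, _, H62.relIndex_centralizer_dvd_prime (p := p) P hP, ?_⟩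
  rw [← relIndex_bot_left, ← relIndex_mul_relIndex ⊥ (centralizer (P : Set G))
    (normalizer (P : Set G)) bot_le (centralizer_le_normalizer _), relIndex_bot_left, ha]

/-- Sylow normalisers of order 5. -/
theorem card_normalizer_five (h : Hyp G) [Fact (Nat.Prime 5)]
    (hG : Nat.card G = 60 ∨ Nat.card G = 360) (P : Sylow 5 G) :
    Nat.card (P : Subgroup G) = 5 ∧ Nat.card (normalizer ((P : Subgroup G) : Set G)) = 10 := by
  have hP : Nat.card (P : Subgroup G) = 5 := by
    rcases hG with e | e
    · rw [H62.card_sylow_coe (p := 5) (a := 1) (m := 12) (by rw [e]; norm_num) (by norm_num) P, pow_one]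
    · rw [H62.card_sylow_coe (p := 5) (a := 1) (m := 72) (by rw [e]; norm_num) (by norm_num) P, pow_one]
  refine ⟨hP, ?_⟩
  obtain ⟨a, r, hr, hN⟩ := card_normalizer_prime h hP
  have hn := H62.card_normalizer_mul P
  have hmod := H62.card_sylow_mod (G := G) (p := 5)
  rw [hN] at hn ⊢
  have ha : a = 1 := by
    have h1 : 5 ∣ 5 ^ a * r := hN ▸ (dvd_of_eq hP.symm).trans (card_dvd_of_le le_normalizer)
    rcases a with _ | _ | a
    · rw [pow_zero, one_mul] at h1
      exact absurd (h1.trans hr) (by norm_num)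
    · rfl
    · exfalso
      have h2 : 5 ^ 2 ∣ Nat.card G :=
        hn ▸ ((pow_dvd_pow 5 (by omega)).trans (dvd_mul_right _ r)).mul_right _
      rcases hG with e | e <;> rw [e] at h2 <;> norm_num at h2
  subst ha
  have hr4 : r ≤ 4 := Nat.le_of_dvd (by norm_num) hr
  have hdr : r ∣ 4 := hr
  interval_cases r <;> rcases hG with e | e <;> rw [e] at hn <;> first | omega | norm_num at hdr ⊢

theorem card_normalizer_three (h : Hyp G) [Fact (Nat.Prime 3)] (hG : Nat.card G = 60)
    (P : Sylow 3 G) :
    Nat.card (P : Subgroup G) = 3 ∧ Nat.card (normalizer ((P : Subgroup G) : Set G)) = 6 := by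
  have hP : Nat.card (P : Subgroup G) = 3 := by
    rw [H62.card_sylow_coe (p := 3) (a := 1) (m := 20) (by rw [hG]; norm_num) (by norm_num) P, pow_one]
  refine ⟨hP, ?_⟩
  obtain ⟨a, r, hr, hN⟩ := card_normalizer_prime h hP
  have hn := H62.card_normalizer_mul P
  have hmod := H62.card_sylow_mod (G := G) (p := 3)
  rw [hN] at hn ⊢
  have ha : a = 1 := by
    have h1 : 3 ∣ 3 ^ a * r := hN ▸ (dvd_of_eq hP.symm).trans (card_dvd_of_le le_normalizer)
    rcases a with _ | _ | a
    · rw [pow_zero, one_mul] at h1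
      exact absurd (h1.trans hr) (by norm_num)
    · rfl
    · exfalso
      have h2 : 3 ^ 2 ∣ Nat.card G :=
        hn ▸ ((pow_dvd_pow 3 (by omega)).trans (dvd_mul_right _ r)).mul_right _
      rw [hG] at h2; norm_num at h2
  subst ha
  have hr2 : r ≤ 2 := Nat.le_of_dvd (by norm_num) hr
  interval_cases r <;> rw [hG] at hn <;> omega

/-- Frattini: the index of a normal subgroup through a Sylow normaliser. -/
theorem index_mul_normalizer (M : Subgroup G) [M.Normal] {p : ℕ} [Fact p.Prime] (P : Sylow p M) :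
    M.index * Nat.card (normalizer ((P : Subgroup M) : Set M)) =
      Nat.card (normalizer (((P : Subgroup M).map M.subtype : Subgroup G) : Set G)) := by
  set N := normalizer (((P : Subgroup M).map M.subtype : Subgroup G) : Set G) with hN
  have hfr : N ⊔ M = ⊤ := P.normalizer_sup_eq_top
  have h1 : M.index = M.relIndex N := by
    have h : M.relIndex (N ⊔ M) = M.relIndex N := by rw [relIndex_sup_right]
    rwa [hfr, relIndex_top_right] at h
  have h2 : Nat.card (normalizer ((P : Subgroup M) : Set M)) = Nat.card ↥(N ⊓ M) := by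
    have : (normalizer ((P : Subgroup M) : Set M)).map M.subtype = N ⊓ M := by
      have h' := subgroupOf_normalizer_eq (map_subtype_le (P : Subgroup M))
      rw [show ((P : Subgroup M).map M.subtype).subgroupOf M = (P : Subgroup M) from
        comap_map_eq_self_of_injective M.subtype_injective _] at h'
      rw [← h', subgroupOf_map_subtype]
    rw [← this, Subgroup.card_subtype]
  rw [h1, h2, inf_comm, ← inf_relIndex_right, ← relIndex_bot_left, ← relIndex_bot_left, mul_comm]
  exact relIndex_mul_relIndex _ _ _ bot_le inf_le_right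

theorem card_alt5 {M : Type*} [Group M] (e : M ≃* ↥(alternatingGroup (Fin 5))) : Nat.card M = 60 := by
  rw [Nat.card_congr e.toEquiv, nat_card_alternatingGroup, Nat.card_fin]; rfl

theorem card_alt6 {M : Type*} [Group M] (e : M ≃* ↥(alternatingGroup (Fin 6))) : Nat.card M = 360 := by
  rw [Nat.card_congr e.toEquiv, nat_card_alternatingGroup, Nat.card_fin]; rfl

theorem index_dvd_five (h : Hyp G) (M : Subgroup G) [M.Normal]
    (hM : Nat.card M = 60 ∨ Nat.card M = 360) : ∃ a, M.index ∣ 5 ^ a * 2 := by
  haveI : Fact (Nat.Prime 5) := ⟨Nat.prime_five⟩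
  obtain ⟨P⟩ : Nonempty (Sylow 5 M) := inferInstance
  obtain ⟨hP, hN⟩ := card_normalizer_five (h.subgroup M) hM P
  have hmul := index_mul_normalizer M P
  obtain ⟨a, r, hr, hN'⟩ := card_normalizer_prime h (p := 5)
    (P := (P : Subgroup M).map M.subtype) (by rw [Subgroup.card_subtype, hP])
  rw [hN, hN'] at hmul
  refine ⟨a, ?_⟩
  have h4 : M.index * 10 ∣ 5 ^ a * 4 := hmul ▸ mul_dvd_mul_left _ hr
  have h2 : M.index * 5 * 2 ∣ 5 ^ a * 2 * 2 := by ring_nf; ring_nf at h4; exact h4
  exact (Dvd.intro 5 rfl).trans (Nat.dvd_of_mul_dvd_mul_right two_pos h2)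

theorem eq_top_five (h : Hyp G) (M : Subgroup G) [M.Normal]
    (e : M ≃* ↥(alternatingGroup (Fin 5))) : M = ⊤ := by
  haveI : Fact (Nat.Prime 3) := ⟨Nat.prime_three⟩
  obtain ⟨a, ha⟩ := index_dvd_five h M (Or.inl (card_alt5 e))
  obtain ⟨P⟩ : Nonempty (Sylow 3 M) := inferInstance
  obtain ⟨hP, hN⟩ := card_normalizer_three (h.subgroup M) (card_alt5 e) P
  have hmul := index_mul_normalizer M P
  obtain ⟨b, r, hr, hN'⟩ := card_normalizer_prime h (p := 3)
    (P := (P : Subgroup M).map M.subtype) (by rw [Subgroup.card_subtype, hP])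
  rw [hN, hN'] at hmul
  have h2 : M.index * 3 * 2 ∣ 3 ^ b * 2 := by
    rw [show M.index * 3 * 2 = M.index * 6 by ring, hmul]; exact mul_dvd_mul_left _ hr
  have h3 : M.index ∣ 3 ^ b := (Dvd.intro 3 rfl).trans (Nat.dvd_of_mul_dvd_mul_right two_pos h2)
  rw [← index_eq_one]
  have hcop : Nat.Coprime (5 ^ a * 2) (3 ^ b) := by
    refine Nat.Coprime.pow_right _ ?_
    exact Nat.Coprime.mul_left (Nat.Coprime.pow_left _ (by norm_num)) (by norm_num)
  exact Nat.eq_one_of_dvd_one (hcop ▸ Nat.dvd_gcd ha h3)

theorem index_dvd_two (h : Hyp G) (M : Subgroup G) [M.Normal]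
    (e : M ≃* ↥(alternatingGroup (Fin 6))) : M.index ∣ 2 := by
  obtain ⟨a, ha⟩ := index_dvd_five h M (Or.inr (card_alt6 e))
  by_cases h5 : 5 ∣ M.index
  swap
  · exact (Nat.Coprime.pow_right _
      ((Nat.coprime_comm).1 (Nat.prime_five.coprime_iff_not_dvd.2 h5))).dvd_of_dvd_mul_left ha
  exfalso
  haveI : Fact (Nat.Prime 3) := ⟨Nat.prime_three⟩
  haveI : Fact (Nat.Prime 5) := ⟨Nat.prime_five⟩
  obtain ⟨P⟩ : Nonempty (Sylow 3 M) := inferInstance
  set Q := (P : Subgroup M).map M.subtype with hQ
  have hQ9 : Nat.card Q = 9 := by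
    rw [hQ, Subgroup.card_subtype,
      H62.card_sylow_coe (p := 3) (a := 2) (m := 40) (by rw [card_alt6 e]; norm_num) (by norm_num) P]
    norm_num
  have h5' : 5 ∣ Nat.card (normalizer (Q : Set G)) :=
    (index_mul_normalizer M P) ▸ Dvd.dvd.mul_right h5 _
  obtain ⟨⟨y, hyN⟩, hy⟩ := exists_prime_orderOf_dvd_card' (G := normalizer (Q : Set G)) 5 h5'
  rw [Subgroup.orderOf_mk] at hy
  set c := cj (Q := Q) hyN with hc
  let σ : Equiv.Perm {v : Q // v ≠ 1} :=
    c.toEquiv.subtypeEquiv fun v => (not_congr (MulEquiv.map_eq_one_iff c)).symm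
  have hσ : σ ^ 5 = 1 := by
    have hk : ∀ (k : ℕ) (v : {v : Q // v ≠ 1}), ((σ ^ k) v).1 = (c ^ k) v.1 := by
      intro k
      induction k with
      | zero => intro v; rfl
      | succ k ih => intro v; rw [pow_succ, pow_succ, Equiv.Perm.mul_apply, MulAut.mul_apply, ih]; rfl
    ext v : 1
    exact Subtype.ext (by rw [hk, cj_pow_eq_one hyN (hy ▸ pow_orderOf_eq_one y)]; rfl)
  haveI := Fintype.ofFinite Q
  haveI : DecidableEq Q := Classical.decEq _
  have h8 : ¬ 5 ∣ Fintype.card {v : Q // v ≠ 1} := by
    rw [Fintype.card_subtype_compl, Fintype.card_subtype_eq, ← Nat.card_eq_fintype_card, hQ9]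
    norm_num
  obtain ⟨v, hv⟩ := Equiv.Perm.exists_fixed_point_of_prime (p := 5) (n := 1) h8
    (σ := σ) (by rw [pow_one]; exact hσ)
  have hv' : c v.1 = v.1 := congrArg Subtype.val hv
  have := congrArg Subtype.val hv'
  rw [hc, cj_apply, mul_inv_eq_iff_eq_mul] at this
  have hv1 : ((v.1 : Q) : G) ≠ 1 := fun e => v.2 (Subtype.ext e)
  have hQp : IsPGroup 3 Q := IsPGroup.of_card (n := 2) hQ9
  obtain ⟨k, hk⟩ := IsPGroup.iff_orderOf.1 hQp v.1
  rw [← Subgroup.orderOf_coe] at hk
  refine commute_coprime h this ?_ (fun e => by rw [e, orderOf_one] at hy; norm_num at hy) hv1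
  rw [hy, hk]
  exact Nat.Coprime.pow_right _ (by norm_num)

/-- No group with element orders at most five has socle `A_6` of index two. -/
theorem eq_top_six (h : Hyp G) (M : Subgroup G) [M.Normal]
    (hu : ∀ N : Subgroup G, N.Normal → N ≠ ⊥ → M ≤ N)
    (e : M ≃* ↥(alternatingGroup (Fin 6))) : M = ⊤ := by
  classical
  by_contra hne
  haveI : Fact (Nat.Prime 2) := ⟨Nat.prime_two⟩
  have hidx : M.index = 2 := by
    rcases (Nat.dvd_prime Nat.prime_two).1 (index_dvd_two h M e) with h1 | h1
    · exact absurd (index_eq_one.1 h1) hne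
    · exact h1
  have hmulM : ∀ {x y : G}, x ∉ M → y ∉ M → x * y ∈ M := fun hx hy =>
    (mul_mem_iff_of_index_two hidx).2 ⟨fun h' => absurd h' hx, fun h' => absurd h' hy⟩
  -- no involution outside
  have hno : ∀ w : G, w * w = 1 → w ∈ M := by
    intro w hw
    by_contra hwM
    have hw1 : w ≠ 1 := fun e' => hwM (e' ▸ one_mem M)
    have hO : w ∉ Cfsg.pCore 2 G := by
      intro hwO
      by_cases hbot : Cfsg.pCore 2 G = ⊥
      · exact hw1 (by rwa [hbot, mem_bot] at hwO)
      have hle := hu _ (H1.pCore_normal' 2 G) hbot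
      obtain ⟨k, hk⟩ := IsPGroup.iff_card.1 ((H1.isPGroup_pCore 2 G).to_le hle)
      rw [card_alt6 e] at hk
      have : (3 : ℕ) ∣ 2 ^ k := hk ▸ (by norm_num : (3 : ℕ) ∣ 360)
      exact absurd (Nat.prime_three.dvd_of_dvd_pow this) (by norm_num)
    obtain ⟨x, hx1, hxodd, hxw⟩ :=
      H65.exists_odd_inverted (orderOf_eq_prime (by rw [sq]; exact hw) hw1) hO
    have hxM : x ∈ M := by
      by_contra hxM
      rcases orderOf_cases h x with e' | e' | e' | e' | e'
      · exact hx1 (orderOf_eq_one_iff.1 e')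
      · rw [e'] at hxodd; exact absurd hxodd (by decide)
      · have h2 : x * x ∈ M := hmulM hxM hxM
        have : x = (x * x) ^ 2 := by
          rw [← sq, ← pow_mul, show 2 * 2 = orderOf x + 1 by omega, pow_succ, pow_orderOf_eq_one,
            one_mul]
        exact hxM (this ▸ pow_mem h2 2)
      · rw [e'] at hxodd; exact absurd hxodd (by decide)
      · have h2 : x * x ∈ M := hmulM hxM hxM
        have : x = (x * x) ^ 3 := by
          rw [← sq, ← pow_mul, show 2 * 3 = orderOf x + 1 by omega, pow_succ, pow_orderOf_eq_one,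
            one_mul]
        exact hxM (this ▸ pow_mem h2 3)
    have hpow : (⟨x, hxM⟩ : M) ^ 3 = 1 ∨ (⟨x, hxM⟩ : M) ^ 5 = 1 := by
      rcases orderOf_cases h x with e' | e' | e' | e' | e'
      · exact absurd (orderOf_eq_one_iff.1 e') hx1
      · rw [e'] at hxodd; exact absurd hxodd (by decide)
      · exact Or.inl (Subtype.ext (show x ^ 3 = 1 from e' ▸ pow_orderOf_eq_one x))
      · rw [e'] at hxodd; exact absurd hxodd (by decide)
      · exact Or.inr (Subtype.ext (show x ^ 5 = 1 from e' ▸ pow_orderOf_eq_one x))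
    obtain ⟨z, hz⟩ := a6_inverted (e ⟨x, hxM⟩) (by
      rcases hpow with h' | h' <;> [left; right] <;> rw [← map_pow, h', map_one])
    have hz' : (e.symm z : G) * x * (e.symm z : G)⁻¹ = x⁻¹ := by
      have := congrArg (fun m => ((e.symm m : M) : G)) hz
      simpa using this
    have hzM : w * (e.symm z : G) ∉ M := fun hmem =>
      hwM ((mul_mem_cancel_right (e.symm z).2).1 hmem)
    have hc : Commute x (w * (e.symm z : G)) := by
      have : w * (e.symm z : G) * x * (w * (e.symm z : G))⁻¹ = x := by
        calc w * (e.symm z : G) * x * (w * (e.symm z : G))⁻¹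
            = w * ((e.symm z : G) * x * (e.symm z : G)⁻¹) * w⁻¹ := by group
          _ = (w * x * w⁻¹)⁻¹ := by rw [hz']; group
          _ = x := by rw [hxw, inv_inv]
      exact (mul_inv_eq_iff_eq_mul.1 this).symm
    have hxp : orderOf x = 3 ∨ orderOf x = 5 := by
      rcases orderOf_cases h x with e' | e' | e' | e' | e'
      · exact absurd (orderOf_eq_one_iff.1 e') hx1
      · rw [e'] at hxodd; exact absurd hxodd (by decide)
      · exact Or.inl e'
      · rw [e'] at hxodd; exact absurd hxodd (by decide)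
      · exact Or.inr e'
    rcases hxp with hp | hp
    all_goals
      haveI : Fact (orderOf x).Prime := ⟨by rw [hp]; norm_num⟩
      have hpg := cent_isPGroup h hx1 (p := orderOf x) ⟨1, (pow_one _).symm⟩
      obtain ⟨k, hk⟩ := (IsPGroup.iff_orderOf.1 hpg)
        ⟨_, Subgroup.mem_centralizer_singleton_iff.2 hc.symm.eq⟩
      rw [Subgroup.orderOf_mk, hp] at hk
      apply hzM
      set y := w * (e.symm z : G) with hy
      have hodd : Odd (orderOf y) := hk ▸ Odd.pow (by decide)
      obtain ⟨j, hj⟩ := hodd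
      have h2 : y * y ∈ M := mul_self_mem_of_index_two hidx y
      have he : y = (y * y) ^ (j + 1) := by
        rw [← sq, ← pow_mul, show 2 * (j + 1) = orderOf y + 1 by omega, pow_succ,
          pow_orderOf_eq_one, one_mul]
      rw [he]
      exact pow_mem h2 _
  -- an element of order four
  set a : G := (e.symm a6Four : G) with ha
  have ha4 : a ^ 4 = 1 := by
    rw [ha, ← SubmonoidClass.coe_pow, ← map_pow, a6Four_pow.1, map_one]; rfl
  have ha2 : a ^ 2 ≠ 1 := fun e' => a6Four_pow.2 (e.symm.injective (Subtype.ext (by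
    rw [map_pow, map_one]; simpa [ha] using e')))
  have haM : a ∈ M := (e.symm a6Four).2
  have ha4' : orderOf a = 4 := orderOf_eq_prime_pow (p := 2) (n := 1) (by simpa using ha2) ha4
  obtain ⟨S, hS⟩ : ∃ S : Sylow 2 G, a ∈ (S : Subgroup G) := by
    obtain ⟨S, hS⟩ := (IsPGroup.of_card (n := 2)
      (by rw [Nat.card_zpowers, ha4']; rfl) : IsPGroup 2 (zpowers a)).exists_le_sylow
    exact ⟨S, hS (mem_zpowers a)⟩
  have hcard : Nat.card G = 720 := by
    rw [← M.card_mul_index, hidx, card_alt6 e]
  have hS16 : Nat.card (S : Subgroup G) = 16 := by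
    rw [H62.card_sylow_coe (p := 2) (a := 4) (m := 45) (by rw [hcard]; norm_num) (by norm_num) S]
    norm_num
  set T := (S : Subgroup G) ⊓ M with hT
  have hT8 : Nat.card T = 8 := by
    obtain ⟨k, hk⟩ := IsPGroup.iff_card.1 (S.isPGroup'.to_le (inf_le_left : T ≤ _))
    have h1 : Nat.card T ∣ 360 := card_alt6 e ▸ card_dvd_of_le inf_le_right
    have h2 : Nat.card T * T.relIndex S = 16 := by
      rw [← hS16, ← relIndex_bot_left, ← relIndex_bot_left (S : Subgroup G)]
      exact relIndex_mul_relIndex _ _ _ bot_le inf_le_left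
    have h3 : T.relIndex S ∣ 2 := by
      rw [hT, inf_relIndex_left]
      exact (relIndex_dvd_index_of_normal M _).trans (dvd_of_eq hidx)
    have h4 : T.relIndex S ≤ 2 := Nat.le_of_dvd two_pos h3
    interval_cases hr : T.relIndex (S : Subgroup G)
    · omega
    · exfalso
      rw [show Nat.card T = 16 by omega] at h1
      norm_num at h1
    · omega
  have hrn : ∀ b ∈ T, b * a * b⁻¹ ∈ zpowers a := by
    have hzT : zpowers a ≤ T := zpowers_le.2 ⟨hS, haM⟩
    have hi : ((zpowers a).subgroupOf T).index = 2 := by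
      have := relIndex_mul_relIndex ⊥ (zpowers a) T bot_le hzT
      rw [relIndex_bot_left, relIndex_bot_left, Nat.card_zpowers, ha4', hT8] at this
      show (zpowers a).relIndex T = 2
      omega
    intro b hb
    exact (normal_of_index_eq_two hi).conj_mem ⟨a, hzT (mem_zpowers a)⟩
      (mem_zpowers a) ⟨b, hb⟩
  have hself : ∀ b ∈ M, b ∈ (S : Subgroup G) → b ^ 2 ≠ 1 → b = a ∨ b = a⁻¹ := by
    intro b hbM hbS hb2
    have hb4 := pow_four_of_isPGroup h S.isPGroup' hbS
    obtain ⟨i, hi⟩ := mem_zpowers_iff.1 (hrn b ⟨hbS, hbM⟩)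
    have hi' : b * a * b⁻¹ = a ∨ b * a * b⁻¹ = a⁻¹ := by
      rw [← hi, ← zpow_mod_orderOf, ha4']
      have h1 := Int.emod_nonneg i (show ((4 : ℕ) : ℤ) ≠ 0 by norm_num)
      have h2 := Int.emod_lt_of_pos i (show (0 : ℤ) < ((4 : ℕ) : ℤ) by norm_num)
      have hbad : ∀ m : ℤ, (a ^ m) ^ 2 = 1 → a ^ m ≠ b * a * b⁻¹ := fun m hm e' => ha2 (by
        have := congrArg (fun t => b⁻¹ * t ^ 2 * b) e'
        simp only [hm, conj_pow] at this
        group at this
        rw [eq_comm] at this
        exact_mod_cast this)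
      have hi2 : a ^ (i % ((4 : ℕ) : ℤ)) = b * a * b⁻¹ := by
        rw [← ha4', zpow_mod_orderOf]; exact hi
      interval_cases hm : i % ((4 : ℕ) : ℤ)
      · exact absurd hi2 (hbad 0 (by simp))
      · left; exact zpow_one a
      · exact absurd hi2 (hbad 2 (by
          rw [← zpow_natCast, ← zpow_mul]; norm_num; exact_mod_cast ha4))
      · right
        apply eq_inv_of_mul_eq_one_left
        rw [← zpow_add_one]; norm_num; exact_mod_cast ha4
    have := a6Four_norm (e ⟨b, hbM⟩) (fun e' => hb2 (by
        rw [← map_pow, map_eq_one_iff _ e.injective] at e'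
        simpa using congrArg Subtype.val e'))
      (by rw [← map_pow, show (⟨b, hbM⟩ : M) ^ 4 = 1 from Subtype.ext hb4, map_one]) (by
        rcases hi' with e' | e' <;> [left; right] <;>
          · apply e.symm.injective
            apply Subtype.ext
            simpa [ha] using e')
    rcases this with e' | e' <;> [left; right] <;>
      · have := congrArg (fun m => ((e.symm m : M) : G)) e'
        simpa [ha] using this
  set C := (centralizer ({a} : Set G)).subgroupOf (S : Subgroup G) with hC
  have hCidx : C.index ≤ 2 := by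
    have hmem : ∀ s : (S : Subgroup G), (s : G) * a * (s : G)⁻¹ = a ∨ (s : G) * a * (s : G)⁻¹ = a⁻¹ :=
      fun s => hself _ ((inferInstance : M.Normal).conj_mem a haM s)
        (mul_mem (mul_mem s.2 hS) (inv_mem s.2)) (fun e' => ha2 (by
          rw [conj_pow, conj_eq_one_iff] at e'; exact e'))
    let f : (S : Subgroup G) ⧸ C → Fin 2 := fun q =>
      Quotient.liftOn' q (fun s => if (s : G) * a * (s : G)⁻¹ = a then 0 else 1) (by
        intro s t hst
        rw [QuotientGroup.leftRel_apply, hC, mem_subgroupOf,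
          Subgroup.mem_centralizer_singleton_iff] at hst
        have : (s : G) * a * (s : G)⁻¹ = (t : G) * a * (t : G)⁻¹ := by
          simp only [Subgroup.coe_mul, Subgroup.coe_inv] at hst
          calc (s : G) * a * (s : G)⁻¹
              = (s : G) * (a * ((s : G)⁻¹ * t)) * (t : G)⁻¹ := by group
            _ = (s : G) * (((s : G)⁻¹ * t) * a) * (t : G)⁻¹ := by rw [hst]
            _ = _ := by group
        simp only [this])
    have hf : Function.Injective f := by
      intro q r hqr
      induction q using QuotientGroup.induction_on with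
      | H s =>
        induction r using QuotientGroup.induction_on with
        | H t =>
          have hst : (s : G) * a * (s : G)⁻¹ = (t : G) * a * (t : G)⁻¹ := by
            change (if (s : G) * a * (s : G)⁻¹ = a then (0 : Fin 2) else 1) =
              (if (t : G) * a * (t : G)⁻¹ = a then 0 else 1) at hqr
            rcases hmem s with e1 | e1 <;> rcases hmem t with e2 | e2
            · rw [e1, e2]
            · rw [if_pos e1] at hqr
              split_ifs at hqr with h'
              · rw [e1, h']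
              · exact absurd hqr (by decide)
            · rw [if_pos e2] at hqr
              split_ifs at hqr with h'
              · rw [e2, h']
              · exact absurd hqr (by decide)
            · rw [e1, e2]
          rw [QuotientGroup.eq, hC, mem_subgroupOf, Subgroup.mem_centralizer_singleton_iff]
          simp only [Subgroup.coe_mul, Subgroup.coe_inv]
          calc (s : G)⁻¹ * t * a = (s : G)⁻¹ * ((t : G) * a * (t : G)⁻¹) * t := by group
            _ = (s : G)⁻¹ * ((s : G) * a * (s : G)⁻¹) * t := by rw [hst]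
            _ = _ := by group
    rw [index_eq_card]
    exact (Nat.card_le_card_of_injective f hf).trans (Nat.card_fin 2).le
  obtain ⟨c, hc, hcM⟩ : ∃ c : (S : Subgroup G), c ∈ C ∧ (c : G) ∉ M := by
    by_contra hcon
    push Not at hcon
    have h4 : Nat.card C ≤ 4 := by
      have hv : ∀ c : C, (c.1 : G) = 1 ∨ (c.1 : G) = a ∨ (c.1 : G) = a ^ 2 ∨ (c.1 : G) = a ^ 3 := by
        rintro ⟨⟨c, hcS⟩, hcC⟩
        have hcM := hcon _ hcC
        rw [hC, mem_subgroupOf, Subgroup.mem_centralizer_singleton_iff] at hcC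
        have := a6Four_cent (e ⟨c, hcM⟩) (by
          apply e.symm.injective; apply Subtype.ext; simpa [ha] using hcC)
        rcases this with e' | e' | e' | e'
        all_goals have := congrArg (fun m => ((e.symm m : M) : G)) e'
        all_goals simp [ha] at this ⊢
        all_goals tauto
      let g : C → zpowers a := fun c => ⟨(c.1 : G), by
        rcases hv c with e1 | e1 | e1 | e1 <;> rw [e1]
        exacts [one_mem _, mem_zpowers a, pow_mem (mem_zpowers a) 2, pow_mem (mem_zpowers a) 3]⟩
      refine (Nat.card_le_card_of_injective g fun c d hcd => ?_).trans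
        (by rw [Nat.card_zpowers, ha4'])
      exact Subtype.ext (Subtype.ext (by simpa [g] using hcd))
    have := C.card_mul_index
    rw [hS16] at this
    nlinarith
  rw [hC, mem_subgroupOf, Subgroup.mem_centralizer_singleton_iff] at hc
  have hc2M : (c : G) * c ∈ M := mul_self_mem_of_index_two hidx _
  have hc4 := pow_four_of_isPGroup h S.isPGroup' c.2
  have := a6Four_cent (e ⟨(c : G) * c, hc2M⟩) (by
    apply e.symm.injective; apply Subtype.ext
    simp [ha] at hc ⊢
    rw [mul_assoc, hc, ← mul_assoc, hc, mul_assoc])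
  have hca : ∀ k : ℕ, (c : G) * c = a ^ k → k ∈ [0, 1, 2, 3] → False := by
    intro k hk hkl
    simp only [List.mem_cons, List.not_mem_nil, or_false] at hkl
    rcases hkl with rfl | rfl | rfl | rfl
    · exact hcM (hno _ (by simpa using hk))
    · apply ha2
      rw [show (4 : ℕ) = 2 + 2 from rfl, pow_add, sq, hk, pow_one] at hc4
      rw [sq]; exact hc4
    · refine hcM ((mul_mem_cancel_right haM).1 (hno _ ?_))
      calc (c : G) * a * ((c : G) * a) = ((c : G) * c) * (a * a) := by
            rw [mul_assoc (c : G) a, ← mul_assoc a, ← hc]; group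
        _ = 1 := by rw [hk, ← sq, ← pow_add]; exact ha4
    · apply ha2
      rw [show (4 : ℕ) = 2 + 2 from rfl, pow_add, sq, hk, ← pow_add] at hc4
      rw [show 3 + 3 = 4 + 2 from rfl, pow_add, ha4, one_mul] at hc4
      exact hc4
  rcases this with e' | e' | e' | e'
  all_goals have := congrArg (fun m => ((e.symm m : M) : G)) e'
  all_goals simp only [MulEquiv.symm_apply_apply, map_one, map_pow, SubmonoidClass.coe_pow,
    Subgroup.coe_one] at this
  · exact hca 0 (by rw [this, pow_zero]) (by simp)
  · exact hca 1 (by rw [this, pow_one, ha]) (by simp)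
  · exact hca 2 (by rw [this, ha]) (by simp)
  · exact hca 3 (by rw [this, ha]) (by simp)

end H63.SmallExp
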