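/-
The normaliser of a maximal intersection of Sylow 2-subgroups.
-/
import Cfsg.Agent.H63.SmallExp.Local
import Cfsg.Agent.H63.SmallExp.Socle
import Cfsg.Agent.H78.SylowConj

set_option autoImplicit false
set_option linter.style.haveILetI false
set_option linter.unusedSectionVars false

namespace H63.SmallExp

open Subgroup
open scoped Pointwise

universe u

variable {G : Type u} [Group G]

theorem elementary_sq {E : Subgroup G} (hE : Cfsg.IsElementaryAbelian 2 E) {x : G} (hx : x ∈ E) :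
    x * x = 1 := by
  have := hE.2 x hx
  rwa [sq] at this

theorem elementary_comm {E : Subgroup G} (hE : Cfsg.IsElementaryAbelian 2 E) {x y : G} (hx : x ∈ E)
    (hy : y ∈ E) : x * y = y * x :=
  congrArg Subtype.val (hE.1.1.1 ⟨x, hx⟩ ⟨y, hy⟩)

theorem elementary_intro {E : Subgroup G} (h : ∀ x ∈ E, x * x = 1) :
    Cfsg.IsElementaryAbelian 2 E := by
  refine ⟨⟨⟨fun a b => Subtype.ext ?_⟩⟩, fun x hx => by rw [sq]; exact h x hx⟩
  have ha : (a : G)⁻¹ = a := inv_eq_of_mul_eq_one_right (h _ a.2)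
  have hb : (b : G)⁻¹ = b := inv_eq_of_mul_eq_one_right (h _ b.2)
  have hab : ((a : G) * b)⁻¹ = a * b := inv_eq_of_mul_eq_one_right (h _ (mul_mem a.2 b.2))
  rw [mul_inv_rev, ha, hb] at hab
  exact hab.symm

theorem elementary_map {H : Type*} [Group H] {E : Subgroup G} (hE : Cfsg.IsElementaryAbelian 2 E)
    (f : G →* H) : Cfsg.IsElementaryAbelian 2 (E.map f) := by
  refine elementary_intro ?_
  rintro _ ⟨x, hx, rfl⟩
  rw [← map_mul, elementary_sq hE hx, map_one]

theorem card_map_conj (A : Subgroup G) (g : G) :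
    Nat.card (A.map (MulAut.conj g).toMonoidHom) = Nat.card A :=
  Subgroup.card_map_of_injective (MulAut.conj g).injective

theorem mem_map_conj {A : Subgroup G} {g x : G} :
    x ∈ A.map (MulAut.conj g).toMonoidHom ↔ g⁻¹ * x * g ∈ A := by
  constructor
  · rintro ⟨y, hy, rfl⟩
    simpa [mul_assoc] using hy
  · intro h
    exact ⟨_, h, by simp [mul_assoc]⟩

theorem map_conj_map (A : Subgroup G) (g k : G) :
    (A.map (MulAut.conj g).toMonoidHom).map (MulAut.conj k).toMonoidHom =
      A.map (MulAut.conj (k * g)).toMonoidHom := by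
  ext x
  rw [mem_map_conj, mem_map_conj, mem_map_conj]
  simp only [mul_inv_rev, mul_assoc]

theorem map_conj_of_mem {A : Subgroup G} {g : G} (hg : g ∈ normalizer (A : Set G)) :
    A.map (MulAut.conj g).toMonoidHom = A := by
  ext x
  rw [mem_map_conj]
  have := mem_normalizer_iff.1 (inv_mem hg) x
  simp only [inv_inv] at this
  exact this.symm

/-- An element mapping a finite subgroup into itself by conjugation normalises it. -/
theorem mem_normalizer_of_forall [Finite G] {A : Subgroup G} {g : G}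
    (h : ∀ x ∈ A, g * x * g⁻¹ ∈ A) : g ∈ normalizer (A : Set G) := by
  have hmap : A.map (MulAut.conj g).toMonoidHom = A := by
    refine eq_of_le_of_card_ge ?_ (by rw [card_map_conj])
    rintro _ ⟨x, hx, rfl⟩
    exact h x hx
  rw [mem_normalizer_iff]
  intro x
  refine ⟨h x, fun hx => ?_⟩
  have h2 : g * x * g⁻¹ ∈ A.map (MulAut.conj g).toMonoidHom := by rw [hmap]; exact hx
  rw [mem_map_conj] at h2
  simpa [mul_assoc] using h2

variable [Finite G]

/-- The configuration of a maximal Sylow intersection `D` with the second elementary subgroup `E`. -/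
structure Conf (D E W S : Subgroup G) (e : ℕ) : Prop where
  del : Cfsg.IsElementaryAbelian 2 D
  eel : Cfsg.IsElementaryAbelian 2 E
  hW : W = D ⊓ E
  hS : S = E ⊔ D
  cardD : Nat.card D = Nat.card W ^ 2
  cardE : Nat.card E = e * Nat.card W
  one_lt : 1 < Nat.card W
  hle : e ≤ Nat.card W
  hEN : E ≤ normalizer (D : Set G)
  cent : ∀ x ∈ E, x ∉ W → ∀ d ∈ D, Commute d x → d ∈ W
  syl : ∀ R : Subgroup G, IsPGroup 2 R → R ≤ normalizer (D : Set G) → Nat.card R ≤ Nat.card S
  he : e = 2 ∨ (e = 4 ∧ (∃ f : ↥(normalizer (D : Set G)) →* ↥(alternatingGroup (Fin 5)),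
      Function.Surjective f ∧ f.ker = D.subgroupOf (normalizer (D : Set G))) ∧
    ∃ u : G, orderOf u = 3 ∧ u ∈ normalizer (D : Set G) ∧ u ∈ normalizer (E : Set G))

/-- The order of a group over `A₅`. -/
theorem card_of_alt5_surj {H : Type*} [Group H] [Finite H] (f : H →* ↥(alternatingGroup (Fin 5)))
    (hf : Function.Surjective f) : Nat.card H = Nat.card f.ker * 60 := by
  rw [Subgroup.card_eq_card_quotient_mul_card_subgroup f.ker, mul_comm]
  congr 1
  rw [← Subgroup.index_eq_card, Subgroup.index_ker, MonoidHom.range_eq_top.2 hf, Subgroup.card_top,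
    nat_card_alternatingGroup, Nat.card_fin]
  rfl

/-- An element of order five normalising a 2-group has only trivial fixed points. -/
theorem five_card (h : Hyp G) {Q : Subgroup G} (hQ : IsPGroup 2 Q) {v : G} (hv : orderOf v = 5)
    (hn : v ∈ normalizer (Q : Set G)) : Nat.card Q % 5 = 1 := by
  haveI : Fact (Nat.Prime 5) := ⟨Nat.prime_five⟩
  have hle : zpowers v ≤ normalizer (Q : Set G) := zpowers_le.2 hn
  let φ : zpowers v →* MulAut Q := Q.normalizerMonoidHom.comp (Subgroup.inclusion hle)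
  letI : MulAction (zpowers v) Q := MulAction.compHom Q φ
  have hP : IsPGroup 5 (zpowers v) := IsPGroup.of_card (n := 1) (by rw [Nat.card_zpowers, hv, pow_one])
  have h1 := hP.card_modEq_card_fixedPoints Q
  have h2 : Nat.card (MulAction.fixedPoints (zpowers v) Q) = 1 := by
    rw [Nat.card_eq_one_iff_unique]
    refine ⟨⟨fun a b => ?_⟩, ⟨⟨1, fun g => (map_one (φ g))⟩⟩⟩
    have key : ∀ c : MulAction.fixedPoints (zpowers v) Q, ((c : Q) : G) = 1 := fun c => by
      have h3 : φ ⟨v, mem_zpowers v⟩ c = c := c.2 ⟨v, mem_zpowers v⟩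
      have h4 : v * ((c : Q) : G) * v⁻¹ = ((c : Q) : G) := congrArg Subtype.val h3
      exact fpf h hQ Nat.prime_five (by norm_num) hv (c : Q).2 (mul_inv_eq_iff_eq_mul.1 h4)
    exact Subtype.ext (Subtype.ext ((key a).trans (key b).symm))
  rw [h2] at h1
  exact h1

/-- Lifting an involution of `A₅` to an involution inverting an element of order three. -/
theorem lift_inverting_at (h : Hyp G) {X : Type*} [Group X] (f : G →* X) (hf : Function.Surjective f)
    (hker : IsPGroup 2 f.ker) {a k : X} (ha : a * a = 1) (ha1 : a ≠ 1) (hk : k ^ 3 = 1) (hk1 : k ≠ 1)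
    (hak : a * k * a⁻¹ = k⁻¹) (u : G) (hu : f u = k) :
    ∃ z : G, f z = a ∧ z * z = 1 ∧ z ≠ 1 ∧ orderOf u = 3 ∧ z * u * z⁻¹ = u⁻¹ := by
  haveI : Fact (Nat.Prime 3) := ⟨Nat.prime_three⟩
  haveI : Fact (Nat.Prime 2) := ⟨Nat.prime_two⟩
  obtain ⟨z₀, hz₀⟩ := hf a
  have hk3 : orderOf k = 3 := orderOf_eq_prime hk hk1
  have hu3 : orderOf u = 3 := by
    have h1 := orderOf_map_dvd f u
    rw [hu, hk3] at h1
    have h2 := h u
    have := orderOf_pos u
    omega
  set L := f.ker ⊔ zpowers u with hL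
  set A := zpowers u with hA
  set B := A.map (MulAut.conj z₀).toMonoidHom with hB
  have hAc : Nat.card A = 3 := by rw [hA, Nat.card_zpowers, hu3]
  have hBL : B ≤ L := by
    rintro _ ⟨x, hx, rfl⟩
    obtain ⟨i, rfl⟩ := mem_zpowers_iff.1 hx
    rw [MulEquiv.coe_toMonoidHom, map_zpow]
    refine zpow_mem ?_ i
    have h1 : z₀ * u * z₀⁻¹ * u ∈ f.ker := by
      rw [MonoidHom.mem_ker, map_mul, map_mul, map_mul, map_inv, hz₀, hu, hak, inv_mul_cancel]
    have h2 := mul_mem (mem_sup_left h1 : _ ∈ L) (inv_mem (mem_sup_right (mem_zpowers u) : u ∈ L))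
    rwa [mul_inv_cancel_right] at h2
  have hidx : ¬ 3 ∣ A.relIndex L := by
    intro h3
    have h1 : Nat.card L = 3 * A.relIndex L := by
      rw [← relIndex_bot_left, ← relIndex_mul_relIndex ⊥ A L bot_le le_sup_right, relIndex_bot_left,
        hAc]
    have h2 : Nat.card L ∣ Nat.card f.ker * 3 := by
      have := H1.card_sup_dvd_mul A f.ker
      rw [sup_comm, hAc, mul_comm] at this
      exact this
    obtain ⟨n, hn⟩ := IsPGroup.iff_card.1 hker
    rw [h1, hn, mul_comm 3] at h2
    have := h3.trans (Nat.dvd_of_mul_dvd_mul_right (by norm_num) h2)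
    exact absurd (Nat.prime_three.dvd_of_dvd_pow this) (by norm_num)
  obtain ⟨l, hl, hlB⟩ := H78.sylow_conj_in (p := 3) (IsPGroup.of_card (n := 1) (by rw [hAc, pow_one]))
    (le_sup_right : A ≤ L) hidx (IsPGroup.of_card (n := 1) (by rw [hB, card_map_conj, hAc, pow_one]))
    hBL (by rw [hB, card_map_conj])
  obtain ⟨d, hd, w, hw, rfl⟩ := mem_sup_of_normal_left.1 hl
  rw [← map_conj_map, map_conj_of_mem (le_normalizer hw)] at hlB
  set z := d⁻¹ * z₀ with hz
  have hzA : A.map (MulAut.conj z).toMonoidHom = A := by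
    rw [hz, ← map_conj_map, ← hB, ← hlB, map_conj_map, inv_mul_cancel,
      map_conj_of_mem (one_mem _)]
  have hfz : f z = a := by
    rw [hz, map_mul, map_inv, MonoidHom.mem_ker.1 hd, inv_one, one_mul, hz₀]
  have hzn : ∀ x ∈ A, z * x * z⁻¹ ∈ A := fun x hx => hzA ▸ ⟨x, hx, rfl⟩
  have hzz : z * z = 1 := by
    have hzk : z * z ∈ f.ker := by rw [MonoidHom.mem_ker, map_mul, hfz, ha]
    have h2 : z * z * u * (z * z)⁻¹ ∈ A := by
      have := hzn _ (hzn u (mem_zpowers u))
      convert this using 1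
      group
    have hdis : Disjoint f.ker A := IsPGroup.disjoint_of_ne 2 3 (by norm_num) _ _ hker
      (IsPGroup.of_card (n := 1) (by rw [hAc, pow_one]))
    exact fpf h hker Nat.prime_three (by norm_num) hu3 hzk
      (eq_one_of_conj_mem hdis hzk (mem_zpowers u) h2).symm
  have hz1 : z ≠ 1 := fun e => ha1 (by rw [← hfz, e, map_one])
  exact ⟨z, hfz, hzz, hz1, hu3,
    inverts h (by norm_num) hu3 hzz hz1 (hzn u (mem_zpowers u))⟩

/-- Some lift of an inverting involution. -/
theorem lift_inverting (h : Hyp G) {X : Type*} [Group X] (f : G →* X) (hf : Function.Surjective f)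
    (hker : IsPGroup 2 f.ker) {a k : X} (ha : a * a = 1) (ha1 : a ≠ 1) (hk : k ^ 3 = 1) (hk1 : k ≠ 1)
    (hak : a * k * a⁻¹ = k⁻¹) :
    ∃ z u : G, f z = a ∧ f u = k ∧ z * z = 1 ∧ z ≠ 1 ∧ orderOf u = 3 ∧ z * u * z⁻¹ = u⁻¹ := by
  obtain ⟨u, hu⟩ := hf k
  obtain ⟨z, h1, h2, h3, h4, h5⟩ := lift_inverting_at h f hf hker ha ha1 hk hk1 hak u hu
  exact ⟨z, u, h1, hu, h2, h3, h4, h5⟩

/-- Assembling a configuration from a complement `V` of `D` in a Sylow subgroup of `N(D)`. -/
theorem conf_of_complement {D W V : Subgroup G} {e : ℕ} (hD : Cfsg.IsElementaryAbelian 2 D)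
    (hV : Cfsg.IsElementaryAbelian 2 V) (hVc : Nat.card V = e)
    (hVD : ∀ v ∈ V, v ∈ D → v = 1) (hVN : V ≤ normalizer (D : Set G)) (hWD : W ≤ D)
    (hcard : Nat.card D = Nat.card W ^ 2) (hone : 1 < Nat.card W) (hle : e ≤ Nat.card W)
    (hWV : ∀ w ∈ W, ∀ v ∈ V, Commute w v)
    (hcent : ∀ v ∈ V, v ≠ 1 → ∀ d ∈ D, Commute d v → d ∈ W)
    (hsyl : ∀ R : Subgroup G, IsPGroup 2 R → R ≤ normalizer (D : Set G) →
      Nat.card R ≤ e * Nat.card D)
    (he : e = 2 ∨ (e = 4 ∧ (∃ f : ↥(normalizer (D : Set G)) →* ↥(alternatingGroup (Fin 5)),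
        Function.Surjective f ∧ f.ker = D.subgroupOf (normalizer (D : Set G))) ∧
      ∃ u : G, orderOf u = 3 ∧ u ∈ normalizer (D : Set G) ∧
        u ∈ normalizer ((W ⊔ V : Subgroup G) : Set G))) :
    Conf D (W ⊔ V) W ((W ⊔ V) ⊔ D) e := by
  have hnorm : V ≤ normalizer (W : Set G) := fun v hv =>
    mem_normalizer_of_forall fun w hw => by
      rw [← (hWV w hw v hv).eq, mul_inv_cancel_right]; exact hw
  have hcoe : ((V ⊔ W : Subgroup G) : Set G) = (V : Set G) * (W : Set G) :=
    coe_mul_of_left_le_normalizer_right V W hnorm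
  have hmem : ∀ x ∈ W ⊔ V, ∃ w ∈ W, ∃ v ∈ V, x = w * v := by
    intro x hx
    rw [← SetLike.mem_coe, sup_comm, hcoe] at hx
    obtain ⟨v, hv, w, hw, rfl⟩ := hx
    exact ⟨w, hw, v, hv, (hWV w hw v hv).eq.symm⟩
  have hE : Cfsg.IsElementaryAbelian 2 (W ⊔ V : Subgroup G) := elementary_intro fun x hx => by
    obtain ⟨w, hw, v, hv, rfl⟩ := hmem x hx
    calc w * v * (w * v) = w * (v * w) * v := by group
      _ = w * (w * v) * v := by rw [(hWV w hw v hv).eq]
      _ = (w * w) * (v * v) := by group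
      _ = 1 := by rw [elementary_sq hD (hWD hw), elementary_sq hV hv, one_mul]
  have hDE : W = D ⊓ (W ⊔ V) := by
    refine le_antisymm (le_inf hWD le_sup_left) fun x hx => ?_
    obtain ⟨w, hw, v, hv, rfl⟩ := hmem x hx.2
    have hvD : v ∈ D := by
      have := mul_mem (inv_mem (hWD hw)) hx.1
      rwa [inv_mul_cancel_left] at this
    rw [hVD v hv hvD, mul_one]; exact hw
  have hcardE : Nat.card (W ⊔ V : Subgroup G) = e * Nat.card W := by
    have h1 := H78.card_sup_eq_of_coe V W hcoe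
    have h2 : V ⊓ W = ⊥ := eq_bot_iff.2 fun x hx => mem_bot.2 (hVD x hx.1 (hWD hx.2))
    rw [h2, Subgroup.card_bot, mul_one, hVc, sup_comm] at h1
    exact h1
  have hEN : W ⊔ V ≤ normalizer (D : Set G) := sup_le (hWD.trans le_normalizer) hVN
  refine
    { del := hD, eel := hE, hW := hDE, hS := rfl, cardD := hcard, cardE := hcardE, one_lt := hone,
      hle := hle, hEN := hEN, he := he, cent := ?_, syl := ?_ }
  · intro x hx hxW d hd hdx
    obtain ⟨w, hw, v, hv, rfl⟩ := hmem x hx
    have hv1 : v ≠ 1 := fun e' => hxW (by rw [e', mul_one]; exact hw)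
    refine hcent v hv hv1 d hd ?_
    have h1 : Commute d w⁻¹ := (show Commute d w from elementary_comm hD hd (hWD hw)).inv_right
    have := h1.mul_right hdx
    rwa [inv_mul_cancel_left] at this
  · intro R hR hRN
    refine (hsyl R hR hRN).trans (le_of_eq ?_)
    have h1 := H78.card_sup_eq_of_coe (W ⊔ V) D (coe_mul_of_left_le_normalizer_right _ _ hEN)
    rw [inf_comm, ← hDE, hcardE] at h1
    refine Nat.eq_of_mul_eq_mul_right (lt_trans Nat.zero_lt_one hone) ?_
    rw [h1]; ring

/-- A 2-subgroup of a group of order `n * r` with odd `r` has order at most `n` for a 2-power `n`. -/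
theorem card_two_le {R : Subgroup G} (hR : IsPGroup 2 R) {N : Subgroup G} (hRN : R ≤ N) {n r : ℕ}
    (hN : Nat.card N = n * r) (hn : 0 < n) (hr : ¬ 2 ∣ r) : Nat.card R ≤ n := by
  obtain ⟨j, hj⟩ := IsPGroup.iff_card.1 hR
  have h1 := card_dvd_of_le hRN
  rw [hN, hj] at h1
  rw [hj]
  exact Nat.le_of_dvd hn ((Nat.Coprime.pow_left j (Nat.prime_two.coprime_iff_not_dvd.2 hr)).dvd_of_dvd_mul_right h1)

/-- The configuration when `N(D)/D` is dihedral of order twice an odd prime. -/
theorem exists_conf_dihedral (h : Hyp G) {D : Subgroup G} (hD : Cfsg.IsElementaryAbelian 2 D)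
    (hD1 : D ≠ ⊥) {p : ℕ} {u z : G} (hp : p.Prime) (hp2 : p ≠ 2) (hu : orderOf u = p)
    (huN : u ∈ normalizer (D : Set G)) (hzN : z ∈ normalizer (D : Set G)) (hz : z * z = 1)
    (hzD : z ∉ D) (hinv : z * u * z⁻¹ = u⁻¹)
    (hcard : Nat.card (normalizer (D : Set G)) = Nat.card D * (2 * p)) :
    ∃ E W S, Conf D E W S 2 := by
  set W := D ⊓ centralizer ({z} : Set G) with hW
  have hsq : Nat.card D = Nat.card W ^ 2 := card_eq_sq_centralizer h hD hp hp2 hu hz hinv huN hzN
  have hone : 1 < Nat.card W := by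
    by_contra hcon
    have h1 : Nat.card W = 1 := le_antisymm (not_lt.1 hcon) Nat.card_pos
    rw [h1, one_pow] at hsq
    exact hD1 (Subgroup.card_eq_one.1 hsq)
  have hz2 : orderOf z = 2 := orderOf_eq_prime (by rw [sq]; exact hz) (fun e => hzD (e ▸ one_mem D))
  have hmem : ∀ v ∈ zpowers z, v = 1 ∨ v = z := by
    intro v hv
    obtain ⟨i, rfl⟩ := mem_zpowers_iff.1 hv
    rw [← zpow_mod_orderOf, hz2]
    rcases Int.emod_two_eq_zero_or_one i with e | e <;> simp [e]
  have hV : Cfsg.IsElementaryAbelian 2 (zpowers z) := elementary_intro fun v hv => by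
    rcases hmem v hv with rfl | rfl
    · exact one_mul 1
    · exact hz
  refine ⟨_, W, _, conf_of_complement hD hV (by rw [Nat.card_zpowers, hz2])
    (fun v hv hvD => (hmem v hv).resolve_right fun e => hzD (e ▸ hvD))
    (zpowers_le.2 hzN) inf_le_left hsq hone (by omega) ?_ ?_ ?_ (Or.inl rfl)⟩
  · intro w hw v hv
    rcases hmem v hv with rfl | rfl
    · exact Commute.one_right w
    · exact mem_centralizer_singleton_iff.1 hw.2
  · intro v hv hv1 d hd hdv
    obtain rfl := (hmem v hv).resolve_left hv1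
    exact ⟨hd, mem_centralizer_singleton_iff.2 hdv.eq⟩
  · intro R hR hRN
    refine card_two_le hR hRN (r := p) (by rw [hcard]; ring) (Nat.mul_pos two_pos Nat.card_pos) ?_
    exact fun h2 => hp2 ((Nat.prime_dvd_prime_iff_eq Nat.prime_two hp).1 h2).symm

/-- The configuration when `N(D)/D` is `A₅`. -/
theorem exists_conf_alt (h : Hyp G) {D : Subgroup G} (hD : Cfsg.IsElementaryAbelian 2 D)
    (hD1 : D ≠ ⊥) (f : ↥(normalizer (D : Set G)) →* ↥(alternatingGroup (Fin 5)))
    (hf : Function.Surjective f) (hker : f.ker = D.subgroupOf (normalizer (D : Set G))) :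
    ∃ E W S, Conf D E W S 4 := by
  classical
  revert hf hker
  revert f
  set N := normalizer (D : Set G) with hN
  intro f hf hker
  have hD2 := isPGroup_two_of_elementary hD
  have hkc : Nat.card f.ker = Nat.card D := by
    rw [hker]; exact Nat.card_congr (subgroupOfEquivOfLe le_normalizer).toEquiv
  have hk2 : IsPGroup 2 f.ker := by
    obtain ⟨n, hn⟩ := IsPGroup.iff_card.1 hD2
    exact IsPGroup.of_card (hkc.trans hn)
  have hNc : Nat.card N = Nat.card D * 60 := hkc ▸ card_of_alt5_surj f hf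
  have hmemD : ∀ x : N, f x = 1 ↔ (x : G) ∈ D := fun x => by
    rw [← MonoidHom.mem_ker, hker, mem_subgroupOf]
  obtain ⟨a, b, ha1, hb1, hab, ha, hb, habc⟩ := a5_four_group
  obtain ⟨k', hk'3, hk'1, hak'⟩ := a5_inverts a ha ha1
  obtain ⟨k, hk3, hk1, hka, hkb⟩ := a5_four_normalizer a b ha ha1 hb hb1 hab habc
  obtain ⟨⟨z, hzN⟩, ⟨u', hu'N⟩, hfz, -, hzz, hz1, hu', hzu'⟩ :=
    lift_inverting (h.subgroup N) f hf hk2 ha ha1 hk'3 hk'1 hak'
  have hzz' : z * z = 1 := congrArg Subtype.val hzz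
  have hz1' : z ≠ 1 := fun e => hz1 (Subtype.ext e)
  have hu'' : orderOf u' = 3 := by rw [← hu', ← Subgroup.orderOf_coe]
  have hzu'' : z * u' * z⁻¹ = u'⁻¹ := congrArg Subtype.val hzu'
  obtain ⟨⟨u, huN⟩, hfu⟩ := hf k
  have hord : ∀ x : N, orderOf (f x) = 3 → orderOf (x : G) = 3 := by
    intro x hx
    have h1 := orderOf_map_dvd f x
    rw [hx, ← Subgroup.orderOf_coe] at h1
    have h2 := h (x : G)
    have := orderOf_pos (x : G)
    omega
  have hu3 : orderOf u = 3 := hord ⟨u, huN⟩ (by rw [hfu]; exact orderOf_eq_prime hk3 hk1)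
  have hu1 : u ^ 3 = 1 := hu3 ▸ pow_orderOf_eq_one u
  set z' := u * z * u⁻¹ with hz'def
  set z'' := u * z' * u⁻¹ with hz''def
  have hz'N : z' ∈ N := mul_mem (mul_mem huN hzN) (inv_mem huN)
  have hz''N : z'' ∈ N := mul_mem (mul_mem huN hz'N) (inv_mem huN)
  have hfz' : f ⟨z', hz'N⟩ = b := by
    rw [show (⟨z', hz'N⟩ : N) = ⟨u, huN⟩ * ⟨z, hzN⟩ * ⟨u, huN⟩⁻¹ from rfl, map_mul, map_mul,
      map_inv, hfu, hfz, hka]
  have hfz'' : f ⟨z'', hz''N⟩ = a * b := by
    rw [show (⟨z'', hz''N⟩ : N) = ⟨u, huN⟩ * ⟨z', hz'N⟩ * ⟨u, huN⟩⁻¹ from rfl, map_mul, map_mul,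
      map_inv, hfu, hfz', hkb]
  have hrel : z' * z'' * z = 1 := by
    have h3 : orderOf (u * z) = 3 := by
      refine hord (⟨u, huN⟩ * ⟨z, hzN⟩) ?_
      rw [map_mul, hfu, hfz]
      refine orderOf_eq_prime ?_ ?_
      · calc (k * a) ^ 3 = (k * a * k⁻¹) * (k * (k * a * k⁻¹) * k⁻¹) * (k ^ 3 * a) := by
              simp only [pow_succ, pow_zero, one_mul]; group
          _ = b * (a * b) * a := by rw [hka, hkb, hk3, one_mul]
          _ = (b * b) * (a * a) := by rw [habc]; group
          _ = 1 := by rw [ha, hb, one_mul]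
      · intro e
        have h2 : k = a := by rw [mul_eq_one_iff_eq_inv.1 e, inv_eq_of_mul_eq_one_right ha]
        have h3 := hk3
        rw [h2, show a ^ 3 = a * a * a by simp [pow_succ], ha, one_mul] at h3
        exact ha1 h3
    have h4 := pow_orderOf_eq_one (u * z)
    rw [h3] at h4
    have h5 : z' * z'' * (u ^ 3 * z) = (u * z) ^ 3 := by
      simp only [hz'def, hz''def, pow_succ, pow_zero, one_mul]; group
    rw [hu1, one_mul, h4] at h5
    exact h5
  have hz'2 : z' * z' = 1 := by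
    calc z' * z' = u * (z * z) * u⁻¹ := by rw [hz'def]; group
      _ = 1 := by rw [hzz']; group
  have hz''2 : z'' * z'' = 1 := by
    calc z'' * z'' = u * (z' * z') * u⁻¹ := by rw [hz''def]; group
      _ = 1 := by rw [hz'2]; group
  have h12 : z' * z'' = z := by
    rw [mul_eq_one_iff_eq_inv.1 hrel, inv_eq_of_mul_eq_one_right hzz']
  have hzi := inv_eq_of_mul_eq_one_right hzz'
  have hz'i := inv_eq_of_mul_eq_one_right hz'2
  have hz''i := inv_eq_of_mul_eq_one_right hz''2
  have h21 : z'' * z' = z := by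
    rw [← hz''i, ← hz'i, ← mul_inv_rev, h12, hzi]
  have hcomm : z * z' = z' * z := by
    calc z * z' = z' * z'' * z' := by rw [h12]
      _ = z' * z := by rw [mul_assoc, h21]
  have h01 : z * z' = z'' := by
    rw [hcomm, ← h12, ← mul_assoc, hz'2, one_mul]
  -- the common fixed-point group
  obtain ⟨f1, f2, f3, f4⟩ := cj_facts h hD2 Nat.prime_three (by norm_num) hu'' hzz' hzu'' hu'N hzN
  have fu : ∀ v : D, cj huN v = v → v = 1 := fun v hv => by
    have h1 := congrArg Subtype.val hv
    rw [cj_apply, mul_inv_eq_iff_eq_mul] at h1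
    exact Subtype.ext (fpf h hD2 Nat.prime_three (by norm_num) hu3 v.2 h1)
  set W := D ⊓ centralizer ({z} : Set G) with hW
  have hsqD : ∀ v : D, v * v = 1 := fun v => Subtype.ext (elementary_sq hD v.2)
  letI : CommGroup D := { (inferInstance : Group D) with mul_comm := hD.1.1.1 }
  have hWfix : ∀ w ∈ W, z' * w * z'⁻¹ = w := by
    intro w hw
    have hfix : cj hzN (⟨w, hw.1⟩ : D) = ⟨w, hw.1⟩ := Subtype.ext (by
      rw [cj_apply]
      show z * w * z⁻¹ = w
      rw [← mem_centralizer_singleton_iff.1 hw.2, mul_inv_cancel_right])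
    have h1 := exists_displacement hsqD (cj hu'N) (cj hzN) (Or.inl f1) f3 f4 _ hfix
    have h2 := four_fixed_eq hsqD (cj huN) (cj hzN) (cj_pow_eq_one huN hu1) fu f2
      (fun v => Subtype.ext (by
        simp only [cj_apply, cj_inv_apply]
        calc z * (u * (z * (u⁻¹ * (v : G) * u) * z⁻¹) * u⁻¹) * z⁻¹
            = (z * z') * v * (z * z')⁻¹ := by rw [hz'def]; group
          _ = (z' * z) * v * (z' * z)⁻¹ := by rw [hcomm]
          _ = _ := by rw [hz'def]; group))
      (fun v => Subtype.ext (by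
        simp only [cj_apply, cj_inv_apply]
        calc z * (u * (z * (u⁻¹ * (v : G) * u) * z⁻¹) * u⁻¹) * z⁻¹
            = (z * z') * v * (z * z')⁻¹ := by rw [hz'def]; group
          _ = z'' * v * z''⁻¹ := by rw [h01]
          _ = _ := by rw [hz''def, hz'def]; group; simp only [zpow_two, mul_assoc]))
      _ h1
    have h3 := congrArg Subtype.val h2
    simp only [cj_apply, cj_inv_apply] at h3
    calc z' * w * z'⁻¹ = u * (z * (u⁻¹ * w * u) * z⁻¹) * u⁻¹ := by rw [hz'def]; group
      _ = w := h3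
  have huW : u ∈ normalizer (W : Set G) := by
    have hle : W ≤ W.map (MulAut.conj u).toMonoidHom := by
      intro w hw
      rw [mem_map_conj]
      refine ⟨?_, mem_centralizer_singleton_iff.2 ?_⟩
      · have := (mem_normalizer_iff.1 (inv_mem huN) w).1 hw.1
        simpa using this
      · have h1 : z' * w = w * z' := mul_inv_eq_iff_eq_mul.1 (hWfix w hw)
        rw [hz'def] at h1
        calc u⁻¹ * w * u * z = u⁻¹ * (w * (u * z * u⁻¹)) * u := by group
          _ = u⁻¹ * ((u * z * u⁻¹) * w) * u := by rw [h1]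
          _ = z * (u⁻¹ * w * u) := by group
    have heq := eq_of_le_of_card_ge hle (card_map_conj W u).le
    refine mem_normalizer_of_forall fun w hw => ?_
    rw [heq]; exact ⟨w, hw, rfl⟩
  have hWz' : ∀ d ∈ D, Commute d z' → d ∈ W := by
    intro d hd hdz
    have hd' : u⁻¹ * d * u ∈ W := by
      refine ⟨?_, mem_centralizer_singleton_iff.2 ?_⟩
      · have := (mem_normalizer_iff.1 (inv_mem huN) d).1 hd
        simpa using this
      · have h1 : d * z' = z' * d := hdz.eq
        rw [hz'def] at h1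
        calc u⁻¹ * d * u * z = u⁻¹ * (d * (u * z * u⁻¹)) * u := by group
          _ = u⁻¹ * ((u * z * u⁻¹) * d) * u := by rw [h1]
          _ = z * (u⁻¹ * d * u) := by group
    have := (mem_normalizer_iff.1 huW _).1 hd'
    simpa [mul_assoc] using this
  have hWz'' : ∀ d ∈ D, Commute d z'' → d ∈ W := by
    intro d hd hdz
    have hd' : u⁻¹ * d * u ∈ W := by
      refine hWz' _ ?_ ?_
      · have := (mem_normalizer_iff.1 (inv_mem huN) d).1 hd
        simpa using this
      · have h1 : d * z'' = z'' * d := hdz.eq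
        rw [hz''def] at h1
        show u⁻¹ * d * u * z' = z' * (u⁻¹ * d * u)
        calc u⁻¹ * d * u * z' = u⁻¹ * (d * (u * z' * u⁻¹)) * u := by group
          _ = u⁻¹ * ((u * z' * u⁻¹) * d) * u := by rw [h1]
          _ = z' * (u⁻¹ * d * u) := by group
    have := (mem_normalizer_iff.1 huW _).1 hd'
    simpa [mul_assoc] using this
  -- the four-group
  have hsq : Nat.card D = Nat.card W ^ 2 :=
    card_eq_sq_centralizer h hD Nat.prime_three (by norm_num) hu'' hzz' hzu'' hu'N hzN
  let V : Subgroup G :=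
    { carrier := {1, z, z', z''}
      one_mem' := by simp
      mul_mem' := by
        have e1 : z' * z = z'' := by rw [← hcomm, h01]
        have e2 : z * z'' = z' := by rw [← h01, ← mul_assoc, hzz', one_mul]
        have e3 : z'' * z = z' := by
          rw [← hz''i, ← hzi, ← mul_inv_rev, e2, hz'i]
        intro x y hx hy
        simp only [Set.mem_insert_iff, Set.mem_singleton_iff] at hx hy ⊢
        rcases hx with rfl | rfl | rfl | rfl <;> rcases hy with rfl | rfl | rfl | rfl <;>
          simp [hzz', hz'2, hz''2, e1, e2, e3, h01, h12, h21]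
      inv_mem' := by
        intro x hx
        simp only [Set.mem_insert_iff, Set.mem_singleton_iff] at hx ⊢
        rcases hx with rfl | rfl | rfl | rfl <;> simp [hzi, hz'i, hz''i] }
  have hfab : a * b ≠ 1 := fun e => hab (by rw [mul_eq_one_iff_eq_inv.1 e, inv_eq_of_mul_eq_one_right hb])
  have hout : ∀ v ∈ V, v ≠ 1 → v ∉ D := by
    intro v hv hv1 hvD
    simp only [V, Subgroup.mem_mk, Set.mem_insert_iff, Set.mem_singleton_iff] at hv
    rcases hv with rfl | rfl | rfl | rfl
    · exact hv1 rfl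
    · exact ha1 (hfz ▸ (hmemD _).2 hvD)
    · exact hb1 (hfz' ▸ (hmemD _).2 hvD)
    · exact hfab (hfz'' ▸ (hmemD _).2 hvD)
  have hVc : Nat.card V = 4 := by
    have hne : ∀ {x y : G} (hx : x ∈ N) (hy : y ∈ N), f ⟨x, hx⟩ ≠ f ⟨y, hy⟩ → x ≠ y := by
      intro x y hx hy hne e; subst e; exact hne rfl
    show Nat.card ({1, z, z', z''} : Set G) = 4
    rw [Nat.card_coe_set_eq]
    have n01 : (1 : G) ≠ z := fun e => hz1' e.symm
    have n02 : (1 : G) ≠ z' := hne (one_mem N) hz'N (by
      rw [hfz', show (⟨1, one_mem N⟩ : N) = 1 from rfl, map_one]; exact hb1.symm)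
    have n03 : (1 : G) ≠ z'' := hne (one_mem N) hz''N (by
      rw [hfz'', show (⟨1, one_mem N⟩ : N) = 1 from rfl, map_one]; exact hfab.symm)
    have n12 : z ≠ z' := hne hzN hz'N (by rw [hfz, hfz']; exact hab)
    have n13 : z ≠ z'' := hne hzN hz''N (by
      rw [hfz, hfz'']; exact fun e => hb1 (mul_eq_left.1 e.symm))
    have n23 : z' ≠ z'' := hne hz'N hz''N (by
      rw [hfz', hfz'']; exact fun e => ha1 (mul_eq_right.1 e.symm))
    rw [Set.ncard_insert_of_notMem (by simp [n01, n02, n03]),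
      Set.ncard_insert_of_notMem (by simp [n12, n13]),
      Set.ncard_insert_of_notMem (by simp [n23]), Set.ncard_singleton]
  have hV : Cfsg.IsElementaryAbelian 2 V := elementary_intro fun v hv => by
    simp only [V, Subgroup.mem_mk, Set.mem_insert_iff, Set.mem_singleton_iff] at hv
    rcases hv with rfl | rfl | rfl | rfl <;> first | exact one_mul 1 | assumption
  obtain ⟨v5, hv5⟩ : ∃ v5 : N, orderOf v5 = 5 :=
    haveI : Fact (Nat.Prime 5) := ⟨Nat.prime_five⟩
    exists_prime_orderOf_dvd_card' 5 (hNc ▸ Dvd.dvd.mul_left (by norm_num) _)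
  have h5 := five_card h hD2 (v := (v5 : G)) (by rw [Subgroup.orderOf_coe, hv5]) v5.2
  have hone : 1 < Nat.card W := by
    by_contra hcon
    have h1 : Nat.card W = 1 := le_antisymm (not_lt.1 hcon) Nat.card_pos
    rw [h1, one_pow] at hsq
    exact hD1 (Subgroup.card_eq_one.1 hsq)
  have hle : 4 ≤ Nat.card W := by
    by_contra hcon
    obtain ⟨i, hi⟩ : ∃ i, Nat.card W = 2 ^ i :=
      IsPGroup.iff_card.1 (hD2.to_le (show W ≤ D from inf_le_left))
    have h2 : i = 1 := by
      rcases i with _ | _ | i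
      · rw [pow_zero] at hi; omega
      · rfl
      · have : 2 ^ 2 ≤ 2 ^ (i + 2) := Nat.pow_le_pow_right two_pos (by omega)
        omega
    rw [h2] at hi
    rw [hsq, hi] at h5
    norm_num at h5
  have huV : ∀ v ∈ V, u * v * u⁻¹ ∈ V := by
    intro v hv
    simp only [V, Subgroup.mem_mk, Set.mem_insert_iff, Set.mem_singleton_iff] at hv ⊢
    have e3 : u * z'' * u⁻¹ = z := by
      calc u * z'' * u⁻¹ = u ^ 3 * z * (u ^ 3)⁻¹ := by
            simp only [hz''def, hz'def, pow_succ, pow_zero, one_mul]; group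
        _ = z := by rw [hu1]; group
    rcases hv with rfl | rfl | rfl | rfl
    · simp
    · exact Or.inr (Or.inr (Or.inl hz'def.symm))
    · exact Or.inr (Or.inr (Or.inr hz''def.symm))
    · exact Or.inr (Or.inl e3)
  refine ⟨_, W, _, conf_of_complement hD hV hVc (fun v hv hvD => by
      by_contra hv1; exact hout v hv hv1 hvD) ?_ inf_le_left hsq hone hle ?_ ?_ ?_
    (Or.inr ⟨rfl, ⟨f, hf, hker⟩, u, hu3, huN, ?_⟩)⟩
  · intro v hv
    simp only [V, Subgroup.mem_mk, Set.mem_insert_iff, Set.mem_singleton_iff] at hv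
    rcases hv with rfl | rfl | rfl | rfl <;> first | exact one_mem N | assumption
  · intro w hw v hv
    have hwz : w * z = z * w := mem_centralizer_singleton_iff.1 hw.2
    have hwz' : w * z' = z' * w := (mul_inv_eq_iff_eq_mul.1 (hWfix w hw)).symm
    simp only [V, Subgroup.mem_mk, Set.mem_insert_iff, Set.mem_singleton_iff] at hv
    rcases hv with rfl | rfl | rfl | rfl
    · exact Commute.one_right w
    · exact hwz
    · exact hwz'
    · rw [← h01]; exact Commute.mul_right hwz hwz'
  · intro v hv hv1 d hd hdv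
    simp only [V, Subgroup.mem_mk, Set.mem_insert_iff, Set.mem_singleton_iff] at hv
    rcases hv with rfl | rfl | rfl | rfl
    · exact absurd rfl hv1
    · exact ⟨hd, mem_centralizer_singleton_iff.2 hdv.eq⟩
    · exact hWz' d hd hdv
    · exact hWz'' d hd hdv
  · intro R hR hRN
    refine card_two_le hR hRN (r := 15) (by rw [hNc]; ring) (Nat.mul_pos (by norm_num) Nat.card_pos)
      (by norm_num)
  · refine mem_normalizer_of_forall fun x hx => ?_
    have hmap : (W ⊔ V).map (MulAut.conj u).toMonoidHom ≤ W ⊔ V := by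
      rw [Subgroup.map_sup]
      refine sup_le ?_ ?_
      · rintro _ ⟨w, hw, rfl⟩
        exact mem_sup_left ((mem_normalizer_iff.1 huW w).1 hw)
      · rintro _ ⟨v, hv, rfl⟩
        exact mem_sup_right (huV v hv)
    exact hmap ⟨x, hx, rfl⟩

/-- The configuration at a maximal Sylow intersection. -/
theorem exists_conf (h : Hyp G) {D : Subgroup G} (hD1 : D ≠ ⊥)
    (hcore : Cfsg.pCore 2 ↥(normalizer (D : Set G)) = D.subgroupOf (normalizer (D : Set G)))
    (hnc : Nat.card (Sylow 2 ↥(normalizer (D : Set G))) ≠ 1)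
    (hIH : ¬ Group.IsSolvable ↥(normalizer (D : Set G)) → Concl ↥(normalizer (D : Set G))) :
    ∃ E W S e, Conf D E W S e := by
  set N := normalizer (D : Set G) with hN
  have hne : Cfsg.pCore 2 N ≠ ⊥ := by
    rw [hcore]
    intro e
    apply hD1
    have := congrArg (Subgroup.map N.subtype) e
    rwa [subgroupOf_map_subtype, inf_eq_left.2 le_normalizer, Subgroup.map_bot] at this
  obtain ⟨hel, hcases⟩ := local_structure (h.subgroup N) hne hnc hIH
  have hD : Cfsg.IsElementaryAbelian 2 D := by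
    have := elementary_map hel N.subtype
    rwa [hcore, subgroupOf_map_subtype, inf_eq_left.2 le_normalizer] at this
  rcases hcases with ⟨p, u, z, hp, hp2, hu, hz, hzD, hinv, hcard⟩ | ⟨f, hf, hker⟩
  · obtain ⟨E, W, S, hC⟩ := exists_conf_dihedral h hD hD1 hp hp2 (u := (u : G)) (z := (z : G))
      (by rw [Subgroup.orderOf_coe, hu]) u.2 z.2 (congrArg Subtype.val hz)
      (fun hzm => hzD (hcore ▸ mem_subgroupOf.2 hzm)) (congrArg Subtype.val hinv)
      (by rw [hcard, hcore, Nat.card_congr (subgroupOfEquivOfLe le_normalizer).toEquiv])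
    exact ⟨E, W, S, 2, hC⟩
  · obtain ⟨E, W, S, hC⟩ := exists_conf_alt h hD hD1 f hf (hker.trans hcore)
    exact ⟨E, W, S, 4, hC⟩

end H63.SmallExp
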