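/-
The Sylow 2-subgroup attached to a configuration.
-/
import Cfsg.Agent.H63.SmallExp.Config

set_option autoImplicit false
set_option linter.style.haveILetI false
set_option linter.unusedSectionVars false

namespace H63.SmallExp

open Subgroup
open scoped Pointwise

universe u

variable {G : Type u} [Group G] [Finite G]

namespace Conf

variable {D E W S : Subgroup G} {e : ℕ} (c : Conf D E W S e)

include c

theorem leD : W ≤ D := by rw [c.hW]; exact inf_le_left

theorem leE : W ≤ E := by rw [c.hW]; exact inf_le_right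

theorem mem_W {x : G} (hD : x ∈ D) (hE : x ∈ E) : x ∈ W := by rw [c.hW]; exact ⟨hD, hE⟩

theorem D_le : D ≤ S := by rw [c.hS]; exact le_sup_right

theorem E_le : E ≤ S := by rw [c.hS]; exact le_sup_left

theorem S_le : S ≤ normalizer (D : Set G) := by rw [c.hS]; exact sup_le c.hEN le_normalizer

theorem two_le : 2 ≤ e := by rcases c.he with h | ⟨h, -⟩ <;> omega

theorem exists_mem {s : G} (hs : s ∈ S) : ∃ x ∈ E, ∃ d ∈ D, s = x * d := by
  rw [c.hS, ← SetLike.mem_coe, coe_mul_of_left_le_normalizer_right _ _ c.hEN] at hs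
  obtain ⟨x, hx, d, hd, rfl⟩ := hs
  exact ⟨x, hx, d, hd, rfl⟩

theorem card_S : Nat.card S = e * Nat.card D := by
  have h1 := H78.card_sup_eq_of_coe E D (coe_mul_of_left_le_normalizer_right _ _ c.hEN)
  rw [inf_comm, ← c.hW, ← c.hS, c.cardE] at h1
  refine Nat.eq_of_mul_eq_mul_right (lt_trans Nat.zero_lt_one c.one_lt) ?_
  rw [h1]; ring

theorem isPGroup_S : IsPGroup 2 S := by
  rw [c.hS]
  exact IsPGroup.to_sup_of_normal_right' (isPGroup_two_of_elementary c.eel)
    (isPGroup_two_of_elementary c.del) c.hEN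

theorem W_lt_D : ∃ d ∈ D, d ∉ W := by
  by_contra hcon
  push Not at hcon
  have h1 : Nat.card W = Nat.card D :=
    le_antisymm (Subgroup.card_le_of_le c.leD) (Subgroup.card_le_of_le hcon)
  rw [c.cardD] at h1
  have := c.one_lt
  nlinarith

theorem W_lt_E : ∃ x ∈ E, x ∉ W := by
  by_contra hcon
  push Not at hcon
  have h1 : Nat.card W = Nat.card E :=
    le_antisymm (Subgroup.card_le_of_le c.leE) (Subgroup.card_le_of_le hcon)
  rw [c.cardE] at h1
  have := c.one_lt
  have := c.two_le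
  nlinarith

theorem invol_mem {s : G} (hs : s ∈ S) (h2 : s * s = 1) : s ∈ D ∨ s ∈ E := by
  obtain ⟨x, hx, d, hd, rfl⟩ := c.exists_mem hs
  by_cases hxW : x ∈ W
  · exact Or.inl (mul_mem (c.leD hxW) hd)
  · refine Or.inr (mul_mem hx (c.leE (c.cent x hx hxW d hd ?_)))
    have hxx := elementary_sq c.eel hx
    have hdd := elementary_sq c.del hd
    show d * x = x * d
    calc d * x = (x * x) * d * x * (d * d) := by rw [hxx, hdd, one_mul, mul_one]
      _ = x * (x * d * (x * d)) * d := by group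
      _ = x * d := by rw [h2, mul_one]

theorem elementary_le {A : Subgroup G} (hA : Cfsg.IsElementaryAbelian 2 A) (hAS : A ≤ S) :
    A ≤ D ∨ A ≤ E := by
  by_contra hcon
  rw [not_or, SetLike.not_le_iff_exists, SetLike.not_le_iff_exists] at hcon
  obtain ⟨⟨a, ha, haD⟩, b, hb, hbE⟩ := hcon
  have haE := (c.invol_mem (hAS ha) (elementary_sq hA ha)).resolve_left haD
  have hbD := (c.invol_mem (hAS hb) (elementary_sq hA hb)).resolve_right hbE
  rcases c.invol_mem (hAS (mul_mem ha hb)) (elementary_sq hA (mul_mem ha hb)) with h | h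
  · exact haD ((Subgroup.mul_mem_cancel_right D hbD).1 h)
  · exact hbE ((Subgroup.mul_mem_cancel_left E haE).1 h)

/-- `S` is a maximal 2-subgroup. -/
theorem maximal (h : Hyp G) {R : Subgroup G} (hR : IsPGroup 2 R) (hSR : S ≤ R) : R = S := by
  haveI : Fact (Nat.Prime 2) := ⟨Nat.prime_two⟩
  by_contra hne
  obtain ⟨x, hxR, hxn, hxS⟩ : ∃ x, x ∈ R ∧ x ∈ normalizer (S : Set G) ∧ x ∉ S := by
    haveI : Group.IsNilpotent R := hR.isNilpotent
    have hlt : S.subgroupOf R < ⊤ := lt_top_iff_ne_top.2 fun e => hne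
      (le_antisymm (Subgroup.subgroupOf_eq_top.1 e) hSR)
    obtain ⟨⟨x, hx⟩, hxn, hxS⟩ :=
      SetLike.exists_of_lt (normalizerCondition_of_isNilpotent (S.subgroupOf R) hlt)
    rw [mem_subgroupOf] at hxS
    refine ⟨x, hx, mem_normalizer_of_forall fun s hs => ?_, hxS⟩
    have := (mem_normalizer_iff.1 hxn ⟨s, hSR hs⟩).1 (mem_subgroupOf.2 hs)
    simpa [mem_subgroupOf] using this
  have hinN : ∀ y ∈ R, y ∈ normalizer (D : Set G) → y ∈ S := by
    intro y hy hyN
    have hle : S ≤ R ⊓ normalizer (D : Set G) := le_inf hSR c.S_le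
    have heq := eq_of_le_of_card_ge hle (c.syl _ (hR.to_le inf_le_left) inf_le_right)
    rw [heq]; exact ⟨hy, hyN⟩
  have hmap : D.map (MulAut.conj x).toMonoidHom ≤ S := by
    rintro _ ⟨d, hd, rfl⟩
    exact (mem_normalizer_iff.1 hxn d).1 (c.D_le hd)
  rcases c.elementary_le (elementary_map c.del _) hmap with hD | hE
  · exact hxS (hinN x hxR (mem_normalizer_of_forall fun d hd => hD ⟨d, hd, rfl⟩))
  have hWpos := c.one_lt
  have hcD : Nat.card E ≤ Nat.card D := by
    rw [c.cardE, c.cardD, sq]; exact Nat.mul_le_mul_right _ c.hle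
  have heq : D.map (MulAut.conj x).toMonoidHom = E :=
    eq_of_le_of_card_ge hE (by rw [card_map_conj]; exact hcD)
  have hED : Nat.card E = Nat.card D := by rw [← heq, card_map_conj]
  -- conjugation by `x` swaps the two groups
  have hEx : E.map (MulAut.conj x).toMonoidHom = D := by
    have hle : E.map (MulAut.conj x).toMonoidHom ≤ S := by
      rintro _ ⟨d, hd, rfl⟩
      exact (mem_normalizer_iff.1 hxn d).1 (c.E_le hd)
    rcases c.elementary_le (elementary_map c.eel _) hle with h1 | h1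
    · exact eq_of_le_of_card_ge h1 (by rw [card_map_conj, hED])
    · exfalso
      have h2 := eq_of_le_of_card_ge h1 (by rw [card_map_conj])
      obtain ⟨d, hd, hdW⟩ := c.W_lt_D
      have h3 : x * d * x⁻¹ ∈ E.map (MulAut.conj x).toMonoidHom := by
        rw [h2, ← heq]; exact ⟨d, hd, rfl⟩
      rw [mem_map_conj] at h3
      exact hdW (c.mem_W hd (by simpa [mul_assoc] using h3))
  have hsq : x * x ∈ S := by
    refine hinN _ (mul_mem hxR hxR) (mem_normalizer_of_forall fun d hd => ?_)
    have h1 : x * d * x⁻¹ ∈ E := by rw [← heq]; exact ⟨d, hd, rfl⟩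
    have h2 : x * (x * d * x⁻¹) * x⁻¹ ∈ D := by rw [← hEx]; exact ⟨_, h1, rfl⟩
    convert h2 using 1
    group
  have h22 : x * x * (x * x) = 1 := by
    have := pow_four_of_isPGroup h hR hxR
    simpa [pow_succ, mul_assoc] using this
  have hxxW : x * x ∈ W := by
    rcases c.invol_mem hsq h22 with h1 | h1
    · refine c.mem_W h1 ?_
      have : x * (x * x) * x⁻¹ ∈ E := by rw [← heq]; exact ⟨_, h1, rfl⟩
      convert this using 1
      group
    · refine c.mem_W ?_ h1
      have : x * (x * x) * x⁻¹ ∈ D := by rw [← hEx]; exact ⟨_, h1, rfl⟩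
      convert this using 1
      group
  obtain ⟨v, hv, hvW⟩ := c.W_lt_D
  have hy : x⁻¹ * v * x ∈ E := by
    have hv' : v ∈ E.map (MulAut.conj x).toMonoidHom := by rw [hEx]; exact hv
    exact mem_map_conj.1 hv'
  have hyD : x⁻¹ * v * x ∉ D := by
    intro hyD
    have hy' : x * (x⁻¹ * v * x) * x⁻¹ ∈ E := by rw [← heq]; exact ⟨_, hyD, rfl⟩
    exact hvW (c.mem_W hv (by simpa [mul_assoc] using hy'))
  have hs : x * v * (x * v) = (x * x) * (x⁻¹ * v * x) * v := by group
  have hsS : x * v * (x * v) ∈ S := by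
    rw [hs]; exact mul_mem (mul_mem (c.D_le (c.leD hxxW)) (c.E_le hy)) (c.D_le hv)
  have hxvR : x * v ∈ R := mul_mem hxR (hSR (c.D_le hv))
  have h4 : x * v * (x * v) * (x * v * (x * v)) = 1 := by
    have := pow_four_of_isPGroup h hR hxvR
    simpa [pow_succ, mul_assoc] using this
  rcases c.invol_mem hsS h4 with h1 | h1 <;> rw [hs] at h1
  · exact hyD ((Subgroup.mul_mem_cancel_left D (c.leD hxxW)).1
      ((Subgroup.mul_mem_cancel_right D hv).1 h1))
  · exact hvW (c.mem_W hv
      ((Subgroup.mul_mem_cancel_left E (mul_mem (c.leE hxxW) hy)).1 h1))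

/-- `S` as a Sylow subgroup. -/
def sylow (h : Hyp G) : Sylow 2 G :=
  ⟨S, c.isPGroup_S, fun hQ hle => c.maximal h hQ hle⟩

theorem cent_W (h : Hyp G) {w : G} (hw : w ∈ W) (hw1 : w ≠ 1) :
    centralizer ({w} : Set G) = S := by
  haveI : Fact (Nat.Prime 2) := ⟨Nat.prime_two⟩
  have hp := cent_isPGroup h hw1 (p := 2) ⟨1, by
    rw [pow_one]
    exact orderOf_eq_prime (by rw [sq]; exact elementary_sq c.del (c.leD hw)) hw1⟩
  refine c.maximal h hp ?_
  rw [c.hS]
  refine sup_le (fun x hx => ?_) fun x hx => ?_ <;> rw [mem_centralizer_singleton_iff]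
  · exact elementary_comm c.eel hx (c.leE hw)
  · exact elementary_comm c.del hx (c.leD hw)

theorem cent_S {z : G} (hz : z ∈ E) (hzW : z ∉ W) {s : G} (hs : s ∈ S) (hc : Commute s z) :
    s ∈ E := by
  obtain ⟨x, hx, d, hd, rfl⟩ := c.exists_mem hs
  refine mul_mem hx (c.leE (c.cent z hz hzW d hd ?_))
  have h1 : Commute x⁻¹ z := (show Commute x z from elementary_comm c.eel hx hz).inv_left
  have := h1.mul_left hc
  rwa [inv_mul_cancel_left] at this

theorem cent_E (h : Hyp G) {g : G} (hg : ∀ x ∈ E, g * x = x * g) : g ∈ E := by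
  obtain ⟨z, hz, hzW⟩ := c.W_lt_E
  obtain ⟨⟨w, hw⟩, hw1⟩ : ∃ w : W, w ≠ 1 := by
    haveI : Nontrivial W := Finite.one_lt_card_iff_nontrivial.1 c.one_lt
    exact exists_ne 1
  have hgS : g ∈ S := by
    rw [← c.cent_W h hw (fun e => hw1 (Subtype.ext e)), mem_centralizer_singleton_iff]
    exact hg w (c.leE hw)
  exact c.cent_S hz hzW hgS (hg z hz)

theorem E_normal_S : S ≤ normalizer (E : Set G) := by
  have key : D ≤ normalizer (E : Set G) := fun d hd => mem_normalizer_of_forall fun x hx => by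
    have hd2 := inv_eq_of_mul_eq_one_right (elementary_sq c.del hd)
    have hxx := elementary_sq c.eel hx
    have hs : d * x * d⁻¹ ∈ S := mul_mem (mul_mem (c.D_le hd) (c.E_le hx)) (inv_mem (c.D_le hd))
    rcases c.invol_mem hs (by
      calc d * x * d⁻¹ * (d * x * d⁻¹) = d * (x * x) * d⁻¹ := by group
        _ = 1 := by rw [hxx]; group) with h1 | h1
    · have hxD : x ∈ D :=
        (Subgroup.mul_mem_cancel_left D hd).1 ((Subgroup.mul_mem_cancel_right D (inv_mem hd)).1 h1)
      rw [← elementary_comm c.del hxD hd, mul_inv_cancel_right]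
      exact hx
    · exact h1
  rw [c.hS]; exact sup_le le_normalizer key

theorem exists_five (he4 : e = 4) : ∃ v : G, orderOf v = 5 ∧ v ∈ normalizer (D : Set G) := by
  haveI : Fact (Nat.Prime 5) := ⟨Nat.prime_five⟩
  rcases c.he with h2 | ⟨-, ⟨f, hf, -⟩, -⟩
  · omega
  have h5 : 5 ∣ Nat.card (normalizer (D : Set G)) := by
    rw [card_of_alt5_surj f hf]
    exact Dvd.dvd.mul_left (by norm_num) _
  obtain ⟨v, hv⟩ := exists_prime_orderOf_dvd_card' 5 h5
  exact ⟨v, by rw [Subgroup.orderOf_coe, hv], v.2⟩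

end Conf

end H63.SmallExp
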