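/-
Two subgroups `2⁴:A₅` sharing a Sylow 2-subgroup cannot generate a simple group with element
orders at most five.
-/
import Cfsg.Agent.H63.SmallExp.Structure
import Cfsg.Agent.H62.Basic

set_option autoImplicit false
set_option linter.style.haveILetI false
set_option linter.unusedSectionVars false

namespace H63.SmallExp

open Subgroup
open scoped Pointwise

universe u

variable {G : Type u} [Group G] [Finite G]

/-- A subgroup of `A₅` of index less than five is everything. -/
theorem alt5_eq_top (K : Subgroup ↥(alternatingGroup (Fin 5))) (h : K.index < 5) : K = ⊤ := by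
  haveI : IsSimpleGroup ↥(alternatingGroup (Fin 5)) :=
    alternatingGroup.isSimpleGroup (α := Fin 5) (by simp)
  by_contra hK
  have hA : ¬ IsMulCommutative ↥(alternatingGroup (Fin 5)) := by
    intro hc
    exact absurd (hc.1.1 (⟨Equiv.swap 0 1 * Equiv.swap 1 2, Equiv.Perm.mem_alternatingGroup.2 (by decide)⟩)
      ⟨Equiv.swap 1 2 * Equiv.swap 2 3, Equiv.Perm.mem_alternatingGroup.2 (by decide)⟩) (by decide +kernel)
  have h1 := H62.two_mul_card_dvd_factorial hA K hK
  rw [nat_card_alternatingGroup, Nat.card_fin] at h1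
  have h2 : K.index.factorial ≤ 24 := Nat.factorial_le (show K.index ≤ 4 by omega)
  have h3 := Nat.le_of_dvd (Nat.factorial_pos _) h1
  norm_num [Nat.factorial] at h3
  omega

/-- In a group over `A₅`, an element of order three is inverted by an involution. -/
theorem exists_inverting (h : Hyp G) {A : Subgroup G} (hA : Cfsg.IsElementaryAbelian 2 A)
    (f : ↥(normalizer (A : Set G)) →* ↥(alternatingGroup (Fin 5))) (hf : Function.Surjective f)
    (hker : f.ker = A.subgroupOf (normalizer (A : Set G))) {u : G} (hu : orderOf u = 3)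
    (huA : u ∈ normalizer (A : Set G)) :
    ∃ r : G, r ∈ normalizer (A : Set G) ∧ r * r = 1 ∧ r * u * r⁻¹ = u⁻¹ := by
  have hk2 : IsPGroup 2 f.ker := by
    rw [hker]
    exact (isPGroup_two_of_elementary hA).comap_of_injective _ Subtype.val_injective
  set v : ↥(normalizer (A : Set G)) := ⟨u, huA⟩
  have hk3 : f v ^ 3 = 1 := by
    rw [← map_pow, show v ^ 3 = 1 from Subtype.ext (hu ▸ pow_orderOf_eq_one u), map_one]
  have hk1 : f v ≠ 1 := by
    intro e
    have h1 : v ∈ f.ker := e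
    rw [hker, mem_subgroupOf] at h1
    have h2 := orderOf_dvd_of_pow_eq_one (show u ^ 2 = 1 from hA.2 u h1)
    rw [hu] at h2
    norm_num at h2
  obtain ⟨a, ha, ha1, hak⟩ := a5_inverted _ hk3 hk1
  obtain ⟨z, -, hzz, -, -, hzv⟩ :=
    lift_inverting_at (h.subgroup _) f hf hk2 ha ha1 hk3 hk1 hak v rfl
  exact ⟨z, z.2, congrArg Subtype.val hzz, congrArg Subtype.val hzv⟩

/-- Cosets of a subgroup of index five. -/
theorem coset_cases {N B W : Subgroup G} (hBN : B ≤ N) (hidx : Nat.card N ≤ Nat.card B * 5)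
    (hW : Nat.card W = 4) {r' r : G} (hr'2 : r' * r' = 1) (hrN : r ∈ N) (hr2 : r * r = 1)
    (hrB : r ∉ B) (hy : ∀ w ∈ W, r' * w * r' ∈ B)
    (hsep : ∀ w ∈ W, r * (r' * w * r') * r ∈ B → w = 1) :
    ∀ g ∈ N, g ∈ B ∨ ∃ w ∈ W, ∃ b ∈ B, g = r' * w * r' * r * b := by
  classical
  have hri : r⁻¹ = r := inv_eq_of_mul_eq_one_right hr2
  have hr'i : r'⁻¹ = r' := inv_eq_of_mul_eq_one_right hr'2
  let φ : Option W → ↥N ⧸ B.subgroupOf N := fun o =>
    o.elim (QuotientGroup.mk 1) fun w =>
      QuotientGroup.mk ⟨r' * w * r' * r, mul_mem (hBN (hy w w.2)) hrN⟩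
  have hinj : Function.Injective φ := by
    rintro (_ | w) (_ | w') e
    · rfl
    · exfalso
      simp only [φ, Option.elim] at e
      rw [QuotientGroup.eq, mem_subgroupOf] at e
      apply hrB
      have h1 : r' * (w' : G) * r' * r ∈ B := by simpa using e
      exact (Subgroup.mul_mem_cancel_left B (hy w' w'.2)).1 h1
    · exfalso
      simp only [φ, Option.elim] at e
      rw [QuotientGroup.eq, mem_subgroupOf] at e
      apply hrB
      have h1 : (r' * (w : G) * r' * r)⁻¹ ∈ B := by simpa using e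
      exact (Subgroup.mul_mem_cancel_left B (hy w w.2)).1 (inv_mem_iff.1 h1)
    · simp only [φ, Option.elim] at e
      rw [QuotientGroup.eq, mem_subgroupOf] at e
      have h1 : r * (r' * ((w : G)⁻¹ * w') * r') * r ∈ B := by
        simp only [Subgroup.coe_mul, Subgroup.coe_inv, mul_inv_rev, hri, hr'i] at e
        convert e using 1
        calc r * (r' * ((w : G)⁻¹ * w') * r') * r
            = r * (r' * (w : G)⁻¹ * (r' * r') * (w' : G) * r' * r) := by
              rw [hr'2]; group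
          _ = _ := by group
      have h2 := hsep _ (mul_mem (inv_mem w.2) w'.2) h1
      exact congrArg some (Subtype.ext (inv_mul_eq_one.1 h2))
  have hcard : Nat.card (Option W) = 5 := by rw [Finite.card_option, hW]
  have hq : Nat.card (↥N ⧸ B.subgroupOf N) ≤ 5 := by
    have h1 := Subgroup.card_eq_card_quotient_mul_card_subgroup (B.subgroupOf N)
    rw [Nat.card_congr (subgroupOfEquivOfLe hBN).toEquiv] at h1
    rw [h1, mul_comm (Nat.card B)] at hidx
    exact Nat.le_of_mul_le_mul_right hidx Nat.card_pos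
  have hbij : Function.Bijective φ :=
    hinj.bijective_of_nat_card_le (by rw [hcard]; exact hq)
  intro g hg
  obtain ⟨o, ho⟩ := hbij.2 (QuotientGroup.mk ⟨g, hg⟩)
  rcases o with _ | w
  · left
    simp only [φ, Option.elim] at ho
    rw [QuotientGroup.eq, mem_subgroupOf] at ho
    simpa using ho
  · right
    simp only [φ, Option.elim] at ho
    rw [QuotientGroup.eq, mem_subgroupOf] at ho
    exact ⟨w, w.2, _, ho, by simp only [Subgroup.coe_mul, Subgroup.coe_inv]; group⟩

namespace Conf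

variable {D E W S : Subgroup G} (c : Conf D E W S 4)

include c

/-- No simple group has this configuration with `N(E)/E ≅ A₅`. -/
theorem false_of_two_locals [IsSimpleGroup G] (hc : ¬ IsMulCommutative G) (h : Hyp G)
    (hIH : ∀ (H : Type u) [Group H] [Finite H], Nat.card H < Nat.card G → Hyp H →
      ¬ Group.IsSolvable H → Concl H) (hW : Nat.card W = 4)
    (f₂ : ↥(normalizer (E : Set G)) →* ↥(alternatingGroup (Fin 5))) (hf₂ : Function.Surjective f₂)
    (hker₂ : f₂.ker = E.subgroupOf (normalizer (E : Set G))) : False := by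
  classical
  haveI : Fact (Nat.Prime 2) := ⟨Nat.prime_two⟩
  revert hf₂ hker₂
  revert f₂
  set P := normalizer (D : Set G) with hP
  set Q := normalizer (E : Set G) with hQ
  intro f₂ hf₂ hker₂
  obtain ⟨f₁, hf₁, hker₁⟩ : ∃ f : P →* ↥(alternatingGroup (Fin 5)),
      Function.Surjective f ∧ f.ker = D.subgroupOf P := by
    rcases c.he with h4 | ⟨-, hf, -⟩
    · exact absurd h4 (by norm_num)
    · exact hf
  obtain ⟨u, hu, huD, huE⟩ : ∃ u : G, orderOf u = 3 ∧ u ∈ normalizer (D : Set G) ∧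
      u ∈ normalizer (E : Set G) := by
    rcases c.he with h4 | ⟨-, -, hu⟩
    · exact absurd h4 (by norm_num)
    · exact hu
  obtain ⟨r, hrN, hr2, hru⟩ := exists_inverting h c.del f₁ hf₁ hker₁ hu huD
  obtain ⟨r', hr'N, hr'2, hr'u⟩ := exists_inverting h c.eel f₂ hf₂ hker₂ hu huE
  have hri : r⁻¹ = r := inv_eq_of_mul_eq_one_right hr2
  have hr'i : r'⁻¹ = r' := inv_eq_of_mul_eq_one_right hr'2
  have hcardD : Nat.card D = 16 := by rw [c.cardD, hW]; norm_num
  have hcardE : Nat.card E = 16 := by rw [c.cardE, hW]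
  have hcardS : Nat.card S = 64 := by rw [c.card_S, hcardD]
  have hPc : Nat.card P = 960 := by
    rw [card_of_alt5_surj f₁ hf₁, hker₁, Nat.card_congr (subgroupOfEquivOfLe le_normalizer).toEquiv,
      hcardD]
  have hQc : Nat.card Q = 960 := by
    rw [card_of_alt5_surj f₂ hf₂, hker₂, Nat.card_congr (subgroupOfEquivOfLe le_normalizer).toEquiv,
      hcardE]
  -- `u` normalises `S`
  have huS : u ∈ normalizer (S : Set G) := mem_normalizer_of_forall fun s hs => by
    obtain ⟨x, hx, d, hd, rfl⟩ := c.exists_mem hs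
    rw [show u * (x * d) * u⁻¹ = (u * x * u⁻¹) * (u * d * u⁻¹) by group]
    exact mul_mem (c.E_le ((mem_normalizer_iff.1 huE x).1 hx))
      (c.D_le ((mem_normalizer_iff.1 huD d).1 hd))
  set B := S ⊔ zpowers u with hB
  have huB : u ∈ B := mem_sup_right (mem_zpowers u)
  have hSB : S ≤ B := le_sup_left
  have hBP : B ≤ P := sup_le c.S_le (zpowers_le.2 huD)
  have hBQ : B ≤ Q := sup_le c.E_normal_S (zpowers_le.2 huE)
  have hBnorm : B ≤ normalizer (S : Set G) := sup_le le_normalizer (zpowers_le.2 huS)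
  have hBmem : ∀ b ∈ B, ∃ s ∈ S, ∃ i : ℤ, b = s * u ^ i := by
    intro b hb
    rw [hB, ← SetLike.mem_coe, sup_comm,
      coe_mul_of_left_le_normalizer_right _ _ (zpowers_le.2 huS)] at hb
    obtain ⟨a, ha, s, hs, rfl⟩ := hb
    obtain ⟨i, rfl⟩ := mem_zpowers_iff.1 ha
    exact ⟨u ^ i * s * (u ^ i)⁻¹, (mem_normalizer_iff.1 (zpow_mem huS i) s).1 hs, i, by group⟩
  have hdisj : Disjoint S (zpowers u) := IsPGroup.disjoint_of_ne 2 3 (by norm_num) _ _ c.isPGroup_S
    (IsPGroup.of_card (n := 1) (by rw [Nat.card_zpowers, hu, pow_one]))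
  have hBc : Nat.card B = 192 := by
    have h1 := H78.card_sup_eq_of_coe (zpowers u) S
      (coe_mul_of_left_le_normalizer_right _ _ (zpowers_le.2 huS))
    rw [inf_comm, hdisj.eq_bot, Subgroup.card_bot, mul_one, Nat.card_zpowers, hu, hcardS, sup_comm,
      ← hB] at h1
    exact h1
  have h2B : ∀ x ∈ B, x * x = 1 → x ∈ S := by
    intro x hx hxx
    obtain ⟨s, hs, i, rfl⟩ := hBmem x hx
    have h1 : u ^ i * s * (u ^ i)⁻¹ ∈ S := (mem_normalizer_iff.1 (zpow_mem huS i) s).1 hs
    have h2 : u ^ (i + i) ∈ S := by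
      have e : u ^ (i + i) = (u ^ i * s * (u ^ i)⁻¹)⁻¹ * s⁻¹ * (s * u ^ i * (s * u ^ i)) := by group
      rw [e, hxx, mul_one]
      exact mul_mem (inv_mem h1) (inv_mem hs)
    have h3 : u ^ (i + i) = 1 := Subgroup.disjoint_def.1 hdisj h2 (zpow_mem (mem_zpowers u) _)
    have h4 : u ^ i = 1 := by
      rw [← orderOf_dvd_iff_zpow_eq_one, hu] at h3 ⊢
      omega
    rw [h4, mul_one]; exact hs
  -- the inverting involutions lie outside the normaliser of `S`
  have hout : ∀ x : G, x * x = 1 → x * u * x⁻¹ = u⁻¹ → x ∉ normalizer (S : Set G) := by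
    intro x hxx hxu hxS
    have h1 : IsPGroup 2 (zpowers x ⊔ S : Subgroup G) := by
      refine IsPGroup.to_sup_of_normal_right' ?_ c.isPGroup_S (zpowers_le.2 hxS)
      refine fun y => ⟨1, ?_⟩
      obtain ⟨i, hi⟩ := mem_zpowers_iff.1 y.2
      apply Subtype.ext
      rw [pow_one, sq, Subgroup.coe_mul, Subgroup.coe_one, ← hi, ← zpow_add,
        ← two_mul, zpow_mul, zpow_two, hxx, one_zpow]
    have h2 : x ∈ S := c.maximal h h1 le_sup_right ▸ mem_sup_left (mem_zpowers x)
    have h3 : u * x * u⁻¹ * x⁻¹ ∈ S :=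
      mul_mem ((mem_normalizer_iff.1 huS x).1 h2) (inv_mem h2)
    have h4 : u * x * u⁻¹ * x⁻¹ = u * u := by
      rw [show u * x * u⁻¹ * x⁻¹ = u * (x * u * x⁻¹)⁻¹ by group, hxu, inv_inv]
    rw [h4] at h3
    have h5 : u * u = 1 :=
      Subgroup.disjoint_def.1 hdisj h3 (mul_mem (mem_zpowers u) (mem_zpowers u))
    have h6 := orderOf_dvd_of_pow_eq_one (show u ^ 2 = 1 by rw [sq]; exact h5)
    rw [hu] at h6; norm_num at h6
  have hrS := hout r hr2 hru
  have hr'S := hout r' hr'2 hr'u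
  have hrB : r ∉ B := fun e => hrS (hBnorm e)
  have hr'B : r' ∉ B := fun e => hr'S (hBnorm e)
  have hrQ : r ∉ Q := by
    intro e
    refine hrS (mem_normalizer_of_forall fun s hs => ?_)
    obtain ⟨x, hx, d, hd, rfl⟩ := c.exists_mem hs
    rw [show r * (x * d) * r⁻¹ = (r * x * r⁻¹) * (r * d * r⁻¹) by group]
    exact mul_mem (c.E_le ((mem_normalizer_iff.1 e x).1 hx))
      (c.D_le ((mem_normalizer_iff.1 hrN d).1 hd))
  have hr'P : r' ∉ P := by
    intro e
    refine hr'S (mem_normalizer_of_forall fun s hs => ?_)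
    obtain ⟨x, hx, d, hd, rfl⟩ := c.exists_mem hs
    rw [show r' * (x * d) * r'⁻¹ = (r' * x * r'⁻¹) * (r' * d * r'⁻¹) by group]
    exact mul_mem (c.E_le ((mem_normalizer_iff.1 hr'N x).1 hx))
      (c.D_le ((mem_normalizer_iff.1 e d).1 hd))
  -- intersections of `W` with its conjugates
  have hWx : ∀ x : G, x * x = 1 → x ∉ normalizer (S : Set G) → ∀ w ∈ W, x * w * x ∈ W → w = 1 := by
    intro x hxx hxS w hw hxw
    by_contra hw1
    have hxi := inv_eq_of_mul_eq_one_right hxx
    have h1 : x * w * x ≠ 1 := fun e => hw1 (by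
      calc w = (x * x) * w * (x * x) := by rw [hxx, one_mul, mul_one]
        _ = x * (x * w * x) * x := by group
        _ = 1 := by rw [e, mul_one, hxx])
    refine hxS (mem_normalizer_of_forall fun s hs => ?_)
    rw [← c.cent_W h hw hw1, mem_centralizer_singleton_iff] at hs
    rw [← c.cent_W h hxw h1, mem_centralizer_singleton_iff, hxi]
    calc x * s * x * (x * w * x) = x * s * (x * x) * w * x := by group
      _ = x * (s * w) * x := by rw [hxx]; group
      _ = x * (w * s) * x := by rw [hs]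
      _ = x * w * (x * x) * s * x := by rw [hxx]; group
      _ = x * w * x * (x * s * x) := by group
  have hWr := hWx r hr2 hrS
  have hWr' := hWx r' hr'2 hr'S
  have hrD : ∀ d ∈ D, r * d * r ∈ D := fun d hd => by
    have := (mem_normalizer_iff.1 hrN d).1 hd
    rwa [hri] at this
  have hr'E : ∀ x ∈ E, r' * x * r' ∈ E := fun x hx => by
    have := (mem_normalizer_iff.1 hr'N x).1 hx
    rwa [hr'i] at this
  -- `D` and `E` are products of `W` with a conjugate of `W`
  have hprod : ∀ (A : Subgroup G) (x : G), Cfsg.IsElementaryAbelian 2 A → W ≤ A → Nat.card A = 16 →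
      x * x = 1 → (∀ a ∈ A, x * a * x ∈ A) → (∀ w ∈ W, x * w * x ∈ W → w = 1) →
      ∀ a ∈ A, ∃ w ∈ W, ∃ w' ∈ W, a = x * w * x * w' := by
    intro A x hA hWA hA16 hxx hxA hxW a ha
    let φ : W × W → A := fun p =>
      ⟨x * p.1 * x * p.2, mul_mem (hxA _ (hWA p.1.2)) (hWA p.2.2)⟩
    have hinj : Function.Injective φ := by
      rintro ⟨⟨a₁, ha₁⟩, ⟨b₁, hb₁⟩⟩ ⟨⟨a₂, ha₂⟩, ⟨b₂, hb₂⟩⟩ e
      have e' : x * a₁ * x * b₁ = x * a₂ * x * b₂ := congrArg Subtype.val e
      have key : x * (a₂⁻¹ * a₁) * x = b₂ * b₁⁻¹ := by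
        have hxi := inv_eq_of_mul_eq_one_right hxx
        calc x * (a₂⁻¹ * a₁) * x = (x * a₂ * x)⁻¹ * (x * a₁ * x * b₁) * b₁⁻¹ := by
              simp only [mul_inv_rev, hxi]
              rw [show x * (a₂⁻¹ * x) * (x * a₁ * x * b₁) * b₁⁻¹ = x * a₂⁻¹ * (x * x) * a₁ * x by group,
                hxx]
              group
          _ = b₂ * b₁⁻¹ := by rw [e']; group
      have h1 := hxW _ (mul_mem (inv_mem ha₂) ha₁) (key ▸ mul_mem hb₂ (inv_mem hb₁))
      have h2 : a₂ = a₁ := inv_mul_eq_one.1 h1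
      subst h2
      have h3 : b₁ = b₂ := mul_left_cancel e'
      subst h3
      rfl
    have hbij := hinj.bijective_of_nat_card_le (by rw [Nat.card_prod, hW, hA16])
    obtain ⟨⟨⟨w, hw⟩, ⟨w', hw'⟩⟩, e⟩ := hbij.2 ⟨a, ha⟩
    exact ⟨w, hw, w', hw', (congrArg Subtype.val e).symm⟩
  have hDdec := hprod D r c.del c.leD hcardD hr2 hrD hWr
  have hEdec := hprod E r' c.eel c.leE hcardE hr'2 hr'E hWr'
  -- cosets of `B`
  have hyr : ∀ w ∈ W, r' * w * r' ∈ B := fun w hw => hSB (c.E_le (hr'E w (c.leE hw)))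
  have hyr' : ∀ w ∈ W, r * w * r ∈ B := fun w hw => hSB (c.D_le (hrD w (c.leD hw)))
  have hsq : ∀ {x y : G}, x * x = 1 → y * y = 1 → x * y * x * (x * y * x) = 1 := by
    intro x y hxx hyy
    calc x * y * x * (x * y * x) = x * y * (x * x) * y * x := by group
      _ = x * (y * y) * x := by rw [hxx]; group
      _ = 1 := by rw [hyy, mul_one, hxx]
  have hinvB : ∀ y ∈ B, y * y = 1 → y ∈ D ∨ y ∈ E := fun y hy hyy => c.invol_mem (h2B y hy hyy) hyy
  have hconj2 : ∀ {x y : G}, x * x = 1 → x * (x * y * x) * x = y := by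
    intro x y hxx
    calc x * (x * y * x) * x = (x * x) * y * (x * x) := by group
      _ = y := by rw [hxx, one_mul, mul_one]
  have hsepr : ∀ w ∈ W, r * (r' * w * r') * r ∈ B → w = 1 := by
    intro w hw hB'
    set x := r' * w * r' with hx
    have hxE : x ∈ E := hr'E w (c.leE hw)
    have hxx : x * x = 1 := elementary_sq c.eel hxE
    have hyy : r * x * r * (r * x * r) = 1 := hsq hr2 hxx
    by_contra hw1
    have hxW : x ∉ W := fun e => hw1 (hWr' w hw e)
    rcases hinvB _ hB' hyy with hyD | hyE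
    · have h1 := hrD _ hyD
      rw [hconj2 hr2] at h1
      exact hxW (c.mem_W h1 hxE)
    obtain ⟨d, hd, hdW⟩ := c.W_lt_D
    refine hdW (c.cent x hxE hxW d hd ?_)
    have hcW : ∀ d ∈ D, ∀ x ∈ E, d * x * d * x ∈ W := by
      intro d hd x hx
      have hdi := inv_eq_of_mul_eq_one_right (elementary_sq c.del hd)
      have hxi := inv_eq_of_mul_eq_one_right (elementary_sq c.eel hx)
      have h1 := (mem_normalizer_iff.1 (c.E_normal_S (c.D_le hd)) x).1 hx
      have h2 := (mem_normalizer_iff.1 (c.hEN hx) d).1 hd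
      rw [hdi] at h1
      rw [hxi] at h2
      refine c.mem_W ?_ (mul_mem h1 hx)
      rw [show d * x * d * x = d * (x * d * x) by group]
      exact mul_mem hd h2
    have h1 := hcW d hd x hxE
    have h2 : r * (d * x * d * x) * r ∈ W := by
      have h3 := hcW (r * d * r) (hrD d hd) (r * x * r) hyE
      convert h3 using 1
      calc r * (d * x * d * x) * r = r * d * 1 * x * 1 * d * 1 * x * r := by group
        _ = r * d * (r * r) * x * (r * r) * d * (r * r) * x * r := by rw [hr2]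
        _ = _ := by group
    have h4 := hWr _ h1 h2
    show d * x = x * d
    calc d * x = (d * x * d * x) * (x⁻¹ * d⁻¹) := by group
      _ = x * d := by
          rw [h4, one_mul, inv_eq_of_mul_eq_one_right hxx,
            inv_eq_of_mul_eq_one_right (elementary_sq c.del hd)]
  have hsepr' : ∀ w ∈ W, r' * (r * w * r) * r' ∈ B → w = 1 := by
    intro w hw hB'
    set x := r * w * r with hx
    have hxD : x ∈ D := hrD w (c.leD hw)
    have hxx : x * x = 1 := elementary_sq c.del hxD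
    have hyy : r' * x * r' * (r' * x * r') = 1 := hsq hr'2 hxx
    by_contra hw1
    have hxW : x ∉ W := fun e => hw1 (hWr w hw e)
    rcases hinvB _ hB' hyy with hyD | hyE
    swap
    · have h1 := hr'E _ hyE
      rw [hconj2 hr'2] at h1
      exact hxW (c.mem_W hxD h1)
    refine hxW (c.mem_W hxD (c.cent_E h fun e he => ?_))
    have hcW : ∀ x ∈ D, ∀ e ∈ E, e * x * e * x ∈ W := by
      intro x hx e he
      have hxi := inv_eq_of_mul_eq_one_right (elementary_sq c.del hx)
      have hei := inv_eq_of_mul_eq_one_right (elementary_sq c.eel he)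
      have h1 := (mem_normalizer_iff.1 (c.E_normal_S (c.D_le hx)) e).1 he
      have h2 := (mem_normalizer_iff.1 (c.hEN he) x).1 hx
      rw [hxi] at h1
      rw [hei] at h2
      refine c.mem_W (mul_mem h2 hx) ?_
      rw [show e * x * e * x = e * (x * e * x) by group]
      exact mul_mem he h1
    have h1 := hcW x hxD e he
    have h2 : r' * (e * x * e * x) * r' ∈ W := by
      have h3 := hcW (r' * x * r') hyD (r' * e * r') (hr'E e he)
      convert h3 using 1
      calc r' * (e * x * e * x) * r' = r' * e * 1 * x * 1 * e * 1 * x * r' := by group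
        _ = r' * e * (r' * r') * x * (r' * r') * e * (r' * r') * x * r' := by rw [hr'2]
        _ = _ := by group
    have h4 := hWr' _ h1 h2
    calc x * e = x⁻¹ * e⁻¹ := by
          rw [inv_eq_of_mul_eq_one_right hxx, inv_eq_of_mul_eq_one_right (elementary_sq c.eel he)]
      _ = (e * x * e * x) * (x⁻¹ * e⁻¹) := by rw [h4, one_mul]
      _ = e * x := by group
  have hPcases := coset_cases hBP (le_of_eq (by rw [hPc, hBc])) hW hr'2 hrN hr2 hrB hyr hsepr
  have hQcases := coset_cases hBQ (le_of_eq (by rw [hQc, hBc])) hW hr2 hr'N hr'2 hr'B hyr' hsepr'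
  -- the braid relation
  haveI : Fact (Nat.Prime 3) := ⟨Nat.prime_three⟩
  have hu1 : u ≠ 1 := fun e => by rw [e, orderOf_one] at hu; norm_num at hu
  have hrr' : r * r' ≠ 1 := fun e => by
    have : r = r' := by rw [mul_eq_one_iff_eq_inv.1 e, hr'i]
    exact hrQ (this ▸ hr'N)
  have hru' : r * u * r = u⁻¹ := by rwa [hri] at hru
  have hr'u' : r' * u * r' = u⁻¹ := by rwa [hr'i] at hr'u
  have hrr'u : u * (r * r') = r * r' * u := by
    calc u * (r * r') = (r * r') * (r' * (r * u * r) * r') := by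
          rw [show (r * r') * (r' * (r * u * r) * r') = r * (r' * r') * r * u * r * r' by group, hr'2,
            mul_one, hr2, one_mul, mul_assoc]
      _ = r * r' * (r' * u⁻¹ * r') := by rw [hru']
      _ = r * r' * (r' * u * r')⁻¹ := by simp only [mul_inv_rev, hr'i, mul_assoc]
      _ = _ := by rw [hr'u', inv_inv]
  have hord : orderOf (r * r') = 3 := by
    refine orderOf_eq_prime_of_odd h Nat.prime_three (by norm_num) hrr' ?_
    have hp := cent_isPGroup h hu1 (p := 3) ⟨1, by rw [hu, pow_one]⟩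
    obtain ⟨k, hk⟩ := IsPGroup.iff_orderOf.1 hp
      ⟨r * r', mem_centralizer_singleton_iff.2 hrr'u.symm⟩
    exact ⟨k, by rwa [Subgroup.orderOf_mk] at hk⟩
  have hbraid : r' * r * r' = r * r' * r := by
    have h1 := pow_orderOf_eq_one (r * r')
    rw [hord] at h1
    simp only [pow_succ, pow_zero, one_mul] at h1
    have h2 : r * r' * r * (r' * r * r') = 1 := by rw [← h1]; group
    rw [eq_inv_of_mul_eq_one_left h2]
    simp only [mul_inv_rev, hri, hr'i, mul_assoc]
  -- the action on the cosets of `N(D)`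
  set p₀ : G ⧸ P := QuotientGroup.mk (1 : G) with hp₀
  set p₁ := r' • p₀ with hp₁
  set p₂ := r • p₁ with hp₂
  have hfix : ∀ g : G, g • p₀ = p₀ ↔ g ∈ P := fun g => by
    rw [hp₀, MulAction.Quotient.smul_mk, QuotientGroup.eq]
    simp
  have hEp1 : ∀ x ∈ E, x • p₁ = p₁ := by
    intro x hx
    have h1 : (r' * x * r') • p₀ = p₀ := (hfix _).2 (c.hEN (hr'E x hx))
    calc x • p₁ = (r' * (r' * x * r')) • p₀ := by
          rw [hp₁, ← mul_smul, show r' * (r' * x * r') = (r' * r') * (x * r') by group, hr'2, one_mul]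
      _ = p₁ := by rw [mul_smul, h1]
  have hup1 : u • p₁ = p₁ := by
    have h1 : (r' * u * r') • p₀ = p₀ := (hfix _).2 (hr'u' ▸ inv_mem huD)
    calc u • p₁ = (r' * (r' * u * r')) • p₀ := by
          rw [hp₁, ← mul_smul, show r' * (r' * u * r') = (r' * r') * (u * r') by group, hr'2, one_mul]
      _ = p₁ := by rw [mul_smul, h1]
  have hup2 : u • p₂ = p₂ := by
    have h0 : u • p₀ = p₀ := (hfix u).2 huD
    calc u • p₂ = (u * (r * r')) • p₀ := by rw [hp₂, hp₁, ← mul_smul, ← mul_smul, mul_assoc]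
      _ = p₂ := by rw [hrr'u, mul_smul, h0, hp₂, hp₁, mul_smul]
  have hzfix : ∀ (p : G ⧸ P) (i : ℤ), u • p = p → (u ^ i) • p = p := fun p i hp =>
    MulAction.mem_stabilizer_iff.1 (zpow_mem (MulAction.mem_stabilizer_iff.2 hp) i)
  have hB1 : ∀ b ∈ B, ∃ w ∈ W, b • p₁ = (r * w * r) • p₁ := by
    intro b hb
    obtain ⟨s, hs, i, rfl⟩ := hBmem b hb
    obtain ⟨x, hx, d, hd, rfl⟩ := c.exists_mem hs
    obtain ⟨w, hw, w', hw', e⟩ := hDdec _ ((mem_normalizer_iff.1 (c.hEN hx) d).1 hd)
    refine ⟨w, hw, ?_⟩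
    rw [mul_smul, hzfix p₁ i hup1, show x * d = (x * d * x⁻¹) * x by group, e, mul_smul, hEp1 x hx,
      mul_smul, hEp1 w' (c.leE hw')]
  have hB2 : ∀ b ∈ B, ∃ w ∈ W, ∃ w₂ ∈ W, b • p₂ = (r' * w * r' * w₂) • p₂ := by
    intro b hb
    obtain ⟨s, hs, i, rfl⟩ := hBmem b hb
    obtain ⟨x, hx, d, hd, rfl⟩ := c.exists_mem hs
    obtain ⟨w, hw, w₁, hw₁, e⟩ := hEdec x hx
    obtain ⟨v, hv, v₁, hv₁, e'⟩ := hDdec _ (hrD d hd)
    have hd2 : d • p₂ = v • p₂ := by
      calc d • p₂ = (r * (r * d * r)) • p₁ := by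
            rw [hp₂, ← mul_smul, show r * (r * d * r) = (r * r) * (d * r) by group, hr2, one_mul]
        _ = (r * (r * v * r * v₁)) • p₁ := by rw [e']
        _ = ((r * r) * v * r) • (v₁ • p₁) := by
            rw [← mul_smul ((r * r) * v * r) v₁ p₁]; congr 1; group
        _ = v • p₂ := by rw [hEp1 v₁ (c.leE hv₁), hr2, one_mul, mul_smul, hp₂]
    refine ⟨w, hw, w₁ * v, mul_mem hw₁ hv, ?_⟩
    rw [mul_smul, hzfix p₂ i hup2, mul_smul, hd2, ← mul_smul, e, mul_assoc (r' * w * r')]
  -- a stable set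
  set Γ : Set (G ⧸ P) := insert p₀ ({p | ∃ b ∈ B, b • p₁ = p} ∪ {p | ∃ b ∈ B, b • p₂ = p}) with hΓ
  have hin1 : ∀ b ∈ B, b • p₁ ∈ Γ := fun b hb => Or.inr (Or.inl ⟨b, hb, rfl⟩)
  have hin2 : ∀ b ∈ B, b • p₂ ∈ Γ := fun b hb => Or.inr (Or.inr ⟨b, hb, rfl⟩)
  have hP1 : ∀ g ∈ P, g • p₁ ∈ Γ := by
    intro g hg
    rcases hPcases g hg with hb | ⟨w, hw, b, hb, rfl⟩
    · exact hin1 g hb
    · obtain ⟨v, hv, e⟩ := hB1 b hb
      rw [mul_smul, e, ← mul_smul,
        show r' * w * r' * r * (r * v * r) = r' * w * r' * (r * r) * v * r by group, hr2, mul_one,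
        mul_smul]
      exact hin2 _ (mul_mem (hyr w hw) (hSB (c.D_le (c.leD hv))))
  have hPΓ : ∀ g ∈ P, ∀ p ∈ Γ, g • p ∈ Γ := by
    intro g hg p hp
    rcases hp with rfl | ⟨b, hb, rfl⟩ | ⟨b, hb, rfl⟩
    · rw [(hfix g).2 hg]; exact Or.inl rfl
    · rw [← mul_smul]; exact hP1 _ (mul_mem hg (hBP hb))
    · rw [hp₂, ← mul_smul, ← mul_smul]; exact hP1 _ (mul_mem (mul_mem hg (hBP hb)) hrN)
  have hr'Γ : ∀ p ∈ Γ, r' • p ∈ Γ := by
    intro p hp
    rcases hp with rfl | ⟨b, hb, rfl⟩ | ⟨b, hb, rfl⟩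
    · have := hin1 1 (one_mem B)
      rwa [one_smul] at this
    · rw [hp₁, ← mul_smul, ← mul_smul]
      rcases hQcases _ (mul_mem (mul_mem hr'N (hBQ hb)) hr'N) with hb' | ⟨w, hw, b', hb', e⟩
      · rw [(hfix _).2 (hBP hb')]; exact Or.inl rfl
      · rw [e, mul_smul, (hfix _).2 (hBP hb'), mul_smul]
        exact hin1 _ (hyr' w hw)
    · obtain ⟨w, hw, w₂, hw₂, e⟩ := hB2 b hb
      rw [e]
      have hfix2 : r' • p₂ = p₂ := by
        rw [hp₂, hp₁, ← mul_smul, ← mul_smul, hbraid, mul_smul, mul_smul, (hfix r).2 hrN]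
      have h1 : r' * (r' * w * r' * w₂) = w * (r' * w₂ * r') * r' := by
        rw [show r' * (r' * w * r' * w₂) = (r' * r') * w * r' * w₂ by group, hr'2, one_mul,
          show w * (r' * w₂ * r') * r' = w * r' * w₂ * (r' * r') by group, hr'2, mul_one]
      rw [← mul_smul, h1, mul_smul, hfix2]
      exact hin2 _ (mul_mem (hSB (c.D_le (c.leD hw))) (hyr w₂ hw₂))
  set L := closure ((P : Set G) ∪ {r'}) with hL
  have hgen : ∀ g ∈ L, g • Γ = Γ := by
    intro g hg
    refine (Subgroup.closure_le (K := MulAction.stabilizer G Γ)).2 ?_ hg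
    have hstab : ∀ g : G, (∀ p ∈ Γ, g • p ∈ Γ) → g • Γ = Γ := fun g hg' => by
      refine Set.eq_of_subset_of_ncard_le ?_ (by rw [Set.ncard_smul_set]) (Set.toFinite _)
      rintro _ ⟨p, hp, rfl⟩
      exact hg' p hp
    rintro x (hx | hx)
    · exact hstab x (hPΓ x hx)
    · rw [Set.mem_singleton_iff] at hx
      rw [hx]
      exact hstab r' hr'Γ
  have hPL : P ≤ L := fun x hx => subset_closure (Or.inl hx)
  have hr'L : r' ∈ L := subset_closure (Or.inr rfl)
  have hLtop : L = ⊤ := by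
    by_contra hLne
    have hLlt : Nat.card L < Nat.card G := by
      rw [← Subgroup.card_top (G := G)]
      exact lt_of_le_of_ne (Subgroup.card_le_of_le le_top)
        fun e => hLne (eq_of_le_of_card_ge le_top e.ge)
    have hns : ¬ Group.IsSolvable L := by
      intro hs
      haveI := hs
      haveI : Group.IsSolvable P :=
        solvable_of_solvable_injective (f := Subgroup.inclusion hPL) (Subgroup.inclusion_injective hPL)
      haveI : Group.IsSolvable ↥(alternatingGroup (Fin 5)) := solvable_of_surjective hf₁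
      haveI : IsSimpleGroup ↥(alternatingGroup (Fin 5)) :=
        alternatingGroup.isSimpleGroup (α := Fin 5) (by simp)
      have h1 := IsSimpleGroup.comm_iff_isSolvable.2 (inferInstance : Group.IsSolvable ↥(alternatingGroup (Fin 5)))
        ⟨Equiv.swap 0 1 * Equiv.swap 1 2, Equiv.Perm.mem_alternatingGroup.2 (by decide)⟩
        ⟨Equiv.swap 1 2 * Equiv.swap 2 3, Equiv.Perm.mem_alternatingGroup.2 (by decide)⟩
      exact absurd h1 (by decide +kernel)
    have h960 : 960 ≤ Nat.card L := hPc ▸ Subgroup.card_le_of_le hPL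
    rcases hIH L hLlt (h.subgroup L) hns with ⟨⟨e6⟩⟩ | ⟨N, hN, hNe, ⟨e5⟩⟩
    · rw [card_alt6 e6] at h960; omega
    haveI := hN
    have hN60 : Nat.card L = 60 * Nat.card N := by
      rw [Subgroup.card_eq_card_quotient_mul_card_subgroup N, card_alt5 e5]
    set X := N.map L.subtype with hX
    have hSL : S ≤ L := c.S_le.trans hPL
    have hXS : X ≤ S := by
      have h1 : N ≤ ((c.sylow h).subtype hSL : Subgroup L) :=
        (H1.le_pCore (isPGroup_two_of_elementary hNe)).trans (H1.pCore_le_sylow _)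
      rintro _ ⟨x, hx, rfl⟩
      exact h1 hx
    have hXc : 16 ≤ Nat.card X := by rw [hX, Subgroup.card_subtype]; omega
    have hXn : ∀ g ∈ L, g ∈ normalizer (X : Set G) := by
      intro g hg
      refine mem_normalizer_of_forall ?_
      rintro _ ⟨x, hx, rfl⟩
      exact ⟨⟨g, hg⟩ * x * ⟨g, hg⟩⁻¹, hN.conj_mem x hx _, rfl⟩
    rcases c.elementary_le (elementary_map hNe _) hXS with h1 | h1
    · have h2 : X = D := eq_of_le_of_card_ge h1 (by rw [hcardD]; exact hXc)
      exact hr'P (by rw [hP, ← h2]; exact hXn r' hr'L)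
    · have h2 : X = E := eq_of_le_of_card_ge h1 (by rw [hcardE]; exact hXc)
      exact hrQ (by rw [hQ, ← h2]; exact hXn r (hPL hrN))
  have hΓtop : ∀ p, p ∈ Γ := by
    intro p
    obtain ⟨g, rfl⟩ := QuotientGroup.mk_surjective p
    have h1 : g • p₀ ∈ g • Γ := Set.smul_mem_smul_set (Or.inl rfl)
    rw [hgen g (hLtop ▸ mem_top g), hp₀, MulAction.Quotient.smul_mk, smul_eq_mul, mul_one] at h1
    exact h1
  -- all points but `p₀` form one orbit of `N(D)`
  set O := MulAction.orbit P p₁ with hO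
  have horb : ∀ p, p ≠ p₀ → p ∈ O := by
    intro p hp
    rcases hΓtop p with e | ⟨b, hb, rfl⟩ | ⟨b, hb, rfl⟩
    · exact absurd e hp
    · exact ⟨⟨b, hBP hb⟩, rfl⟩
    · exact ⟨⟨b * r, mul_mem (hBP hb) hrN⟩, by rw [hp₂, ← mul_smul]; rfl⟩
  have hp₁₀ : p₁ ≠ p₀ := fun e => hr'P ((hfix r').1 e)
  have hO0 : p₀ ∉ O := by
    rintro ⟨⟨g, hg⟩, hgp⟩
    change g • p₁ = p₀ at hgp
    exact hp₁₀ (by rw [← (hfix g⁻¹).2 (inv_mem hg)]; exact eq_inv_smul_iff.2 hgp)
  have hOc : Nat.card (G ⧸ P) = Nat.card O + 1 := by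
    rw [Nat.card_coe_set_eq, ← Set.ncard_insert_of_notMem hO0, ← Set.ncard_univ]
    congr 1
    symm
    rw [Set.eq_univ_iff_forall]
    intro p
    by_cases hp : p = p₀
    · exact Or.inl hp
    · exact Or.inr (horb p hp)
  -- the number of points
  have hm20 : Nat.card O ≤ 20 := by
    let F : W ⊕ (W × W) → G ⧸ P :=
      Sum.elim (fun w => (r * (w : G) * r) • p₁) (fun w => (r' * (w.1 : G) * r' * w.2) • p₂)
    have hsub : O ⊆ Set.range F := by
      intro p hp
      rcases hΓtop p with e | ⟨b, hb, rfl⟩ | ⟨b, hb, rfl⟩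
      · exact absurd (e ▸ hp) hO0
      · obtain ⟨w, hw, e⟩ := hB1 b hb
        exact ⟨Sum.inl ⟨w, hw⟩, e.symm⟩
      · obtain ⟨w, hw, w₂, hw₂, e⟩ := hB2 b hb
        exact ⟨Sum.inr (⟨w, hw⟩, ⟨w₂, hw₂⟩), e.symm⟩
    calc Nat.card O ≤ Nat.card (Set.range F) := Nat.card_mono (Set.toFinite _) hsub
      _ ≤ Nat.card (W ⊕ (W × W)) := Finite.card_range_le F
      _ = 20 := by rw [Nat.card_sum, Nat.card_prod, hW]
  have hindex : P.index = Nat.card O + 1 := by rw [Subgroup.index_eq_card, hOc]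
  have hodd : ¬ 2 ∣ P.index := fun h2 =>
    (c.sylow h).not_dvd_index (h2.trans (index_dvd_of_le c.S_le))
  have hPne : P ≠ ⊤ := fun e => hr'P (e ▸ mem_top r')
  have h5 : 5 < P.index := by
    by_contra hcon
    have h1 := H62.two_mul_card_dvd_factorial hc P hPne
    have h2 := Nat.le_of_dvd (Nat.factorial_pos _) h1
    have h3 : P.index.factorial ≤ 120 := Nat.factorial_le (show P.index ≤ 5 by omega)
    have h4 := Subgroup.card_le_of_le (le_top : P ≤ ⊤)
    rw [Subgroup.card_top, hPc] at h4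
    omega
  set H := MulAction.stabilizer P p₁ with hH
  have hOH : Nat.card O * Nat.card H = 960 := by
    rw [← hPc, Nat.card_congr (MulAction.orbitEquivQuotientStabilizer P p₁)]
    exact (Subgroup.card_eq_card_quotient_mul_card_subgroup H).symm
  have hm8 : Nat.card O = 8 := by
    have hd : Nat.card O ∣ 960 := Dvd.intro _ hOH
    have hdG : ∀ q : ℕ, q.Prime → q ∣ P.index → q = 2 ∨ q = 3 ∨ q = 5 := fun q hq hqd =>
      prime_cases h hq (hqd.trans (index_dvd_card P))
    have n7 : ¬ 7 ∣ P.index := fun e => by have := hdG 7 (by norm_num) e; omega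
    have n11 : ¬ 11 ∣ P.index := fun e => by have := hdG 11 (by norm_num) e; omega
    have n13 : ¬ 13 ∣ P.index := fun e => by have := hdG 13 (by norm_num) e; omega
    have n17 : ¬ 17 ∣ P.index := fun e => by have := hdG 17 (by norm_num) e; omega
    rw [hindex] at hodd h5 n7 n11 n13 n17
    generalize Nat.card O = m at *
    interval_cases m <;> omega
  rw [hm8] at hOH
  have hHc : Nat.card H = 120 := by omega
  set fH := f₁.comp H.subtype with hfH
  have hkerH : fH.ker = (D.subgroupOf P).subgroupOf H := by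
    rw [hfH, ← MonoidHom.comap_ker, hker₁]; rfl
  have himg : Nat.card fH.range * Nat.card fH.ker = 120 := by
    rw [← hHc, ← Subgroup.index_ker, mul_comm, Subgroup.card_mul_index]
  have hrd : Nat.card fH.range ∣ 60 := by
    have := Subgroup.card_subgroup_dvd_card fH.range
    rwa [nat_card_alternatingGroup, Nat.card_fin] at this
  set Y := ((D.subgroupOf P) ⊓ H).map P.subtype with hY
  have hYc : Nat.card Y = Nat.card fH.ker := by
    rw [hY, Subgroup.card_subtype, hkerH, ← inf_subgroupOf_right (D.subgroupOf P) H]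
    exact (Nat.card_congr (subgroupOfEquivOfLe inf_le_right).toEquiv).symm
  have hYD : Y ≤ D := by
    rintro _ ⟨x, hx, rfl⟩
    exact hx.1
  have hY2 : IsPGroup 2 Y := (isPGroup_two_of_elementary c.del).to_le hYD
  obtain ⟨j, hj⟩ := IsPGroup.iff_card.1 hY2
  rw [← hYc, hj] at himg
  have hj4 : j ≤ 4 := by
    have h1 : Nat.card Y ≤ 16 := hcardD ▸ Subgroup.card_le_of_le hYD
    rw [hj] at h1
    exact (Nat.pow_le_pow_iff_right (by norm_num : 1 < 2)).1 (show 2 ^ j ≤ 2 ^ 4 by omega)
  have htop : fH.range = ⊤ := by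
    refine alt5_eq_top _ ?_
    have h1 := Subgroup.card_mul_index fH.range
    rw [nat_card_alternatingGroup, Nat.card_fin] at h1
    rw [show Nat.factorial 5 / 2 = 60 from rfl] at h1
    generalize fH.range.index = i at *
    generalize Nat.card fH.range = n at *
    have hn : n = 120 ∨ n = 60 ∨ n = 30 ∨ n = 15 := by
      interval_cases j <;> simp only [Nat.reducePow] at himg <;> omega
    rcases hn with rfl | rfl | rfl | rfl <;> omega
  have hj1 : j = 1 := by
    have h1 : Nat.card fH.range = 60 := by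
      rw [htop, Subgroup.card_top, nat_card_alternatingGroup, Nat.card_fin]; rfl
    rw [h1] at himg
    interval_cases j <;> first | rfl | norm_num at himg
  -- `Y` of order two is normal in `N(D)`
  have hYn : ∀ g ∈ P, g ∈ normalizer (Y : Set G) := by
    intro g hg
    obtain ⟨x, hx⟩ : ∃ x : H, fH x = f₁ ⟨g, hg⟩ := MonoidHom.range_eq_top.1 htop _
    have hxg : (x : P)⁻¹ * ⟨g, hg⟩ ∈ D.subgroupOf P := by
      rw [← hker₁, MonoidHom.mem_ker, map_mul, map_inv, inv_mul_eq_one]
      exact hx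
    refine mem_normalizer_of_forall ?_
    rintro _ ⟨y, hy, rfl⟩
    have hy1 : (y : G) ∈ D := hy.1
    have hy2 : y ∈ H := hy.2
    set t := (x : P)⁻¹ * ⟨g, hg⟩ with ht
    haveI hDn : (D.subgroupOf P).Normal := normal_in_normalizer
    have hxg' : (t : G) ∈ D := hxg
    have hty : t * y * t⁻¹ = y := Subtype.ext
      (show (t : G) * y * (t : G)⁻¹ = y by rw [elementary_comm c.del hxg' hy1, mul_inv_cancel_right])
    refine ⟨(x : P) * y * (x : P)⁻¹, ⟨hDn.conj_mem y hy1 _,
      H.mul_mem (H.mul_mem x.2 hy2) (H.inv_mem x.2)⟩, ?_⟩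
    have e : (⟨g, hg⟩ : P) = (x : P) * t := by rw [ht, mul_inv_cancel_left]
    have e2 : (⟨g, hg⟩ : P) * y * (⟨g, hg⟩ : P)⁻¹ = (x : P) * y * (x : P)⁻¹ := by
      rw [e, show (x : P) * t * y * ((x : P) * t)⁻¹ = (x : P) * (t * y * t⁻¹) * (x : P)⁻¹ by group,
        hty]
    exact (congrArg Subtype.val e2).symm
  obtain ⟨v, hv, hvN⟩ := c.exists_five rfl
  have h5' := five_card h hY2 hv (hYn v hvN)
  rw [hj, hj1] at h5'
  norm_num at h5'

end Conf

end H63.SmallExp
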