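/-
Reduction of groups with element orders at most five to the simple case.
-/
import Cfsg.Agent.H63.SmallExp.Local
import Cfsg.Agent.H63.SmallExp.Socle

set_option autoImplicit false

namespace H63.SmallExp

open Subgroup

universe u v

/-- The classification of the simple groups with element orders at most five. -/
def SimpleCase : Prop :=
  ∀ (M : Type u) [Group M] [Finite M] [IsSimpleGroup M], Hyp M → ¬ IsMulCommutative M →
    (∀ (H : Type u) [Group H] [Finite H], Nat.card H < Nat.card M → Hyp H →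
      ¬ Group.IsSolvable H → Concl H) →
    Nonempty (M ≃* ↥(alternatingGroup (Fin 5))) ∨ Nonempty (M ≃* ↥(alternatingGroup (Fin 6)))

variable {G : Type u} [Group G] [Finite G]

theorem ker_equiv_comp {A : Type*} {B : Type*} {C : Type*} [Group A] [Group B] [Group C]
    (f : A →* B) (e : B ≃* C) : (e.toMonoidHom.comp f).ker = f.ker := by
  ext x
  simp [MonoidHom.mem_ker]

theorem mem_normalizer_zpowers_of_conj_inv {A : Type*} [Group A] [Finite A] {z k : A}
    (hc : z * k * z⁻¹ = k⁻¹) : z ∈ normalizer (zpowers k : Set A) := by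
  refine H8.le_normalizer_of_conj_mem (fun a ha x hx => ?_) (mem_zpowers z)
  have hmap : (zpowers k).map (MulAut.conj z).toMonoidHom = zpowers k := by
    rw [MonoidHom.map_zpowers]
    show zpowers (z * k * z⁻¹) = zpowers k
    rw [hc, zpowers_inv]
  obtain ⟨j, rfl⟩ := mem_zpowers_iff.1 ha
  have hn : z ∈ normalizer (zpowers k : Set A) := by
    rw [mem_normalizer_iff]
    intro y
    constructor
    · intro hy
      rw [← hmap]
      exact ⟨y, hy, rfl⟩
    · intro hy
      rw [← hmap] at hy
      obtain ⟨w, hw, e⟩ := hy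
      rwa [← (MulAut.conj z).injective e]
  exact (mem_normalizer_iff.1 (zpow_mem hn j) x).1 hx

/-- A four-group of the quotient by a kernel of odd prime power order forces the kernel trivial. -/
theorem kernel_odd_eq_bot (h : Hyp G) {X : Type v} [Group X] (f : G →* X)
    (hf : Function.Surjective f) {p : ℕ} [hp : Fact p.Prime] (hp2 : p ≠ 2)
    (hker : IsPGroup p f.ker) {a b : X} (ha1 : a ≠ 1) (hb1 : b ≠ 1) (hab : a ≠ b) (ha : a * a = 1)
    (hb : b * b = 1) (hcomm : a * b = b * a) : f.ker = ⊥ := by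
  haveI : Fact (Nat.Prime 2) := ⟨Nat.prime_two⟩
  haveI : Finite X := Finite.of_surjective f hf
  -- lift the involutions to commuting involutions
  obtain ⟨K, hK⟩ := IsPGroup.iff_card.1 hker
  have hodd : ¬ 2 ∣ Nat.card f.ker := by
    rw [hK]
    exact fun hd => hp2 ((Nat.prime_dvd_prime_iff_eq Nat.prime_two hp.out).1
      (Nat.prime_two.dvd_of_dvd_pow hd)).symm
  set W : Subgroup X := closure {a, b} with hW
  set H := W.comap f with hH
  obtain ⟨P⟩ : Nonempty (Sylow 2 H) := inferInstance
  set A := (P : Subgroup H).map H.subtype with hA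
  have hAp : IsPGroup 2 A := P.isPGroup'.map _
  have hAH : A ≤ H := map_subtype_le _
  have hdisA : Disjoint A f.ker := IsPGroup.disjoint_of_ne 2 p (Ne.symm hp2) _ _ hAp hker
  have hinj : ∀ x ∈ A, ∀ y ∈ A, f x = f y → x = y := fun x hx y hy e => by
    have : x * y⁻¹ ∈ f.ker := by rw [MonoidHom.mem_ker, map_mul, e, map_inv, mul_inv_cancel]
    exact mul_inv_eq_one.1 (Subgroup.disjoint_def.1 hdisA (mul_mem hx (inv_mem hy)) this)
  have hWmem : ∀ w ∈ W, w * w = 1 ∧ Commute w a ∧ Commute w b := by
    intro w hw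
    induction hw using closure_induction with
    | mem x hx =>
      rcases hx with rfl | rfl
      · exact ⟨ha, Commute.refl _, hcomm⟩
      · exact ⟨hb, hcomm.symm, Commute.refl _⟩
    | one => exact ⟨one_mul 1, Commute.one_left _, Commute.one_left _⟩
    | mul x y hx hy ihx ihy =>
      have hxy : Commute x y := by
        clear ihy
        induction hy using closure_induction with
        | mem z hz => rcases hz with rfl | rfl
                      · exact ihx.2.1
                      · exact ihx.2.2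
        | one => exact Commute.one_right _
        | mul z z' _ _ h1 h2 => exact h1.mul_right h2
        | inv z _ h1 => exact h1.inv_right
      refine ⟨?_, ihx.2.1.mul_left ihy.2.1, ihx.2.2.mul_left ihy.2.2⟩
      rw [← sq, hxy.mul_pow, sq, sq, ihx.1, ihy.1, one_mul]
    | inv x _ ih => exact ⟨by rw [← mul_inv_rev, ih.1, inv_one], ih.2.1.inv_left, ih.2.2.inv_left⟩
  have hWc : ∀ v ∈ W, ∀ w ∈ W, v * w = w * v := by
    intro v hv w hw
    have h1 := (hWmem (v * w) (mul_mem hv hw)).1
    calc v * w = (v * w)⁻¹ := eq_inv_of_mul_eq_one_left h1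
      _ = w⁻¹ * v⁻¹ := mul_inv_rev v w
      _ = w * v := by
        rw [inv_eq_of_mul_eq_one_right (hWmem w hw).1, inv_eq_of_mul_eq_one_right (hWmem v hv).1]
  have hel : Cfsg.IsElementaryAbelian 2 A := by
    refine ⟨⟨⟨fun x y => Subtype.ext ?_⟩⟩, fun x hx => ?_⟩
    · apply hinj _ (mul_mem x.2 y.2) _ (mul_mem y.2 x.2)
      rw [map_mul, map_mul]
      exact hWc _ (hAH x.2) _ (hAH y.2)
    · apply hinj _ (pow_mem hx 2) _ (one_mem _)
      rw [map_pow, map_one, sq, (hWmem _ (hAH hx)).1]
  -- `A` has order at least four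
  have h4 : 2 ^ 2 ≤ Nat.card A := by
    haveI := Fintype.ofFinite W
    have h3 : 3 ≤ Nat.card W := by
      classical
      rw [Nat.card_eq_fintype_card]
      refine le_trans ?_ (Finset.card_le_univ
        ({1, ⟨a, subset_closure (by simp)⟩, ⟨b, subset_closure (by simp)⟩} : Finset W))
      rw [Finset.card_insert_of_notMem, Finset.card_pair]
      · exact fun e' => hab (congrArg Subtype.val e')
      · rw [Finset.mem_insert, Finset.mem_singleton]
        rintro (e' | e')
        · exact ha1 (congrArg Subtype.val e').symm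
        · exact hb1 (congrArg Subtype.val e').symm
    have hcardH : Nat.card W * Nat.card f.ker = Nat.card H := by
      have hk : (f.subgroupComap W).ker = f.ker.subgroupOf H := by
        ext x; rw [MonoidHom.mem_ker, mem_subgroupOf, MonoidHom.mem_ker, Subtype.ext_iff]; rfl
      rw [card_eq_card_quotient_mul_card_subgroup (f.subgroupComap W).ker,
        Nat.card_congr (QuotientGroup.quotientKerEquivOfSurjective _
          (f.subgroupComap_surjective_of_surjective W hf)).toEquiv, hk,
        Nat.card_congr (subgroupOfEquivOfLe (show f.ker ≤ H from f.ker_le_comap W)).toEquiv]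
    obtain ⟨n, hn⟩ := IsPGroup.iff_card.1 (show IsPGroup 2 W from fun w =>
      ⟨1, Subtype.ext (by simpa [sq] using (hWmem w w.2).1)⟩)
    have hn2 : 2 ≤ n := by
      by_contra hcon
      have : 2 ^ n ≤ 2 ^ 1 := Nat.pow_le_pow_right (by norm_num) (by omega)
      omega
    have hA' : Nat.card A = 2 ^ n := by
      rw [hA, Subgroup.card_subtype]
      exact H62.card_sylow_coe (p := 2) (a := n) (m := Nat.card f.ker)
        (by rw [← hcardH, hn]) hodd P
    rw [hA']
    exact Nat.pow_le_pow_right two_pos hn2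
  rw [eq_bot_iff]
  refine H8.generation_elements hel h4 (fun x _ => by rw [normalizer_eq_top f.ker]; trivial) hodd
    fun x hx hx1 => ?_
  rintro y ⟨hy, hyc⟩
  rw [mem_bot]
  by_contra hy1
  refine hx1 ?_
  obtain ⟨k, hk⟩ := IsPGroup.iff_orderOf.1 hker ⟨y, hy⟩
  rw [Subgroup.orderOf_mk] at hk
  obtain ⟨j, hj⟩ := IsPGroup.iff_orderOf.1 hAp ⟨x, hx⟩
  rw [Subgroup.orderOf_mk] at hj
  by_contra hx1'
  refine commute_coprime h (Subgroup.mem_centralizer_singleton_iff.1 hyc).symm ?_ hx1' hy1
  rw [hj, hk]
  exact Nat.Coprime.pow _ _ ((Nat.coprime_primes Nat.prime_two hp.out).2 (Ne.symm hp2))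

/-- An elementary kernel under `A_5`. -/
theorem kernel_two_five (h : Hyp G) {X : Type v} [Group X] (f : G →* X) (hf : Function.Surjective f)
    (e : X ≃* ↥(alternatingGroup (Fin 5))) (hker : IsPGroup 2 f.ker) :
    Cfsg.IsElementaryAbelian 2 f.ker := by
  haveI : Fact (Nat.Prime 3) := ⟨Nat.prime_three⟩
  haveI : Fact (Nat.Prime 2) := ⟨Nat.prime_two⟩
  obtain ⟨za, zb, za1, -, -, hza, -, -⟩ := a5_four_group
  obtain ⟨k, hk3, hk1, hzk⟩ := a5_inverts za hza za1
  haveI : Finite X := Finite.of_surjective _ hf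
  -- a Sylow 3-subgroup lifting `⟨k⟩`
  set k' := e.symm k with hk'
  have hk'o : orderOf k' = 3 := by
    rw [hk', MulEquiv.orderOf_eq]; exact orderOf_eq_prime hk3 hk1
  obtain ⟨Q, hQ⟩ := (IsPGroup.of_card (n := 1) (by rw [Nat.card_zpowers, hk'o, pow_one]) :
    IsPGroup 3 (zpowers k')).exists_le_sylow
  have hX : Nat.card X = 60 := card_alt5 e
  have hQ3 : Nat.card (Q : Subgroup X) = 3 := by
    rw [H62.card_sylow_coe (p := 3) (a := 1) (m := 20) (by rw [hX]; norm_num) (by norm_num) Q,
      pow_one]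
  have hQk : (Q : Subgroup X) = zpowers k' :=
    (eq_of_le_of_card_ge hQ (by rw [hQ3, Nat.card_zpowers, hk'o])).symm
  obtain ⟨P, hP⟩ := Sylow.mapSurjective_surjective hf 3 Q
  have hPmap : (P : Subgroup G).map f = zpowers k' := by rw [← hQk, ← hP]; rfl
  obtain ⟨n, hn⟩ := IsPGroup.iff_card.1 hker
  have hcardG : Nat.card G = 3 * (20 * 2 ^ n) := by
    rw [card_eq_card_quotient_mul_card_subgroup f.ker,
      Nat.card_congr (QuotientGroup.quotientKerEquivOfSurjective f hf).toEquiv, hX, hn]
    ring
  have hP3 : Nat.card (P : Subgroup G) = 3 := by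
    rw [H62.card_sylow_coe (p := 3) (a := 1) (m := 20 * 2 ^ n) (by rw [hcardG, pow_one])
      (fun hd => absurd ((Nat.Coprime.pow_right n (by norm_num : Nat.Coprime 3 2)).dvd_of_dvd_mul_right hd)
        (by norm_num)) P, pow_one]
  obtain ⟨⟨u, huP⟩, hu⟩ := exists_prime_orderOf_dvd_card' (G := (P : Subgroup G)) 3 (dvd_of_eq hP3.symm)
  rw [Subgroup.orderOf_mk] at hu
  have hPu : (P : Subgroup G) = zpowers u := (eq_of_le_of_card_ge (zpowers_le.2 huP)
    (by rw [hP3, Nat.card_zpowers, hu])).symm
  -- lift the inverting involution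
  set z' := e.symm za with hz'
  have hz'N : z' ∈ normalizer (((P : Subgroup G).map f : Subgroup X) : Set X) := by
    have hc : z' * k' * z'⁻¹ = k'⁻¹ := by
      rw [hz', hk', ← map_mul, ← map_inv, ← map_mul, hzk, map_inv]
    rw [hPmap]
    exact mem_normalizer_zpowers_of_conj_inv hc
  rw [← H25.RealOdd.map_normalizer_sylow 3 f hf P] at hz'N
  obtain ⟨z, hzN, hz⟩ := hz'N
  have hdis : Disjoint f.ker (P : Subgroup G) :=
    IsPGroup.disjoint_of_ne 2 3 (by norm_num) _ _ hker P.isPGroup'
  have hzz : z * z = 1 := by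
    have hmem : z * z ∈ f.ker := by
      rw [MonoidHom.mem_ker, map_mul, hz, hz', ← map_mul, hza, map_one]
    exact fpf h hker Nat.prime_three (by norm_num) hu hmem
      (eq_one_of_conj_mem hdis hmem huP ((mem_normalizer_iff.1 (mul_mem hzN hzN) u).1 huP)).symm
  have hz1 : z ≠ 1 := fun e' => za1 (e.symm.injective (by
    rw [map_one, ← hz', ← hz, e', map_one]))
  refine elementary_of_inverting h hker (p := 3) (by norm_num) hu hzz
    (inverts h (by norm_num) hu hzz hz1 (hPu ▸ (mem_normalizer_iff.1 hzN u).1 huP)) ?_ ?_ <;>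
  · rw [normalizer_eq_top f.ker]; trivial

/-- A 2-kernel under `A_6` is trivial. -/
theorem kernel_two_six (h : Hyp G) {X : Type v} [Group X] (f : G →* X) (hf : Function.Surjective f)
    (e : X ≃* ↥(alternatingGroup (Fin 6))) (hker : IsPGroup 2 f.ker) : f.ker = ⊥ := by
  haveI : Fact (Nat.Prime 3) := ⟨Nat.prime_three⟩
  by_contra hne
  have hX : Nat.card X = 360 := card_alt6 e
  have h9 : 3 ^ 2 ∣ Nat.card G := dvd_trans (by rw [hX]; norm_num) (card_dvd_of_surjective f hf)
  obtain ⟨P⟩ : Nonempty (Sylow 3 G) := inferInstance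
  have := (P.pow_dvd_card_of_pow_dvd_card h9).trans (card_dvd_of_normalizes h (p := 3) (by norm_num)
    P.isPGroup' hker hne (by rw [normalizer_eq_top f.ker]; exact le_top))
  norm_num at this

/-- The classification, given the simple case. -/
theorem classify_of_simpleCase (hS : SimpleCase.{u}) : ∀ (n : ℕ) (G : Type u) [Group G] [Finite G],
    Nat.card G = n → Hyp G → ¬ Group.IsSolvable G → Concl G := by
  intro n
  induction n using Nat.strong_induction_on with
  | _ n ih =>
  intro G _ _ hn h hns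
  classical
  by_cases hrad : ∀ N : Subgroup G, N.Normal → Group.IsSolvable N → N = ⊥
  · haveI : Nontrivial G := by
      by_contra hc
      rw [not_nontrivial_iff_subsingleton] at hc
      exact hns inferInstance
    obtain ⟨M, hMn, hMs, hMc, hMu⟩ := H30.eppo_socle (eppo h) hrad
    haveI := hMs
    haveI := hMn
    have key := hS M (h.subgroup M) hMc fun H _ _ hlt hH hHs =>
      ih _ (hlt.trans_le (hn ▸ card_le_card_group M)) H rfl hH hHs
    rcases key with ⟨⟨e⟩⟩ | ⟨⟨e⟩⟩
    · have ht := eq_top_five h M e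
      refine Or.inr ⟨⊥, inferInstance, ?_, ⟨(QuotientGroup.quotientBot.trans
        (Subgroup.topEquiv.symm.trans (MulEquiv.subgroupCongr ht.symm))).trans e⟩⟩
      refine ⟨⟨⟨fun a b => Subtype.ext ?_⟩⟩, fun a ha => ?_⟩
      · rw [Subgroup.coe_mul, Subgroup.coe_mul, show (a : G) = 1 from mem_bot.1 a.2,
          show (b : G) = 1 from mem_bot.1 b.2]
      · rw [mem_bot.1 ha, one_pow]
    · have ht := eq_top_six h M hMu e
      exact Or.inl ⟨(Subgroup.topEquiv.symm.trans (MulEquiv.subgroupCongr ht.symm)).trans e⟩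
  push Not at hrad
  obtain ⟨R, hRn, hRs, hR1⟩ := hrad
  haveI := hRn
  obtain ⟨p, hp, hRp⟩ := H30.eppo_radical hns (eppo h) R hRs
  haveI := Fact.mk hp
  have hlt : Nat.card (G ⧸ R) < n := by
    rw [← hn, card_eq_card_quotient_mul_card_subgroup R]
    exact lt_mul_of_one_lt_right Nat.card_pos (one_lt_card_iff_ne_bot R |>.2 hR1)
  have hqs : ¬ Group.IsSolvable (G ⧸ R) := fun hq =>
    hns ((Group.isSolvable_iff_subgroup_quotient R).2 ⟨hRs, hq⟩)
  rcases ih _ hlt (G ⧸ R) rfl (h.quotient R) hqs with ⟨⟨e⟩⟩ | ⟨N, hNn, hN, ⟨e⟩⟩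
  · exfalso
    by_cases hp2 : p = 2
    · subst hp2
      exact hR1 (by
        have := kernel_two_six h (QuotientGroup.mk' R) (QuotientGroup.mk'_surjective R) e
          (by rw [QuotientGroup.ker_mk']; exact hRp)
        rwa [QuotientGroup.ker_mk'] at this)
    · obtain ⟨a, b, a1, b1, ab, aa, bb, hab⟩ := a6_four_group
      exact hR1 (by
        have := kernel_odd_eq_bot h (e.toMonoidHom.comp (QuotientGroup.mk' R))
          (e.surjective.comp (QuotientGroup.mk'_surjective R)) hp2
          (by rw [ker_equiv_comp, QuotientGroup.ker_mk']; exact hRp)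
          a1 b1 ab aa bb hab
        rwa [ker_equiv_comp, QuotientGroup.ker_mk'] at this)
  · haveI := hNn
    set f : G →* ↥(alternatingGroup (Fin 5)) :=
      (e.toMonoidHom.comp (QuotientGroup.mk' N)).comp (QuotientGroup.mk' R) with hf
    have hfs : Function.Surjective f :=
      (e.surjective.comp (QuotientGroup.mk'_surjective N)).comp (QuotientGroup.mk'_surjective R)
    have hRf : R ≤ f.ker := fun r hr => by
      show e (QuotientGroup.mk' N (QuotientGroup.mk' R r)) = 1
      rw [show QuotientGroup.mk' R r = 1 from (QuotientGroup.eq_one_iff r).2 hr, map_one, map_one]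
    have hks : Group.IsSolvable f.ker := by
      have hker : f.ker = N.comap (QuotientGroup.mk' R) := by
        rw [hf, ← MonoidHom.comap_ker, ker_equiv_comp, QuotientGroup.ker_mk']
      rw [hker]
      haveI : Group.IsSolvable N := H30.isSolvable_of_isPGroup (isPGroup_two_of_elementary hN)
      haveI := hRs
      refine Group.isSolvable_of_ker_le_range
        (Subgroup.inclusion (show R ≤ N.comap (QuotientGroup.mk' R) by
          intro r hr
          show (r : G ⧸ R) ∈ N
          rw [(QuotientGroup.eq_one_iff r).2 hr]; exact one_mem _))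
        ((QuotientGroup.mk' R).subgroupComap N) ?_
      intro x hx
      have hxR : (x : G) ∈ R := by
        rw [MonoidHom.mem_ker] at hx
        exact (QuotientGroup.eq_one_iff _).1 (congrArg Subtype.val hx)
      exact ⟨⟨x, hxR⟩, rfl⟩
    obtain ⟨q, hq, hfq⟩ := H30.eppo_radical hns (eppo h) f.ker hks
    haveI := Fact.mk hq
    have hk1 : f.ker ≠ ⊥ := fun hb => hR1 (le_bot_iff.1 (hb ▸ hRf))
    obtain rfl : q = 2 := by
      by_contra hq2
      obtain ⟨a, b, a1, b1, ab, aa, bb, hab⟩ := a5_four_group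
      exact hk1 (kernel_odd_eq_bot h f hfs hq2 hfq a1 b1 ab aa bb hab)
    exact Or.inr ⟨f.ker, inferInstance, kernel_two_five h f hfs (MulEquiv.refl _) hfq,
      ⟨QuotientGroup.quotientKerEquivOfSurjective f hfs⟩⟩

end H63.SmallExp
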