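/-
Reduction of a simple group with element orders at most five to a configuration with two
normalisers `2⁴:A₅`.
-/
import Cfsg.Agent.H63.SmallExp.Structure
import Cfsg.Agent.H62.Basic
import Cfsg.Agent.H65.Dihedral
import Cfsg.Agent.H78.DihedralEightCentralizer
import Cfsg.Agent.H44.SmallQuot

set_option autoImplicit false
set_option linter.style.haveILetI false
set_option linter.unusedSectionVars false

namespace H63.SmallExp

open Subgroup
open scoped Pointwise

universe u

variable {G : Type u} [Group G] [Finite G]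

theorem exists_mem_normalizer_not_mem {P D : Subgroup G} (hP : IsPGroup 2 P) (hDP : D ≤ P)
    (hne : D ≠ P) : ∃ x ∈ P, x ∉ D ∧ x ∈ normalizer (D : Set G) := by
  haveI : Fact (Nat.Prime 2) := ⟨Nat.prime_two⟩
  haveI : Group.IsNilpotent P := hP.isNilpotent
  have hlt : D.subgroupOf P < ⊤ := lt_top_iff_ne_top.2 fun e =>
    hne (le_antisymm hDP (Subgroup.subgroupOf_eq_top.1 e))
  obtain ⟨⟨x, hx⟩, hxn, hxD⟩ :=
    SetLike.exists_of_lt (normalizerCondition_of_isNilpotent (D.subgroupOf P) hlt)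
  rw [mem_subgroupOf] at hxD
  refine ⟨x, hx, hxD, mem_normalizer_of_forall fun d hd => ?_⟩
  have := (mem_normalizer_iff.1 hxn ⟨d, hDP hd⟩).1 (mem_subgroupOf.2 hd)
  simpa [mem_subgroupOf] using this

/-- A maximal intersection of two Sylow 2-subgroups is the 2-core of its normaliser. -/
theorem exists_max_intersection (hti : ¬ ∀ S T : Sylow 2 G, S ≠ T → (S : Subgroup G) ⊓ T = ⊥) :
    ∃ D : Subgroup G, D ≠ ⊥ ∧ IsPGroup 2 D ∧
      Cfsg.pCore 2 ↥(normalizer (D : Set G)) = D.subgroupOf (normalizer (D : Set G)) ∧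
      Nat.card (Sylow 2 ↥(normalizer (D : Set G))) ≠ 1 := by
  classical
  haveI : Fact (Nat.Prime 2) := ⟨Nat.prime_two⟩
  push Not at hti
  obtain ⟨S₀, T₀, hne₀, hb₀⟩ := hti
  let X := {p : Sylow 2 G × Sylow 2 G // p.1 ≠ p.2}
  haveI : Nonempty X := ⟨⟨(S₀, T₀), hne₀⟩⟩
  obtain ⟨⟨⟨S, T⟩, hne⟩, hmax⟩ :=
    Finite.exists_max fun p : X => Nat.card ↥((p.1.1 : Subgroup G) ⊓ p.1.2)
  change S ≠ T at hne
  set D := (S : Subgroup G) ⊓ T with hD
  have hmax' : ∀ P Q : Sylow 2 G, P ≠ Q → Nat.card ↥((P : Subgroup G) ⊓ Q) ≤ Nat.card D :=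
    fun P Q h => hmax ⟨(P, Q), h⟩
  have hD1 : D ≠ ⊥ := by
    intro e
    have h1 := hmax' S₀ T₀ hne₀
    rw [e, Subgroup.card_bot] at h1
    exact hb₀ (Subgroup.card_eq_one.1 (le_antisymm h1 Nat.card_pos))
  have hD2 : IsPGroup 2 D := S.isPGroup'.to_le inf_le_left
  set N := normalizer (D : Set G) with hN
  have hDS : D ≠ S := fun e => hne (Sylow.ext (S.3 T.isPGroup' (e ▸ (inf_le_right : D ≤ T))).symm)
  have hDT : D ≠ T := fun e => hne (Sylow.ext (T.3 S.isPGroup' (e ▸ (inf_le_left : D ≤ S))))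
  haveI hDn : (D.subgroupOf N).Normal := normal_in_normalizer
  have hD2' : IsPGroup 2 (D.subgroupOf N) :=
    hD2.comap_of_injective N.subtype N.subtype_injective
  have hDcore : D.subgroupOf N ≤ Cfsg.pCore 2 N := H1.le_pCore hD2'
  -- intersections in `N`
  have hpair : ∀ P Q : Sylow 2 N, P ≠ Q → (P : Subgroup N) ⊓ Q = D.subgroupOf N := by
    intro P Q hPQ
    refine le_antisymm ?_ (le_inf (hDcore.trans (H1.pCore_le_sylow P))
      (hDcore.trans (H1.pCore_le_sylow Q)))
    obtain ⟨P', hP'⟩ := (P.isPGroup'.map N.subtype).exists_le_sylow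
    obtain ⟨Q', hQ'⟩ := (Q.isPGroup'.map N.subtype).exists_le_sylow
    have hP'Q' : P' ≠ Q' := by
      intro e
      subst e
      have h1 : IsPGroup 2 ((P' : Subgroup G).subgroupOf N) :=
        P'.isPGroup'.comap_of_injective N.subtype N.subtype_injective
      have h2 := P.3 h1 (fun x hx => mem_subgroupOf.2 (hP' ⟨x, hx, rfl⟩))
      have h3 := Q.3 h1 (fun x hx => mem_subgroupOf.2 (hQ' ⟨x, hx, rfl⟩))
      exact hPQ (Sylow.ext (h2.symm.trans h3))
    have hle : D ≤ (P' : Subgroup G) ⊓ Q' := by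
      intro d hd
      have hdN : d ∈ N := le_normalizer hd
      exact ⟨hP' ⟨⟨d, hdN⟩, H1.pCore_le_sylow P (hDcore (mem_subgroupOf.2 hd)), rfl⟩,
        hQ' ⟨⟨d, hdN⟩, H1.pCore_le_sylow Q (hDcore (mem_subgroupOf.2 hd)), rfl⟩⟩
    have heq := eq_of_le_of_card_ge hle (hmax' P' Q' hP'Q')
    intro x hx
    rw [mem_subgroupOf, heq]
    exact ⟨hP' ⟨x, hx.1, rfl⟩, hQ' ⟨x, hx.2, rfl⟩⟩
  -- `N` has several Sylow subgroups
  have hnc : Nat.card (Sylow 2 N) ≠ 1 := by
    intro h1
    obtain ⟨hsub, ⟨P⟩⟩ := Nat.card_eq_one_iff_unique.1 h1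
    obtain ⟨P', hP'⟩ := (P.isPGroup'.map N.subtype).exists_le_sylow
    have key : ∀ R : Sylow 2 G, D ≤ (R : Subgroup G) → D ≠ R → R = P' := by
      intro R hDR hne'
      by_contra hRP
      obtain ⟨x, hxR, hxD, hxN⟩ := exists_mem_normalizer_not_mem R.isPGroup' hDR hne'
      have hin : ∀ y ∈ (R : Subgroup G), y ∈ N → y ∈ (P' : Subgroup G) := by
        intro y hy hyN
        have h2 : IsPGroup 2 ((R : Subgroup G).subgroupOf N) :=
          R.isPGroup'.comap_of_injective N.subtype N.subtype_injective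
        obtain ⟨Q, hQ⟩ := h2.exists_le_sylow
        rw [hsub.allEq Q P] at hQ
        exact hP' ⟨⟨y, hyN⟩, hQ (mem_subgroupOf.2 hy), rfl⟩
      have hle : D ≤ (R : Subgroup G) ⊓ P' :=
        le_inf hDR fun d hd => hin d (hDR hd) (le_normalizer hd)
      have heq := eq_of_le_of_card_ge hle (hmax' R P' hRP)
      exact hxD (heq.ge ⟨hxR, hin x hxR hxN⟩)
    exact hne ((key S inf_le_left hDS).trans (key T inf_le_right hDT).symm)
  refine ⟨D, hD1, hD2, le_antisymm ?_ hDcore, hnc⟩
  obtain ⟨P⟩ : Nonempty (Sylow 2 N) := inferInstance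
  haveI : Nontrivial (Sylow 2 N) := by
    rw [← Finite.one_lt_card_iff_nontrivial]
    have : 0 < Nat.card (Sylow 2 N) := Nat.card_pos
    omega
  obtain ⟨Q, hQ⟩ := exists_ne P
  rw [← hpair Q P hQ]
  exact le_inf (H1.pCore_le_sylow Q) (H1.pCore_le_sylow P)

theorem sl3_two_seven : ∃ M : Matrix.SpecialLinearGroup (Fin 3) (ZMod 2), M ^ 7 = 1 ∧ M ≠ 1 :=
  ⟨⟨!![0, 0, 1; 1, 0, 1; 0, 1, 0], by decide⟩, by decide +kernel,
    fun e => absurd (congrFun (congrFun (congrArg Subtype.val e) 0) 0) (by decide +kernel)⟩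

variable [IsSimpleGroup G]

theorem normalizer_ne_top (hc : ¬ IsMulCommutative G) {D : Subgroup G} (hD : IsPGroup 2 D)
    (hD1 : D ≠ ⊥) : normalizer (D : Set G) ≠ ⊤ := by
  haveI : Fact (Nat.Prime 2) := ⟨Nat.prime_two⟩
  intro e
  rcases (Subgroup.normalizer_eq_top_iff.1 e).eq_bot_or_eq_top with h | h
  · exact hD1 h
  · exact H62.not_isPGroup_of_simple hc 2
      (hD.of_equiv ((MulEquiv.subgroupCongr h).trans Subgroup.topEquiv))

theorem card_lt_of_ne_top {H : Subgroup G} (hH : H ≠ ⊤) : Nat.card H < Nat.card G := by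
  rw [← Subgroup.card_top (G := G)]
  refine lt_of_le_of_ne (Subgroup.card_le_of_le le_top) fun e => hH ?_
  exact eq_of_le_of_card_ge le_top e.ge

namespace Conf

variable {D E W S : Subgroup G} {e : ℕ} (c : Conf D E W S e)

include c

theorem D_ne_bot : D ≠ ⊥ := by
  intro h
  obtain ⟨d, hd, hdW⟩ := c.W_lt_D
  rw [h, mem_bot] at hd
  exact hdW (hd ▸ one_mem W)

theorem orderOf_two {x : G} (hx : x ∈ E) (hx1 : x ≠ 1) : orderOf x = 2 :=
  orderOf_eq_prime (by rw [sq]; exact elementary_sq c.eel hx) hx1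

/-- Some involution of `E` outside `W` is conjugate into `D`. -/
theorem fused (hc : ¬ IsMulCommutative G) (h : Hyp G) :
    ∃ z ∈ E, z ∉ W ∧ ∃ g : G, g * z * g⁻¹ ∈ D := by
  haveI : Fact (Nat.Prime 2) := ⟨Nat.prime_two⟩
  by_contra hcon
  push Not at hcon
  obtain ⟨⟨w, hw⟩, hw1⟩ : ∃ w : W, w ≠ 1 := by
    haveI : Nontrivial W := Finite.one_lt_card_iff_nontrivial.1 c.one_lt
    exact exists_ne 1
  have hw1' : w ≠ 1 := fun e => hw1 (Subtype.ext e)
  have hcz : ∀ z ∈ E, z ∉ W → ∀ s : G, s * z = z * s → s ∈ E := by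
    intro z hz hzW s hs
    have hz1 : z ≠ 1 := fun e => hzW (e ▸ one_mem W)
    have hp := cent_isPGroup h hz1 (p := 2) ⟨1, by rw [pow_one, c.orderOf_two hz hz1]⟩
    obtain ⟨T, hT⟩ := hp.exists_le_sylow
    obtain ⟨g, hg⟩ := MulAction.exists_smul_eq G (c.sylow h) T
    have hTS : (T : Subgroup G) = S.map (MulAut.conj g).toMonoidHom := by
      rw [← hg, Sylow.coe_subgroup_smul]; rfl
    have hET : E.map (MulAut.conj g⁻¹).toMonoidHom ≤ S := by
      rintro _ ⟨x, hx, rfl⟩
      have := hT (mem_centralizer_singleton_iff.2 (elementary_comm c.eel hx hz))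
      rw [hTS, mem_map_conj] at this
      simpa [mul_assoc] using this
    have hzin : g⁻¹ * z * g ∈ E.map (MulAut.conj g⁻¹).toMonoidHom := by
      rw [mem_map_conj]; simpa [mul_assoc] using hz
    rcases c.elementary_le (elementary_map c.eel _) hET with h1 | h1
    · exfalso
      exact hcon z hz hzW g⁻¹ (by simpa [mul_assoc] using h1 hzin)
    have heq := eq_of_le_of_card_ge h1 (by rw [card_map_conj])
    have hwE : g⁻¹ * w * g ∈ E := by
      rw [← heq, mem_map_conj]
      simpa [mul_assoc] using c.leE hw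
    have hwW : g⁻¹ * w * g ∈ W := by
      by_contra hnW
      exact hcon _ hwE hnW g (by simpa [mul_assoc] using c.leD hw)
    have hwg1 : g⁻¹ * w * g ≠ 1 := fun e => hw1' (by
      have := congrArg (fun x => g * x * g⁻¹) e
      simpa [mul_assoc] using this)
    have hsT := hT (mem_centralizer_singleton_iff.2 hs)
    rw [hTS, mem_map_conj, ← c.cent_W h hwW hwg1, mem_centralizer_singleton_iff] at hsT
    have hsS : s ∈ S := by
      rw [← c.cent_W h hw hw1', mem_centralizer_singleton_iff]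
      calc s * w = g * ((g⁻¹ * s * g) * (g⁻¹ * w * g)) * g⁻¹ := by group
        _ = g * ((g⁻¹ * w * g) * (g⁻¹ * s * g)) * g⁻¹ := by rw [hsT]
        _ = w * s := by group
    exact c.cent_S hz hzW hsS hs
  obtain ⟨z, hz, hzW⟩ := c.W_lt_E
  have hz1 : z ≠ 1 := fun e => hzW (e ▸ one_mem W)
  have hz2 := c.orderOf_two hz hz1
  have hnorm : D.Normal := by
    refine ⟨fun t ht g => ?_⟩
    by_cases ht1 : t = 1
    · simp [ht1]
    set t' := g * t * g⁻¹ with ht'
    have ht'2 : orderOf t' = 2 :=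
      H65.two_conj (orderOf_eq_prime (by rw [sq]; exact elementary_sq c.del ht) ht1) g
    have hback : ∀ x, x = t' → x ∈ E → x ∈ W := fun x hx hxE => by
      by_contra hxW
      exact hcon x hxE hxW g⁻¹ (by rw [hx, ht']; simpa [mul_assoc] using ht)
    obtain ⟨n, hn⟩ : Even (orderOf (t' * z)) := by
      rcases Nat.even_or_odd (orderOf (t' * z)) with he | ho
      · exact he
      · exfalso
        obtain ⟨d, hd⟩ := isConj_iff.1 (H65.isConj_of_odd ht'2 hz2 ho)
        refine hcon z hz hzW (d * g)⁻¹ ?_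
        rw [← hd, ht']
        simpa [mul_assoc] using ht
    set c0 := (t' * z) ^ n with hc0
    have hpos := orderOf_pos (t' * z)
    have hn1 : 0 < n := by omega
    have hc00 : c0 * c0 = 1 := by rw [hc0, ← pow_add, ← hn, pow_orderOf_eq_one]
    have hc01 : c0 ≠ 1 := pow_ne_one_of_lt_orderOf hn1.ne' (by omega)
    have hct : c0 * t' = t' * c0 := by
      have h1 := H65.zpow_mul_left ht'2 hz2 (n : ℤ)
      rwa [zpow_natCast, zpow_neg, zpow_natCast, inv_eq_of_mul_eq_one_right hc00] at h1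
    have hcz' : c0 * z = z * c0 := by
      have h3 : Commute c0 (t' * z) := (Commute.refl _).pow_left n
      calc c0 * z = t' * t' * (c0 * z) := by rw [H65.mul_self_of_two ht'2, one_mul]
        _ = t' * (c0 * (t' * z)) := by
            rw [mul_assoc t' t', ← mul_assoc t' c0 z, ← hct, mul_assoc c0]
        _ = t' * ((t' * z) * c0) := by rw [h3.eq]
        _ = z * c0 := by rw [← mul_assoc, ← mul_assoc, H65.mul_self_of_two ht'2, one_mul]
    have hcE := hcz z hz hzW c0 hcz'
    by_cases hcW : c0 ∈ W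
    · have htS : t' ∈ S := by
        rw [← c.cent_W h hcW hc01, mem_centralizer_singleton_iff]
        exact hct.symm
      rcases c.invol_mem htS (H65.mul_self_of_two ht'2) with h1 | h1
      · exact h1
      · exact c.leD (hback t' rfl h1)
    · exact c.leD (hback t' rfl (hcz c0 hcE hcW t' hct.symm))
  exact normalizer_ne_top hc (isPGroup_two_of_elementary c.del) c.D_ne_bot
    (Subgroup.normalizer_eq_top_iff.2 hnorm)

theorem small_case (hc : ¬ IsMulCommutative G) (h : Hyp G) (hW : Nat.card W = 2) :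
    Nonempty (G ≃* ↥(alternatingGroup (Fin 6))) := by
  haveI : Fact (Nat.Prime 2) := ⟨Nat.prime_two⟩
  have he2 : e = 2 := by have := c.hle; have := c.two_le; omega
  have hS8 : Nat.card S = 8 := by rw [c.card_S, c.cardD, hW, he2]; norm_num
  obtain ⟨⟨w, hw⟩, hw1⟩ : ∃ w : W, w ≠ 1 := by
    haveI : Nontrivial W := Finite.one_lt_card_iff_nontrivial.1 c.one_lt
    exact exists_ne 1
  have hw1' : w ≠ 1 := fun e => hw1 (Subtype.ext e)
  obtain ⟨d, hd, hdW⟩ := c.W_lt_D
  obtain ⟨z, hz, hzW⟩ := c.W_lt_E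
  have hdd := elementary_sq c.del hd
  have hzz := elementary_sq c.eel hz
  have hdi := inv_eq_of_mul_eq_one_right hdd
  have hzi := inv_eq_of_mul_eq_one_right hzz
  let x : S := ⟨d * z, mul_mem (c.D_le hd) (c.E_le hz)⟩
  let y : S := ⟨z, c.E_le hz⟩
  have hx4 : x ^ 4 = 1 := Subtype.ext (pow_four_of_isPGroup h c.isPGroup_S x.2)
  have hx2 : x * x ≠ 1 := by
    intro e'
    have e2 : d * z * (d * z) = 1 := congrArg Subtype.val e'
    have hcom : Commute d z := by
      show d * z = z * d
      rw [mul_eq_one_iff_eq_inv.1 e2, mul_inv_rev, hzi, hdi]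
    exact hdW (c.cent z hz hzW d hd hcom)
  have hxy : y * x * y = x⁻¹ := Subtype.ext (by
    show z * (d * z) * z = (d * z)⁻¹
    rw [mul_inv_rev, hzi, hdi, mul_assoc z, mul_assoc d, hzz, mul_one])
  have hyy : y * y = 1 := Subtype.ext hzz
  have hzd : z ≠ (1 : G) := fun e' => hzW (e' ▸ one_mem W)
  have hyx : ∀ k : ℕ, y ≠ x ^ k := by
    intro k hk
    have hcom : Commute y x := hk ▸ (Commute.refl x).pow_left k
    have h1 : x⁻¹ = x := by rw [← hxy, hcom.eq, mul_assoc, hyy, mul_one]
    exact hx2 (by nth_rewrite 1 [← h1]; exact inv_mul_cancel x)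
  have ho : orderOf x = 4 := by
    refine orderOf_eq_prime_pow (p := 2) (n := 1) ?_ (by simpa using hx4)
    rw [pow_one, sq]; exact hx2
  have hgen : Subgroup.closure ({x, y} : Set S) = ⊤ := by
    set C := Subgroup.closure ({x, y} : Set S)
    have h1 : zpowers x ≤ C := zpowers_le.2 (subset_closure (by simp))
    have h2 : zpowers x ≠ C := by
      intro e'
      have hy : y ∈ zpowers x := e' ▸ subset_closure (by simp)
      obtain ⟨k, hk⟩ := (mem_powers_iff_mem_zpowers.2 hy)
      exact hyx k hk.symm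
    have h3 : 4 < Nat.card C := by
      rw [← ho, ← Nat.card_zpowers]
      exact lt_of_le_of_ne (Subgroup.card_le_of_le h1)
        fun e' => h2 (eq_of_le_of_card_ge h1 e'.ge)
    have h4 := Subgroup.card_subgroup_dvd_card C
    rw [hS8] at h4
    refine Subgroup.eq_top_of_card_eq C ?_
    rw [hS8]
    have := Nat.le_of_dvd (by norm_num) h4
    interval_cases (Nat.card C) <;> first | omega | norm_num at h4
  obtain ⟨f, hf⟩ := H44.exists_equiv_dihedral hx4 hx2 hyy hxy hyx hgen
  have hw2 : orderOf w = 2 := c.orderOf_two (c.leE hw) hw1'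
  have hC : Nonempty (↥(centralizer ({w} : Set G)) ≃* DihedralGroup 4) :=
    ⟨(MulEquiv.subgroupCongr (c.cent_W h hw hw1')).trans (MulEquiv.ofBijective f hf).symm⟩
  rcases H78.D8.dihedral_eight_centralizer hw2 hC with h1 | ⟨⟨e4⟩⟩ | ⟨⟨e5⟩⟩ | ⟨⟨e7⟩⟩ | h6
  · exfalso
    have hO : Cfsg.oddCore G = ⊥ := by
      haveI hn : (Cfsg.pPrimeCore 2 G).Normal := H1.pPrimeCore_normal' 2 G
      rcases hn.eq_bot_or_eq_top with e' | e'
      · exact e'
      · exfalso
        have h2 := H1.card_pPrimeCore_coprime 2 G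
        rw [e', Subgroup.card_top] at h2
        have h8 : 2 ∣ Nat.card G :=
          (show 2 ∣ Nat.card S by rw [hS8]; norm_num).trans (card_subgroup_dvd_card S)
        exact absurd (Nat.eq_one_of_dvd_coprimes h2 h8 dvd_rfl) (by norm_num)
    rw [hO, sup_bot_eq] at h1
    have hwc : w ∈ center G := by
      rw [mem_center_iff]
      intro g
      exact mem_centralizer_singleton_iff.1 (h1.ge (mem_top g))
    rw [H62.center_eq_bot_of_simple hc, mem_bot] at hwc
    exact hw1' hwc
  · exfalso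
    haveI : IsSimpleGroup (Equiv.Perm (Fin 4)) := e4.isSimpleGroup_congr.1 inferInstance
    rcases (inferInstance : (alternatingGroup (Fin 4)).Normal).eq_bot_or_eq_top with e' | e'
    · have h12 := nat_card_alternatingGroup (α := Fin 4)
      rw [e', Subgroup.card_bot, Nat.card_fin] at h12
      norm_num [Nat.factorial] at h12
    · have := e'.ge (mem_top (Equiv.swap (0 : Fin 4) 1))
      simp [Equiv.Perm.mem_alternatingGroup] at this
  · exfalso
    haveI : IsSimpleGroup (Equiv.Perm (Fin 5)) := e5.isSimpleGroup_congr.1 inferInstance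
    rcases (inferInstance : (alternatingGroup (Fin 5)).Normal).eq_bot_or_eq_top with e' | e'
    · have h60 := nat_card_alternatingGroup (α := Fin 5)
      rw [e', Subgroup.card_bot, Nat.card_fin] at h60
      norm_num [Nat.factorial] at h60
    · have := e'.ge (mem_top (Equiv.swap (0 : Fin 5) 1))
      simp [Equiv.Perm.mem_alternatingGroup] at this
  · exfalso
    haveI : Fact (Nat.Prime 7) := ⟨by norm_num⟩
    obtain ⟨M, hM7, hM1⟩ := sl3_two_seven
    have h7 : orderOf M = 7 := orderOf_eq_prime hM7 hM1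
    have := h (e7.symm M)
    rw [MulEquiv.orderOf_eq, h7] at this
    omega
  · exact h6

/-- With `|W| ≥ 4`, `N(D)` and `N(E)` are both extensions of `2⁴` by `A₅`. -/
theorem large_case (hc : ¬ IsMulCommutative G) (h : Hyp G)
    (hIH : ∀ (H : Type u) [Group H] [Finite H], Nat.card H < Nat.card G → Hyp H →
      ¬ Group.IsSolvable H → Concl H) (hW : 2 < Nat.card W) :
    e = 4 ∧ Nat.card W = 4 ∧
      ∃ f : ↥(normalizer (E : Set G)) →* ↥(alternatingGroup (Fin 5)),
        Function.Surjective f ∧ f.ker = E.subgroupOf (normalizer (E : Set G)) := by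
  classical
  haveI : Fact (Nat.Prime 2) := ⟨Nat.prime_two⟩
  obtain ⟨iW, hiW⟩ : ∃ i, Nat.card W = 2 ^ i :=
    IsPGroup.iff_card.1 ((isPGroup_two_of_elementary c.del).to_le c.leD)
  have hW4 : 4 ≤ Nat.card W := by
    rcases iW with _ | _ | i
    · rw [pow_zero] at hiW; omega
    · rw [Nat.zero_add, pow_one] at hiW; omega
    · rw [hiW]
      calc 4 = 2 ^ 2 := by norm_num
        _ ≤ 2 ^ (i + 2) := Nat.pow_le_pow_right two_pos (by omega)
  have he : e = 2 ∨ e = 4 := c.he.imp id And.left
  have hconjcase : ∀ a : G, E = D.map (MulAut.conj a).toMonoidHom →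
      e = 4 ∧ Nat.card W = 4 ∧ ∃ f : ↥(normalizer (E : Set G)) →* ↥(alternatingGroup (Fin 5)),
        Function.Surjective f ∧ f.ker = E.subgroupOf (normalizer (E : Set G)) := by
    intro a ha
    have h1 : Nat.card E = Nat.card D := by rw [ha, card_map_conj]
    rw [c.cardE, c.cardD, sq] at h1
    have he' : e = Nat.card W := Nat.eq_of_mul_eq_mul_right (by omega) h1
    rcases c.he with h2 | ⟨h4, ⟨f, hf, hker⟩, -⟩
    · omega
    refine ⟨h4, he'.symm.trans h4, ?_⟩
    have hto : ∀ x ∈ normalizer (E : Set G), a⁻¹ * x * a ∈ normalizer (D : Set G) := by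
      intro x hx
      refine mem_normalizer_of_forall fun d hd => ?_
      have h2 : a * d * a⁻¹ ∈ E := by rw [ha, mem_map_conj]; simpa [mul_assoc] using hd
      have h3 := (mem_normalizer_iff.1 hx _).1 h2
      rw [ha, mem_map_conj] at h3
      simpa [mul_assoc] using h3
    have hfrom : ∀ y ∈ normalizer (D : Set G), a * y * a⁻¹ ∈ normalizer (E : Set G) := by
      intro y hy
      refine mem_normalizer_of_forall fun x hx => ?_
      rw [ha, mem_map_conj] at hx
      have h3 := (mem_normalizer_iff.1 hy _).1 hx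
      rw [ha, mem_map_conj]
      simpa [mul_assoc] using h3
    let φ : ↥(normalizer (E : Set G)) →* ↥(normalizer (D : Set G)) :=
      MonoidHom.mk' (fun x => ⟨a⁻¹ * x * a, hto x x.2⟩) fun x y => Subtype.ext (by
        simp only [Subgroup.coe_mul]; group)
    refine ⟨f.comp φ, hf.comp fun y => ⟨⟨a * y * a⁻¹, hfrom y y.2⟩, Subtype.ext (by
      simp [φ, mul_assoc])⟩, ?_⟩
    ext x
    rw [MonoidHom.mem_ker, MonoidHom.comp_apply, ← MonoidHom.mem_ker, hker, mem_subgroupOf,
      mem_subgroupOf]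
    show a⁻¹ * (x : G) * a ∈ D ↔ (x : G) ∈ E
    rw [SetLike.ext_iff.1 ha (x : G), mem_map_conj]
  obtain ⟨z, hz, hzW, g, hg⟩ := c.fused hc h
  by_cases hEX : ∃ a : G, E = D.map (MulAut.conj a).toMonoidHom
  · obtain ⟨a, ha⟩ := hEX
    exact hconjcase a ha
  push Not at hEX
  have hz1 : z ≠ 1 := fun e => hzW (e ▸ one_mem W)
  have hp := cent_isPGroup h hz1 (p := 2) ⟨1, by rw [pow_one, c.orderOf_two hz hz1]⟩
  obtain ⟨T, hT⟩ := hp.exists_le_sylow
  obtain ⟨k, hk⟩ := MulAction.exists_smul_eq G (c.sylow h) T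
  have hTS : (T : Subgroup G) = S.map (MulAut.conj k).toMonoidHom := by
    rw [← hk, Sylow.coe_subgroup_smul]; rfl
  set D' := D.map (MulAut.conj g⁻¹).toMonoidHom with hD'
  have hzD' : z ∈ D' := by
    rw [hD', mem_map_conj]; simpa [mul_assoc] using hg
  have hD'C : D' ≤ centralizer ({z} : Set G) := fun x hx =>
    mem_centralizer_singleton_iff.2 (elementary_comm (elementary_map c.del _) hx hzD')
  have hDcard : Nat.card D' = Nat.card D := card_map_conj _ _
  have hEDcard : Nat.card E ≤ Nat.card D := by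
    rw [c.cardE, c.cardD, sq]; exact Nat.mul_le_mul_right _ c.hle
  have hTne : T ≠ c.sylow h := by
    intro e'
    rw [e'] at hT
    have hle : D' ≤ E := fun x hx =>
      c.cent_S hz hzW (hT (hD'C hx)) (elementary_comm (elementary_map c.del _) hx hzD')
    exact hEX g⁻¹ (eq_of_le_of_card_ge hle (by rw [hDcard]; exact hEDcard)).symm
  have hback : ∀ A : Subgroup G, A ≤ (T : Subgroup G) → A.map (MulAut.conj k⁻¹).toMonoidHom ≤ S := by
    intro A hA
    rintro _ ⟨x, hx, rfl⟩
    have h2 := hA hx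
    rw [hTS, mem_map_conj] at h2
    simpa [mul_assoc] using h2
  have hET : E ≤ (T : Subgroup G) := fun x hx =>
    hT (mem_centralizer_singleton_iff.2 (elementary_comm c.eel hx hz))
  have hback' : ∀ {A B : Subgroup G}, A.map (MulAut.conj k⁻¹).toMonoidHom = B →
      A = B.map (MulAut.conj k).toMonoidHom := by
    intro A B hAB
    rw [← hAB, map_conj_map, mul_inv_cancel, map_conj_of_mem (one_mem _)]
  -- the image of `D'` is `D` and that of `E` is `E`
  have hD'eq : D'.map (MulAut.conj k⁻¹).toMonoidHom = D := by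
    rcases c.elementary_le (elementary_map (elementary_map c.del _) _)
      (hback D' (hD'C.trans hT)) with h1 | h1
    · exact eq_of_le_of_card_ge h1 (by rw [card_map_conj, hDcard])
    · exfalso
      have h2 : (D'.map (MulAut.conj k⁻¹).toMonoidHom) = E :=
        eq_of_le_of_card_ge h1 (by rw [card_map_conj, hDcard]; exact hEDcard)
      rw [hD', map_conj_map] at h2
      exact hEX _ h2.symm
  have hEeq : E.map (MulAut.conj k⁻¹).toMonoidHom = E := by
    rcases c.elementary_le (elementary_map c.eel _) (hback E hET) with h1 | h1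
    · exfalso
      have h2 : E ≤ D.map (MulAut.conj k).toMonoidHom := by
        intro x hx
        rw [mem_map_conj]
        have := h1 ⟨x, hx, rfl⟩
        simpa [mul_assoc] using this
      have h3 : D.map (MulAut.conj k).toMonoidHom ≤ E := fun y hy =>
        c.cent_E h fun x hx => elementary_comm (elementary_map c.del _) hy (h2 hx)
      exact hEX k (le_antisymm h2 h3)
    · exact eq_of_le_of_card_ge h1 (by rw [card_map_conj])
  set L := normalizer (E : Set G) with hL
  have hkL : k ∈ L := by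
    have hE' := hback' hEeq
    refine mem_normalizer_of_forall fun x hx => ?_
    rw [hE', mem_map_conj]
    simpa [mul_assoc] using hx
  have hSL : S ≤ L := c.E_normal_S
  have hTL : (T : Subgroup G) ≤ L := by
    intro x hx
    rw [hTS, mem_map_conj] at hx
    have := mul_mem (mul_mem hkL (hSL hx)) (inv_mem hkL)
    simpa [mul_assoc] using this
  -- local structure of `N(E)`
  have hE2 := isPGroup_two_of_elementary c.eel
  have hE1 : E ≠ ⊥ := by
    intro e'
    rw [e', mem_bot] at hz
    exact hz1 hz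
  have hLlt : Nat.card L < Nat.card G := card_lt_of_ne_top (normalizer_ne_top hc hE2 hE1)
  haveI : (E.subgroupOf L).Normal := normal_in_normalizer
  have hEcore : E.subgroupOf L ≤ Cfsg.pCore 2 L :=
    H1.le_pCore (hE2.comap_of_injective L.subtype L.subtype_injective)
  have hne : Cfsg.pCore 2 L ≠ ⊥ := by
    intro e'
    rw [e', le_bot_iff] at hEcore
    have h1 := congrArg (Subgroup.map L.subtype) hEcore
    rw [subgroupOf_map_subtype, inf_eq_left.2 le_normalizer, Subgroup.map_bot] at h1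
    exact hE1 h1
  have hnc : Nat.card (Sylow 2 L) ≠ 1 := by
    intro e'
    obtain ⟨hsub, -⟩ := Nat.card_eq_one_iff_unique.1 e'
    have h1 := hsub.allEq ((c.sylow h).subtype hSL) (T.subtype hTL)
    exact hTne (Sylow.subtype_injective h1).symm
  obtain ⟨hel, hcases⟩ := local_structure (h.subgroup L) hne hnc
    fun hns => hIH L hLlt (h.subgroup L) hns
  have hcore : Cfsg.pCore 2 L = E.subgroupOf L := by
    refine le_antisymm (fun x hx => mem_subgroupOf.2 (c.cent_E h fun y hy => ?_)) hEcore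
    exact congrArg Subtype.val
      (elementary_comm hel hx (hEcore (show (⟨y, le_normalizer hy⟩ : L) ∈ E.subgroupOf L from hy)))
  have hEc : Nat.card (Cfsg.pCore 2 L) = Nat.card E := by
    rw [hcore]; exact Nat.card_congr (subgroupOfEquivOfLe le_normalizer).toEquiv
  have hidx : ¬ 2 ∣ S.index := (c.sylow h).not_dvd_index
  have hrel : ¬ 2 ∣ S.relIndex L := fun h2 => hidx (h2.trans (relIndex_dvd_index_of_le hSL))
  have hScard : Nat.card L = Nat.card S * S.relIndex L := by
    rw [← relIndex_bot_left, ← relIndex_bot_left S, relIndex_mul_relIndex _ _ _ bot_le hSL]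
  rcases hcases with ⟨p, -, -, hp, hp2, -, -, -, -, hcard⟩ | ⟨f, hf, hker⟩
  · exfalso
    have h1 : Nat.card S ≤ 2 * Nat.card E := card_two_le c.isPGroup_S hSL (r := p)
      (by rw [hcard, hEc]; ring) (Nat.mul_pos two_pos Nat.card_pos)
      (fun h2 => hp2 ((Nat.prime_dvd_prime_iff_eq Nat.prime_two hp).1 h2).symm)
    rw [c.card_S, c.cardD, c.cardE] at h1
    have := c.two_le
    nlinarith [Nat.mul_le_mul_left (e * Nat.card W) hW4]
  · have hLc : Nat.card L = Nat.card E * 4 * 15 := by
      rw [card_of_alt5_surj f hf, hker, hEc]; ring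
    have h1 : Nat.card S ≤ Nat.card E * 4 :=
      card_two_le c.isPGroup_S hSL (r := 15) hLc (Nat.mul_pos Nat.card_pos (by norm_num))
        (by norm_num)
    have h2 : Nat.card E * 4 ≤ Nat.card S := by
      obtain ⟨j, hj⟩ := IsPGroup.iff_card.1 hE2
      refine Nat.le_of_dvd Nat.card_pos ?_
      have h3 : Nat.card E * 4 ∣ Nat.card S * S.relIndex L := ⟨15, by rw [← hScard, hLc]⟩
      refine (Nat.Coprime.dvd_of_dvd_mul_right ?_ h3)
      rw [hj, show (4 : ℕ) = 2 ^ 2 by norm_num, ← pow_add]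
      exact Nat.Coprime.pow_left _ (Nat.prime_two.coprime_iff_not_dvd.2 hrel)
    rw [c.card_S, c.cardD, c.cardE, sq] at h1 h2
    have hW' : Nat.card W = 4 := by
      have := c.two_le
      have h3 : e * Nat.card W * Nat.card W = e * Nat.card W * 4 := by
        rw [mul_assoc e]; exact le_antisymm h1 h2
      exact Nat.eq_of_mul_eq_mul_left (by positivity) h3
    have he4 : e = 4 := by
      rcases he with e2 | e4
      · exfalso
        haveI : Fact (Nat.Prime 5) := ⟨Nat.prime_five⟩
        obtain ⟨v, hv⟩ := exists_prime_orderOf_dvd_card' (G := L) 5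
          ⟨Nat.card E * 12, by rw [hLc]; ring⟩
        have h5 := five_card h hE2 (v := (v : G)) (by rw [Subgroup.orderOf_coe, hv]) v.2
        rw [c.cardE, e2, hW'] at h5
        norm_num at h5
      · exact e4
    exact ⟨he4, hW', f, hf, hker.trans hcore⟩

end Conf

end H63.SmallExp
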