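/-
Simple groups with element orders at most five whose Sylow 2-subgroups intersect trivially.
-/
import Cfsg.Agent.H63.SmallExp.Local
import Cfsg.Agent.S1224
import Cfsg.Agent.S1225
import Cfsg.Agent.H66.ZassClassify
import Cfsg.Agent.H37.SmallIso
import Cfsg.Agent.H64.SL2Spectrum
import Cfsg.Agent.H59.A5Char
import Cfsg.Agent.H85.BrauerSuzuki
import Cfsg.Agent.H16.OddOrder
import Cfsg.Agent.H63.SmallExp.Socle

set_option autoImplicit false

namespace H63.SmallExp

open Subgroup
open scoped Pointwise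

universe u v

/-- A solvable simple group is commutative. -/
theorem comm_of_solvable_simple {M : Type u} [Group M] [IsSimpleGroup M]
    (h : Group.IsSolvable M) : IsMulCommutative M :=
  ⟨⟨fun a b => IsSimpleGroup.comm_iff_isSolvable.2 h a b⟩⟩

/-- The simple groups `PSL₂(F)` with element orders at most five. -/
theorem psl_small {F : Type} [Field F] [Fintype F] {M : Type u} [Group M] [Finite M]
    [IsSimpleGroup M] (hc : ¬ IsMulCommutative M) (h : Hyp M)
    (e : M ≃* Matrix.ProjectiveSpecialLinearGroup (Fin 2) F) :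
    Nonempty (M ≃* ↥(alternatingGroup (Fin 5))) ∨ Nonempty (M ≃* ↥(alternatingGroup (Fin 6))) := by
  obtain ⟨p, hchar⟩ := CharP.exists F
  haveI : Fact p.Prime := ⟨CharP.char_is_prime F p⟩
  obtain ⟨n, hp, hq⟩ := FiniteField.card F p
  have hle : ∀ m, m ∈ Set.range (orderOf : Matrix.ProjectiveSpecialLinearGroup (Fin 2) F → ℕ) → m ≤ 5 := by
    rintro m ⟨x, rfl⟩
    rw [← e.symm.orderOf_eq x]
    exact h _
  rw [H64.psl2_spectrum p] at hle
  have h1 : p ≤ 5 := hle p (Or.inl dvd_rfl)
  have h2 := hle _ (Or.inr (Or.inr (dvd_refl ((Fintype.card F + 1) / Nat.gcd 2 (Fintype.card F - 1)))))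
  set q := Fintype.card F with hqdef
  have hd : Nat.gcd 2 (q - 1) ≤ 2 := Nat.le_of_dvd two_pos (Nat.gcd_dvd_left _ _)
  have hdpos : 0 < Nat.gcd 2 (q - 1) := Nat.gcd_pos_of_pos_left _ two_pos
  have hq11 : q ≤ 10 := by
    by_contra hcon
    have : 6 * Nat.gcd 2 (q - 1) ≤ q + 1 := by omega
    have := (Nat.le_div_iff_mul_le hdpos).2 this
    omega
  have hM : Nat.gcd 2 (q - 1) * Nat.card M = q * (q ^ 2 - 1) := by
    have := H37.card_PSL_two (F := F)
    rwa [Nat.card_eq_fintype_card (α := F), ← Nat.card_congr e.toEquiv] at this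
  have h60 : 60 ≤ Nat.card M := by
    by_contra hcon
    push Not at hcon
    have hq2 := Fintype.one_lt_card (α := F)
    have hM' : q * (q ^ 2 - 1) < 2 * 60 := by
      calc q * (q ^ 2 - 1) = Nat.gcd 2 (q - 1) * Nat.card M := hM.symm
        _ < 2 * 60 := lt_of_le_of_lt (Nat.mul_le_mul_right _ hd) (by omega)
    have hq6 : q ≤ 5 := by
      by_contra hq6
      have : 6 * (6 ^ 2 - 1) ≤ q * (q ^ 2 - 1) :=
        Nat.mul_le_mul (by omega) (Nat.sub_le_sub_right (Nat.pow_le_pow_left (by omega) 2) 1)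
      omega
    have h120 : Nat.card M ∣ 120 := by
      have : Nat.card M ∣ q * (q ^ 2 - 1) := Dvd.intro_left _ hM
      refine this.trans ?_
      interval_cases q <;> first | omega | norm_num
    exact hc (comm_of_solvable_simple (H59.solvable_of_card hcon h120))
  have hpn : q = p ^ (n : ℕ) := hq
  have hcases : q = 4 ∨ q = 5 ∨ q = 9 := by
    have hq2 := Fintype.one_lt_card (α := F)
    rcases lt_or_ge q 4 with hlt | hge
    · exfalso
      interval_cases q <;> norm_num at hM <;> omega
    have hp2 := hp.two_le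
    interval_cases q
    · exact Or.inl rfl
    · exact Or.inr (Or.inl rfl)
    all_goals first
      | exact Or.inr (Or.inr rfl)
      | (exfalso
         have hdvd : p ∣ _ := hpn ▸ dvd_pow_self p n.ne_zero
         interval_cases p <;> first
           | (norm_num at hdvd; done)
           | (norm_num at h2; done)
           | (norm_num at hp; done))
  rcases hcases with hq' | hq' | hq'
  · exact Or.inl ((H37.PSL2_four_mulEquiv_alternating
      (by rw [Nat.card_eq_fintype_card]; exact hq')).map e.trans)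
  · exact Or.inl ((H37.PSL2_five_mulEquiv_alternating hq').map e.trans)
  · exact Or.inr ((H37.PSL2_nine_mulEquiv_alternating hq').map e.trans)

/-- A Suzuki group has an element of order greater than five. -/
theorem not_isSuzuki {M : Type u} [Group M] [Finite M] (h : Hyp M) : ¬ Cfsg.IsSuzuki M := by
  rintro ⟨-, m, hm, hcard⟩
  set q := 2 ^ (2 * m + 1) with hq
  have h8 : 8 ≤ q :=
    calc 8 = 2 ^ 3 := by norm_num
      _ ≤ q := Nat.pow_le_pow_right two_pos (by omega)
  obtain ⟨r, hr, hrd⟩ := Nat.exists_prime_and_dvd (show q - 1 ≠ 1 by omega)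
  have hrM : r ∣ Nat.card M := hcard ▸ hrd.mul_left _
  have hq' : q = 2 * 4 ^ m := by rw [hq, pow_succ, pow_mul]; ring
  rcases prime_cases h hr hrM with rfl | rfl | rfl
  · have : 2 ∣ q := ⟨4 ^ m, hq'⟩
    omega
  · have : (4 : ℕ) ^ m % 3 = 1 := by rw [Nat.pow_mod]; simp
    omega
  · have : (4 : ℕ) ^ m % 5 = 1 ∨ (4 : ℕ) ^ m % 5 = 4 := by
      clear hcard hrd hrM hq hq' h8 hm
      induction m with
      | zero => simp
      | succ m ih => rw [pow_succ, Nat.mul_mod]; rcases ih with e | e <;> rw [e] <;> norm_num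
    omega

variable {G : Type u} [Group G] [Finite G] [IsSimpleGroup G]

theorem two_dvd_card (hc : ¬ IsMulCommutative G) : 2 ∣ Nat.card G := by
  by_contra h2
  exact hc (comm_of_solvable_simple (H16.FT.oddOrder (Nat.odd_iff.2 (by omega))))

/-- An isolated involution is impossible in a simple group. -/
theorem not_isolated (hc : ¬ IsMulCommutative G) (P : Sylow 2 G) {t : G} (ht : orderOf t = 2)
    (htP : t ∈ P) : ∃ g : G, g * t * g⁻¹ ∈ P ∧ g * t * g⁻¹ ≠ t := by
  by_contra hcon
  push Not at hcon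
  have hz := H85.zStar (H85.isolated_of_sylow P ht htP hcon)
  have hO : Cfsg.pPrimeCore 2 G = ⊥ := by
    haveI hn : (Cfsg.pPrimeCore 2 G).Normal := sSup_normal _ fun N hN => hN.1
    rcases hn.eq_bot_or_eq_top with h | h
    · exact h
    · exfalso
      have hodd := H85.odd_orderOf_of_mem_core (G := G) (w := t) (h ▸ mem_top t)
      rw [ht] at hodd
      exact absurd hodd (by decide)
  have htc : t ∈ center G := by
    rw [mem_center_iff]
    intro g
    have := hz g
    rw [hO, mem_bot, mul_inv_eq_one, mul_inv_eq_iff_eq_mul] at this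
    exact this.symm
  rw [H62.center_eq_bot_of_simple hc, mem_bot] at htc
  rw [htc, orderOf_one] at ht
  norm_num at ht

theorem ti_case (hc : ¬ IsMulCommutative G) (h : Hyp G)
    (hti : ∀ S T : Sylow 2 G, S ≠ T → (S : Subgroup G) ⊓ T = ⊥) :
    Nonempty (G ≃* ↥(alternatingGroup (Fin 5))) ∨ Nonempty (G ≃* ↥(alternatingGroup (Fin 6))) := by
  classical
  haveI : Fact (Nat.Prime 2) := ⟨Nat.prime_two⟩
  haveI : Fact (Nat.Prime 3) := ⟨Nat.prime_three⟩
  obtain ⟨S⟩ : Nonempty (Sylow 2 G) := inferInstance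
  set H := normalizer ((S : Subgroup G) : Set G) with hH
  have h2G := two_dvd_card hc
  have hSH : (S : Subgroup G) ≤ H := le_normalizer
  have hS1 : (S : Subgroup G) ≠ ⊥ := S.ne_bot_of_dvd_card h2G
  have hHne : H ≠ ⊤ := H62.normalizer_sylow_ne_top hc h2G S
  -- 2-subgroups of `H` lie in `S`
  have h2S : ∀ x ∈ H, IsPGroup 2 (zpowers x) → x ∈ (S : Subgroup G) := fun x hx hx2 => by
    have hsup : IsPGroup 2 (zpowers x ⊔ S : Subgroup G) :=
      IsPGroup.to_sup_of_normal_right' hx2 S.isPGroup' (zpowers_le.2 hx)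
    exact S.3 hsup le_sup_right ▸ mem_sup_left (mem_zpowers x)
  have hinvS : ∀ x ∈ H, orderOf x = 2 → x ∈ (S : Subgroup G) := fun x hx ho =>
    h2S x hx (IsPGroup.of_card (n := 1) (by rw [Nat.card_zpowers, ho, pow_one]))
  have hconjS : ∀ g : G, g ∉ H → (S : Subgroup G) ⊓ (g • S : Sylow 2 G) = ⊥ := fun g hg =>
    hti S (g • S) fun e => hg (Sylow.smul_eq_iff_mem_normalizer.1 e.symm)
  -- an involution of `H` outside which conjugates meet `H` trivially
  have hsep : ∀ g : G, g ∉ H → ∀ x : G, orderOf x = 2 → x ∈ H → g⁻¹ * x * g ∈ H → False := by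
    intro g hg x hx hxH hgx
    have h1 := hinvS x hxH hx
    have h2 := hinvS _ hgx (by
      have := H65.two_conj hx g⁻¹
      rwa [inv_inv] at this)
    have hmem : x ∈ ((g • S : Sylow 2 G) : Subgroup G) := by
      rw [Sylow.coe_subgroup_smul, mem_pointwise_smul_iff_inv_smul_mem, MulAut.smul_def,
        MulAut.conj_inv_apply]
      exact h2
    have := hconjS g hg ▸ mem_inf.2 ⟨h1, hmem⟩
    rw [mem_bot] at this
    rw [this, orderOf_one] at hx
    norm_num at hx
  have hse : Cfsg.IsStronglyEmbedded H := by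
    refine ⟨hHne, even_iff_two_dvd.2 ((S.dvd_card_of_dvd_card h2G).trans (card_dvd_of_le hSH)),
      fun g hg => ?_⟩
    by_contra heven
    rw [Nat.not_odd_iff_even, even_iff_two_dvd] at heven
    obtain ⟨⟨x, hx⟩, hxo⟩ := exists_prime_orderOf_dvd_card' 2 heven
    rw [Subgroup.orderOf_mk] at hxo
    obtain ⟨hxH, y, hyH, hxy⟩ := hx
    change g * y * g⁻¹ = x at hxy
    exact hsep g hg x hxo hxH (by rw [← hxy]; simpa [mul_assoc] using hyH)
  have hcent : ∀ t ∈ H, orderOf t = 2 → centralizer ({t} : Set G) ≤ (S : Subgroup G) := by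
    intro t htH ht
    have ht1 : t ≠ 1 := fun e => by rw [e, orderOf_one] at ht; norm_num at ht
    have hp := cent_isPGroup h ht1 (p := 2) ⟨1, by rw [pow_one, ht]⟩
    obtain ⟨T, hT⟩ := hp.exists_le_sylow
    have htT : t ∈ (T : Subgroup G) := hT (mem_centralizer_singleton_iff.2 rfl)
    by_cases hTS : T = S
    · exact hTS ▸ hT
    · exact absurd (mem_inf.2 ⟨htT, hinvS t htH ht⟩) (by rw [hti T S hTS, mem_bot]; exact ht1)
  -- an involution outside `H`
  obtain ⟨u, hu, huH⟩ : ∃ u : G, orderOf u = 2 ∧ u ∉ H := by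
    by_contra hcon
    push Not at hcon
    obtain ⟨g, hg⟩ : ∃ g : G, g ∉ H := by
      by_contra hall
      push Not at hall
      exact hHne (eq_top_iff.2 fun g _ => hall g)
    obtain ⟨⟨t, htS⟩, ht⟩ := exists_prime_orderOf_dvd_card' (G := (S : Subgroup G)) 2
      (S.dvd_card_of_dvd_card h2G)
    rw [Subgroup.orderOf_mk] at ht
    exact hsep g hg t ht (hSH htS) (hcon _ (by
      have := H65.two_conj ht g⁻¹
      rwa [inv_inv] at this))
  -- involutions of `S`
  set D := H ⊓ H.map (MulAut.conj u).toMonoidHom with hD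
  have htrans : ∀ s t : G, orderOf s = 2 → s ∈ H → orderOf t = 2 → t ∈ H →
      ∃ d ∈ D, d * s * d⁻¹ = t := fun s t hs hsH ht htH =>
    (Cfsg.Agent.S1225.result H hse u hu huH s t hs hsH ht htH).1
  obtain ⟨⟨t₀, ht₀S⟩, ht₀c, ht₀⟩ : ∃ t : (S : Subgroup G), t ∈ center (S : Subgroup G) ∧ orderOf t = 2 := by
    haveI : Nontrivial (S : Subgroup G) := (nontrivial_iff_ne_bot _).2 hS1
    haveI := S.isPGroup'.center_nontrivial
    obtain ⟨k, hk⟩ := IsPGroup.iff_card.1 (S.isPGroup'.to_subgroup (center (S : Subgroup G)))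
    have h1 : 1 < Nat.card (center (S : Subgroup G)) := Finite.one_lt_card
    have hk0 : k ≠ 0 := fun e => by rw [hk, e, pow_zero] at h1; omega
    obtain ⟨⟨c, hcc⟩, hco⟩ := exists_prime_orderOf_dvd_card' (G := center (S : Subgroup G)) 2
      (hk ▸ dvd_pow_self 2 hk0)
    exact ⟨c, hcc, by rwa [Subgroup.orderOf_mk] at hco⟩
  rw [Subgroup.orderOf_mk] at ht₀
  have ht₀H : t₀ ∈ H := hSH ht₀S
  have hallc : ∀ t : G, orderOf t = 2 → t ∈ H → ∀ s ∈ (S : Subgroup G), s * t = t * s := by
    intro t ht htH s hs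
    obtain ⟨d, hd, rfl⟩ := htrans t₀ t ht₀ ht₀H ht htH
    have hds : d⁻¹ * s * d ∈ (S : Subgroup G) := by
      have := (mem_normalizer_iff.1 (inv_mem hd.1) s).1 hs
      simpa using this
    have := congrArg Subtype.val ((mem_center_iff.1 ht₀c) ⟨_, hds⟩)
    simp only [Subgroup.coe_mul] at this
    calc s * (d * t₀ * d⁻¹) = d * ((d⁻¹ * s * d) * t₀) * d⁻¹ := by group
      _ = d * (t₀ * (d⁻¹ * s * d)) * d⁻¹ := by rw [this]
      _ = _ := by group
  -- `[H : S] = 3`
  set r := (S : Subgroup G).relIndex H with hr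
  have hHS : Nat.card H = Nat.card (S : Subgroup G) * r := by
    rw [hr, ← relIndex_bot_left, ← relIndex_bot_left (S : Subgroup G),
      relIndex_mul_relIndex ⊥ (S : Subgroup G) H bot_le hSH]
  have hrodd : ¬ 2 ∣ r := by
    intro h2
    exact S.not_dvd_index (h2.trans (relIndex_dvd_index_of_le hSH))
  haveI hSn : ((S : Subgroup G).subgroupOf H).Normal := normal_in_normalizer
  have hr15 : r ∣ 15 ∧ r ≠ 15 := by
    set X := H ⧸ (S : Subgroup G).subgroupOf H
    have hXc : Nat.card X = r := rfl
    have hX : Hyp X := (h.subgroup H).quotient _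
    have hpr : ∀ p : ℕ, p.Prime → p ∣ r → p = 3 ∨ p = 5 := fun p hp hd => by
      rcases prime_cases hX hp (hXc ▸ hd) with rfl | e
      · exact absurd hd hrodd
      · exact e
    have hsq : ∀ p : ℕ, p.Prime → ¬ p ^ 2 ∣ r := by
      intro p hp hd
      haveI := Fact.mk hp
      have hp2 : p ≠ 2 := fun e => hrodd (e ▸ (dvd_pow_self p two_ne_zero).trans hd)
      obtain ⟨P⟩ : Nonempty (Sylow p H) := inferInstance
      have h1 : p ^ 2 ∣ Nat.card (P : Subgroup H) :=
        P.pow_dvd_card_of_pow_dvd_card (hd.trans (hHS ▸ dvd_mul_left r _))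
      have h2 := card_dvd_of_normalizes h hp2 (P := (P : Subgroup H).map H.subtype) (Q := (S : Subgroup G))
        (P.isPGroup'.map _) S.isPGroup' hS1 (map_subtype_le _)
      rw [Subgroup.card_subtype] at h2
      have := Nat.le_of_dvd hp.pos (h1.trans h2)
      nlinarith [hp.two_le]
    refine ⟨?_, ?_⟩
    · have hr0 : r ≠ 0 := fun e => by
        rw [e, mul_zero] at hHS
        exact (Nat.card_pos (α := H)).ne' hHS
      rw [← Nat.factorization_le_iff_dvd hr0 (by norm_num)]
      intro p
      by_cases hp : p.Prime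
      swap
      · simp [Nat.factorization_eq_zero_of_not_prime _ hp]
      by_cases hpd : p ∣ r
      swap
      · simp [Nat.factorization_eq_zero_of_not_dvd hpd]
      have h1 : r.factorization p ≤ 1 := by
        by_contra hgt
        exact hsq p hp ((hp.pow_dvd_iff_le_factorization hr0).2 (by omega))
      have h2 : 1 ≤ (15 : ℕ).factorization p :=
        hp.factorization_pos_of_dvd (by norm_num) (by rcases hpr p hp hpd with rfl | rfl <;> norm_num)
      omega
    · intro e
      haveI : Fact (Nat.Prime 5) := ⟨Nat.prime_five⟩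
      rw [e] at hXc
      obtain ⟨P⟩ : Nonempty (Sylow 3 X) := inferInstance
      have hP : Nat.card (P : Subgroup X) = 3 := by
        rw [H62.card_sylow_coe (p := 3) (a := 1) (m := 5) (by rw [hXc]; norm_num) (by norm_num) P,
          pow_one]
      obtain ⟨a, r', hr', hN⟩ := card_normalizer_prime hX hP
      have hd := card_subgroup_dvd_card (normalizer ((P : Subgroup X) : Set X))
      have hn := H62.card_normalizer_mul P
      have hmod := H62.card_sylow_mod (G := X) (p := 3)
      rw [hN, hXc] at hd hn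
      have hr2 : r' = 1 := by
        rcases (Nat.dvd_prime Nat.prime_two).1 hr' with e' | e'
        · exact e'
        · rw [e'] at hd
          exact absurd ((dvd_mul_left 2 (3 ^ a)).trans hd) (by norm_num)
      subst hr2
      rw [mul_one] at hd hn
      have ha : a ≤ 1 := by
        by_contra ha
        exact absurd ((Nat.pow_dvd_pow 3 (show 2 ≤ a by omega)).trans hd) (by norm_num)
      interval_cases a <;> omega
  -- the involutions of `H`
  set I := {t : G // orderOf t = 2 ∧ t ∈ H} with hI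
  have hstab : ∀ t : G, orderOf t = 2 → t ∈ H → H ⊓ centralizer {t} = (S : Subgroup G) := by
    intro t ht htH
    exact le_antisymm (inf_le_right.trans (hcent t htH ht))
      (le_inf hSH fun s hs => mem_centralizer_singleton_iff.2 (hallc t ht htH s hs))
  have hIcard : Nat.card I = r := by
    let f : H ⧸ (S : Subgroup G).subgroupOf H → I := fun q =>
      Quotient.liftOn' q (fun x => ⟨x * t₀ * (x : G)⁻¹, H65.two_conj ht₀ _,
        mul_mem (mul_mem x.2 ht₀H) (inv_mem x.2)⟩) (by
        intro x y hxy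
        rw [QuotientGroup.leftRel_apply, mem_subgroupOf] at hxy
        apply Subtype.ext
        have := hallc t₀ ht₀ ht₀H _ hxy
        simp only [Subgroup.coe_mul, Subgroup.coe_inv] at this
        calc (x : G) * t₀ * (x : G)⁻¹ = (x : G) * (t₀ * ((x : G)⁻¹ * y)) * (y : G)⁻¹ := by group
          _ = (x : G) * (((x : G)⁻¹ * y) * t₀) * (y : G)⁻¹ := by rw [this]
          _ = _ := by group)
    have hf : Function.Bijective f := by
      constructor
      · intro p q hpq
        induction p using QuotientGroup.induction_on with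
        | H x =>
          induction q using QuotientGroup.induction_on with
          | H y =>
            have e : (x : G) * t₀ * (x : G)⁻¹ = (y : G) * t₀ * (y : G)⁻¹ := congrArg Subtype.val hpq
            rw [QuotientGroup.eq, mem_subgroupOf]
            apply hcent t₀ ht₀H ht₀
            rw [mem_centralizer_singleton_iff]
            simp only [Subgroup.coe_mul, Subgroup.coe_inv]
            calc (x : G)⁻¹ * y * t₀ = (x : G)⁻¹ * ((y : G) * t₀ * (y : G)⁻¹) * y := by group
              _ = (x : G)⁻¹ * ((x : G) * t₀ * (x : G)⁻¹) * y := by rw [e]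
              _ = _ := by group
      · rintro ⟨t, ht, htH⟩
        obtain ⟨d, hd, rfl⟩ := htrans t₀ t ht₀ ht₀H ht htH
        exact ⟨QuotientGroup.mk ⟨d, hd.1⟩, rfl⟩
    exact (Nat.card_eq_of_bijective f hf).symm
  have hr3 : r = 3 := by
    obtain ⟨hr15, hrne⟩ := hr15
    -- the involutions with `1` form a subgroup
    set Om : Subgroup G :=
      { carrier := {x | x * x = 1 ∧ x ∈ (S : Subgroup G)}
        one_mem' := ⟨one_mul 1, one_mem _⟩
        mul_mem' := fun {x y} hx hy => ⟨by
            by_cases hx1 : x = 1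
            · simp [hx1, hy.1]
            by_cases hy1 : y = 1
            · simp [hy1, hx.1]
            have hc' := hallc y (orderOf_eq_prime (by rw [sq]; exact hy.1) hy1) (hSH hy.2) x hx.2
            rw [← sq, (show Commute x y from hc').mul_pow, sq, sq, hx.1, hy.1, one_mul],
          mul_mem hx.2 hy.2⟩
        inv_mem' := fun {x} hx => ⟨by rw [← mul_inv_rev, hx.1, inv_one], inv_mem hx.2⟩ } with hOm
    have hOI : Nat.card Om = Nat.card I + 1 := by
      let e : Option I ≃ Om :=
        { toFun := fun o => o.elim 1 fun t =>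
            ⟨t.1, H65.mul_self_of_two t.2.1, hinvS t.1 t.2.2 t.2.1⟩
          invFun := fun x => if hx : (x : G) = 1 then none else
            some ⟨x, orderOf_eq_prime (by rw [sq]; exact x.2.1) hx, hSH x.2.2⟩
          left_inv := fun o => by
            cases o with
            | none => simp
            | some t =>
              have : t.1 ≠ 1 := fun e' => by
                have := t.2.1; rw [e', orderOf_one] at this; norm_num at this
              simp [this]
          right_inv := fun x => by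
            by_cases hx : (x : G) = 1
            · simp only [hx, dite_true, Option.elim]; exact Subtype.ext hx.symm
            · simp [hx] }
      rw [← Nat.card_congr e, Finite.card_option]
    obtain ⟨k, hk⟩ := IsPGroup.iff_card.1 (show IsPGroup 2 Om from
      fun x => ⟨1, Subtype.ext (by simpa [sq] using x.2.1)⟩)
    rw [hOI, hIcard] at hk
    have hdiv : r ∈ (15 : ℕ).divisors := Nat.mem_divisors.2 ⟨hr15, by norm_num⟩
    rw [show (15 : ℕ).divisors = {1, 3, 5, 15} from rfl] at hdiv
    simp only [Finset.mem_insert, Finset.mem_singleton] at hdiv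
    rcases hdiv with e | e | e | e
    · exfalso
      obtain ⟨g, hg, hgne⟩ := not_isolated hc S ht₀ ht₀S
      have h1 : Nat.card I = 1 := hIcard.trans e
      obtain ⟨hsub, -⟩ := Nat.card_eq_one_iff_unique.1 h1
      exact hgne (congrArg Subtype.val (hsub.allEq
        (⟨_, H65.two_conj ht₀ g, hSH hg⟩ : I) ⟨t₀, ht₀, ht₀H⟩))
    · exact e
    · exfalso
      rw [e] at hk
      have : (3 : ℕ) ∣ 2 ^ k := hk ▸ (by norm_num)
      exact absurd (Nat.prime_three.dvd_of_dvd_pow this) (by norm_num)
    · exact absurd e hrne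
  have hI3 : Nat.card I = 3 := hIcard.trans hr3
  -- odd subgroups of `H` have order dividing three
  have hodd3 : ∀ A : Subgroup G, A ≤ H → ¬ 2 ∣ Nat.card A → Nat.card A ∣ 3 := by
    intro A hA h2
    have hd := card_dvd_of_le hA
    rw [hHS, hr3] at hd
    obtain ⟨k, hk⟩ := IsPGroup.iff_card.1 S.isPGroup'
    refine Nat.Coprime.dvd_of_dvd_mul_left ?_ hd
    rw [hk]
    exact Nat.Coprime.pow_right _ (Nat.coprime_comm.1 (Nat.prime_two.coprime_iff_not_dvd.2 h2))
  -- action on cosets
  set x₀ : G ⧸ H := QuotientGroup.mk (1 : G) with hx₀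
  have hfix : ∀ g : G, g • x₀ = x₀ ↔ g ∈ H := fun g => by
    rw [hx₀, MulAction.Quotient.smul_mk, QuotientGroup.eq]
    simp
  have hswap : ∀ x y : G ⧸ H, x ≠ y → ∃ v : G, orderOf v = 2 ∧ v • x = y := by
    intro x y hxy
    have hS := Cfsg.Agent.S1224.result H hse x y hxy
    have hpos : 0 < Nat.card {i : G // orderOf i = 2 ∧ i • x = y} := by rw [hS, ← hI, hI3]; norm_num
    obtain ⟨v⟩ := (Nat.card_pos_iff.1 hpos).1
    exact ⟨v.1, v.2⟩
  -- two-point stabilisers have order three
  have htwo : ∀ y : G ⧸ H, y ≠ x₀ → Nat.card ↥(H ⊓ MulAction.stabilizer G y) = 3 := by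
    intro y hy
    obtain ⟨v, hv, hvy⟩ := hswap x₀ y (Ne.symm hy)
    have hvH : v ∉ H := fun hv' => hy (hvy.symm.trans ((hfix v).2 hv'))
    have hstab : MulAction.stabilizer G y = H.map (MulAut.conj v).toMonoidHom := by
      rw [← hvy, MulAction.stabilizer_smul_eq_stabilizer_map_conj]
      congr 1
      ext g
      exact hfix g
    rw [hstab]
    have h2 : ¬ 2 ∣ Nat.card ↥(H ⊓ H.map (MulAut.conj v).toMonoidHom) := by
      rw [← even_iff_two_dvd, Nat.not_even_iff_odd]; exact hse.2.2 v hvH
    rcases (Nat.dvd_prime Nat.prime_three).1 (hodd3 _ inf_le_left h2) with e | e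
    · exfalso
      obtain ⟨⟨t₁, ht₁⟩, hne⟩ : ∃ t : I, t ≠ ⟨t₀, ht₀, ht₀H⟩ := by
        by_contra hcon
        push Not at hcon
        haveI : Subsingleton I := ⟨fun a b => (hcon a).trans (hcon b).symm⟩
        have := Finite.card_le_one_iff_subsingleton.2 (inferInstance : Subsingleton I)
        omega
      obtain ⟨d, hd, hdt⟩ := (Cfsg.Agent.S1225.result H hse v hv hvH t₀ t₁ ht₀ ht₀H ht₁.1 ht₁.2).1
      rw [Subgroup.card_eq_one] at e
      rw [e, mem_bot] at hd
      exact hne (Subtype.ext (show t₁ = t₀ by rw [← hdt, hd]; group))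
    · exact e
  obtain ⟨y₀, hy₀⟩ : ∃ y : G ⧸ H, y ≠ x₀ :=
    ⟨QuotientGroup.mk u, fun e => huH (by rwa [hx₀, eq_comm, QuotientGroup.eq, inv_one, one_mul] at e)⟩
  set K := H ⊓ MulAction.stabilizer G y₀ with hK
  have hK3 : Nat.card K = 3 := htwo y₀ hy₀
  obtain ⟨⟨k, hkK⟩, hk⟩ := exists_prime_orderOf_dvd_card' (G := K) 3 (dvd_of_eq hK3.symm)
  rw [Subgroup.orderOf_mk] at hk
  have hk1 : k ≠ 1 := fun e => by rw [e, orderOf_one] at hk; norm_num at hk
  have hKk : K = zpowers k := (eq_of_le_of_card_ge (zpowers_le.2 hkK)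
    (by rw [hK3, Nat.card_zpowers, hk])).symm
  -- Sylow 3-subgroups of `H` are conjugate to `K`
  have hconj : ∀ B : Subgroup G, B ≤ H → Nat.card B = 3 →
      ∃ g ∈ H, B = K.map (MulAut.conj g).toMonoidHom := by
    intro B hB hB3
    obtain ⟨g, hg, hgB⟩ := H78.sylow_conj_in (p := 3) (IsPGroup.of_card (n := 1) (by rw [hK3, pow_one]))
      (show K ≤ H from inf_le_left)
      (by
        rw [← relIndex_bot_left] at hK3
        have := relIndex_mul_relIndex ⊥ K H bot_le inf_le_left
        rw [hK3, relIndex_bot_left, hHS, hr3] at this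
        intro h3
        have h9 : 3 * 3 ∣ Nat.card (S : Subgroup G) * 3 := this ▸ mul_dvd_mul_left 3 h3
        obtain ⟨j, hj⟩ := IsPGroup.iff_card.1 S.isPGroup'
        rw [hj] at h9
        exact absurd (Nat.prime_three.dvd_of_dvd_pow (Nat.dvd_of_mul_dvd_mul_right (by norm_num) h9))
          (by norm_num))
      (IsPGroup.of_card (n := 1) (by rw [hB3, pow_one])) hB (by rw [hB3, hK3])
    exact ⟨g, hg, hgB.symm⟩
  set N := normalizer (K : Set G) with hN
  set F := {y : G ⧸ H // k • y = y} with hF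
  have hfixK : ∀ y : G ⧸ H, k • y = y → K ≤ MulAction.stabilizer G y := fun y hy => by
    rw [hKk]; exact zpowers_le.2 hy
  have hNF : ∀ n ∈ N, ∀ y : G ⧸ H, k • y = y → k • (n • y) = n • y := by
    intro n hn y hy
    have : n⁻¹ * k * n ∈ K := by
      have := (mem_normalizer_iff.1 (inv_mem hn) k).1 hkK
      simpa using this
    have h1 : (n⁻¹ * k * n) • y = y := hfixK y hy this
    calc k • n • y = n • (n⁻¹ * k * n) • y := by rw [← mul_smul, ← mul_smul]; congr 1; group
      _ = n • y := by rw [h1]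
  have hNtrans : ∀ y : G ⧸ H, k • y = y → ∃ n ∈ N, n • x₀ = y := by
    intro y hy
    obtain ⟨g, rfl⟩ := QuotientGroup.mk_surjective y
    have hB : K.map (MulAut.conj g⁻¹).toMonoidHom ≤ H := by
      rintro _ ⟨w, hw, rfl⟩
      have hw' : w • (QuotientGroup.mk g : G ⧸ H) = QuotientGroup.mk g := hfixK _ hy hw
      rw [MulAction.Quotient.smul_mk, QuotientGroup.eq] at hw'
      show g⁻¹ * w * g⁻¹⁻¹ ∈ H
      rw [inv_inv]
      have := inv_mem hw'
      convert this using 1
      rw [smul_eq_mul]; group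
    obtain ⟨hh, hhH, hhK⟩ := hconj _ hB
      (by rw [Subgroup.card_map_of_injective (MulAut.conj g⁻¹).injective, hK3])
    refine ⟨g * hh, ?_, ?_⟩
    · have hmap : K.map (MulAut.conj (g * hh)).toMonoidHom = K := by
        rw [map_mul, show ((MulAut.conj g * MulAut.conj hh : MulAut G)).toMonoidHom =
          (MulAut.conj g).toMonoidHom.comp (MulAut.conj hh).toMonoidHom from rfl, ← Subgroup.map_map,
          ← hhK, Subgroup.map_map]
        convert Subgroup.map_id K
        ext w
        simp
        group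
      rw [hN, mem_normalizer_iff]
      intro w
      constructor
      · intro hw
        rw [← hmap]
        exact ⟨w, hw, rfl⟩
      · intro hw
        rw [← hmap] at hw
        obtain ⟨w', hw', e⟩ := hw
        rwa [← (MulAut.conj (g * hh)).injective e]
    · rw [hx₀, MulAction.Quotient.smul_mk, smul_eq_mul, mul_one, QuotientGroup.eq]
      simpa using hhH
  have hNH : H ⊓ N = K := by
    refine (eq_of_le_of_card_ge (le_inf inf_le_left le_normalizer) ?_).symm
    rw [hK3]
    refine Nat.le_of_dvd (by norm_num) (hodd3 _ inf_le_left ?_)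
    intro h2
    obtain ⟨⟨s, hsm⟩, hs⟩ := exists_prime_orderOf_dvd_card' (G := ↥(H ⊓ N)) 2 h2
    rw [Subgroup.orderOf_mk] at hs
    obtain ⟨hsH, hsN⟩ := hsm
    have hsS := hinvS s hsH hs
    have hks : Commute k s := by
      have hdis : Disjoint (S : Subgroup G) K :=
        IsPGroup.disjoint_of_ne 2 3 (by norm_num) _ _ S.isPGroup' (IsPGroup.of_card (n := 1) (by rw [hK3, pow_one]))
      have h1 : k * s * k⁻¹ * s⁻¹ ∈ (S : Subgroup G) :=
        mul_mem ((mem_normalizer_iff.1 (show k ∈ H from hkK.1) s).1 hsS) (inv_mem hsS)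
      have h2 : k * s * k⁻¹ * s⁻¹ ∈ K := by
        have : k * (s * k⁻¹ * s⁻¹) ∈ K :=
          mul_mem hkK ((mem_normalizer_iff.1 hsN _).1 (inv_mem hkK))
        convert this using 1; group
      exact commutatorElement_eq_one_iff_commute.1 (Subgroup.disjoint_def.1 hdis h1 h2)
    have := fpf h S.isPGroup' Nat.prime_three (by norm_num) hk hsS hks
    rw [this, orderOf_one] at hs; norm_num at hs
  -- the number of fixed points
  have hx₀F : k • x₀ = x₀ := (hfix k).2 hkK.1
  have hNcard : Nat.card N = 3 * Nat.card F := by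
    let f : N ⧸ H.subgroupOf N → F := fun q =>
      Quotient.liftOn' q (fun n => ⟨(n : G) • x₀, hNF n n.2 x₀ hx₀F⟩) (by
        intro a b hab
        rw [QuotientGroup.leftRel_apply, mem_subgroupOf] at hab
        apply Subtype.ext
        calc (a : G) • x₀ = (a : G) • (((a : G)⁻¹ * b) • x₀) := by
              rw [(hfix ((a : G)⁻¹ * b)).2 (by simpa using hab)]
          _ = (b : G) • x₀ := by rw [← mul_smul, mul_inv_cancel_left])
    have hf : Function.Bijective f := by
      constructor
      · intro p q hpq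
        induction p using QuotientGroup.induction_on with
        | H a =>
          induction q using QuotientGroup.induction_on with
          | H b =>
            have e : (a : G) • x₀ = (b : G) • x₀ := congrArg Subtype.val hpq
            rw [QuotientGroup.eq, mem_subgroupOf]
            apply (hfix _).1
            simp only [Subgroup.coe_mul, Subgroup.coe_inv]
            rw [mul_smul, ← e, inv_smul_smul]
      · rintro ⟨y, hy⟩
        obtain ⟨n, hn, rfl⟩ := hNtrans y hy
        exact ⟨QuotientGroup.mk ⟨n, hn⟩, rfl⟩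
    have h1 : Nat.card (H.subgroupOf N) = 3 := by
      rw [← hK3, ← hNH, inf_comm H N, ← Subgroup.inf_subgroupOf_left H N]
      exact Nat.card_congr (subgroupOfEquivOfLe inf_le_left).toEquiv
    rw [card_eq_card_quotient_mul_card_subgroup (H.subgroupOf N), h1,
      Nat.card_eq_of_bijective f hf, mul_comm]
  obtain ⟨a, rr, hrr, hNN⟩ := card_normalizer_prime h hK3
  -- involutions of `N`
  set J := {v : G // orderOf v = 2 ∧ v ∈ N} with hJ
  have hinvk : ∀ v : J, (v : G) * k * (v : G)⁻¹ = k⁻¹ := fun v =>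
    inverts h (by norm_num) hk (H65.mul_self_of_two v.2.1) (H65.ne_one_of_two v.2.1)
      (hKk ▸ (mem_normalizer_iff.1 v.2.2 k).1 hkK)
  set R := centralizer (K : Set G) with hR
  have hNR : ∀ v : J, Nat.card N = 2 * Nat.card R := fun v => by
    have h1 := relIndex_mul_relIndex ⊥ R N bot_le (centralizer_le_normalizer _)
    rw [relIndex_bot_left, relIndex_bot_left] at h1
    rcases (Nat.dvd_prime Nat.prime_two).1 (H62.relIndex_centralizer_dvd_prime (p := 3) K hK3)
      with e | e
    · exfalso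
      have hv := relIndex_eq_one.1 e v.2.2
      have h3 : k * v.1 = v.1 * k := mem_centralizer_iff.1 hv k hkK
      have h4 := hinvk v
      rw [← h3, mul_inv_cancel_right] at h4
      have h5 : orderOf k ∣ 2 := orderOf_dvd_of_pow_eq_one (by
        rw [sq]; nth_rewrite 2 [h4]; exact mul_inv_cancel k)
      rw [hk] at h5
      norm_num at h5
    · rw [← h1, e, mul_comm]
  have hJR : ∀ v₀ : J, Nat.card J ≤ Nat.card R := by
    intro v₀
    refine Nat.card_le_card_of_injective (fun v : J => (⟨(v : G) * v₀, ?_⟩ : R)) ?_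
    · rw [hR, hKk, mem_centralizer_iff]
      have hcom : Commute k ((v : G) * v₀) := by
        have : (v : G) * v₀ * k * ((v : G) * v₀)⁻¹ = k := by
          calc (v : G) * v₀ * k * ((v : G) * v₀)⁻¹ = (v : G) * ((v₀ : G) * k * (v₀ : G)⁻¹) * (v : G)⁻¹ := by group
            _ = ((v : G) * k * (v : G)⁻¹)⁻¹ := by rw [hinvk v₀]; group
            _ = k := by rw [hinvk v, inv_inv]
        exact (mul_inv_eq_iff_eq_mul.1 this).symm
      intro w hw
      obtain ⟨i, rfl⟩ := mem_zpowers_iff.1 hw
      exact (hcom.zpow_left i).eq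
    · intro v w e
      exact Subtype.ext (mul_right_cancel (congrArg Subtype.val e))
  -- swappers
  set F' := {y : F // y.1 ≠ x₀} with hF'
  set W := (y : F') × {i : G // orderOf i = 2 ∧ i • x₀ = y.1.1} with hW
  have hWJ : ∀ w : W, w.2.1 ∈ N := by
    rintro ⟨⟨⟨y, hy⟩, hyne⟩, v, hv, hvx⟩
    change y ≠ x₀ at hyne
    change v • x₀ = y at hvx
    show v ∈ N
    have hvy : v • y = x₀ := by rw [← hvx, ← mul_smul, H65.mul_self_of_two hv, one_smul]
    have hKy : K = H ⊓ MulAction.stabilizer G y :=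
      eq_of_le_of_card_ge (le_inf inf_le_left (hfixK y hy)) (by rw [hK3, htwo y hyne])
    rw [hN, mem_normalizer_iff]
    have key : ∀ w ∈ K, v * w * v⁻¹ ∈ K := by
      intro w hw
      rw [hKy] at hw ⊢
      have hw1 : w • x₀ = x₀ := (hfix w).2 hw.1
      have hw2 : w • y = y := hw.2
      have hvi : v⁻¹ = v := H65.inv_of_two hv
      refine ⟨(hfix _).1 ?_, ?_⟩
      · rw [hvi, mul_smul, mul_smul, hvx, hw2, hvy]
      · show (v * w * v⁻¹) • y = y
        rw [hvi, mul_smul, mul_smul, hvy, hw1, hvx]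
    intro w
    refine ⟨key w, fun hw => ?_⟩
    have := key _ hw
    have hvv := H65.mul_self_of_two hv
    rw [H65.inv_of_two hv] at this
    have e : v * (v * w * v) * v = w := by
      calc v * (v * w * v) * v = (v * v) * w * (v * v) := by group
        _ = w := by rw [hvv, one_mul, mul_one]
    rwa [e] at this
  have hWinj : Function.Injective (fun w : W => (⟨w.2.1, w.2.2.1, hWJ w⟩ : J)) := by
    rintro ⟨y, v, hv, hvx⟩ ⟨z, v', hv', hvx'⟩ e
    have e' : v = v' := congrArg Subtype.val e
    subst e'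
    obtain rfl : y = z := Subtype.ext (Subtype.ext (hvx.symm.trans hvx'))
    rfl
  have hWcard : Nat.card W = Nat.card F' * 3 := by
    haveI : Fintype F' := Fintype.ofFinite _
    rw [hW, Nat.card_sigma]
    have : ∀ y : F', Nat.card {i : G // orderOf i = 2 ∧ i • x₀ = y.1.1} = 3 := fun y => by
      rw [Cfsg.Agent.S1224.result H hse x₀ y.1.1 (Ne.symm y.2), ← hI, hI3]
    simp [this, Nat.card_eq_fintype_card]
  have hF'card : Nat.card F' + 1 = Nat.card F := by
    have : F ≃ Option F' :=
      { toFun := fun y => if hy : y.1 = x₀ then none else some ⟨y, hy⟩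
        invFun := fun o => o.elim ⟨x₀, hx₀F⟩ Subtype.val
        left_inv := fun y => by
          by_cases hy : y.1 = x₀
          · simp [hy]; exact Subtype.ext hy.symm
          · simp [hy]
        right_inv := fun o => by
          cases o with
          | none => simp
          | some z => simp [z.2] }
    rw [Nat.card_congr this, Finite.card_option]
  have hy₀F : k • y₀ = y₀ := hkK.2
  have hF'pos : 0 < Nat.card F' := Nat.card_pos_iff.2 ⟨⟨⟨⟨y₀, hy₀F⟩, hy₀⟩⟩, inferInstance⟩
  have hF2 : Nat.card F' = 1 := by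
    obtain ⟨⟨⟨⟨y, hy⟩, hyne⟩, v⟩⟩ := (Nat.card_pos_iff.1 (show 0 < Nat.card W by omega)).1
    have h1 : Nat.card W ≤ Nat.card J := Nat.card_le_card_of_injective _ hWinj
    have h2 : Nat.card J ≤ Nat.card R := hJR ⟨v.1, v.2.1, hWJ ⟨⟨⟨y, hy⟩, hyne⟩, v⟩⟩
    have h3 := hNR ⟨v.1, v.2.1, hWJ ⟨⟨⟨y, hy⟩, hyne⟩, v⟩⟩
    omega
  have huniq : ∀ y : G ⧸ H, k • y = y → y ≠ x₀ → y = y₀ := by
    intro y hy hyne
    obtain ⟨hsub, -⟩ := Nat.card_eq_one_iff_unique.1 hF2
    exact congrArg (fun z : F' => z.1.1)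
      (hsub.allEq (⟨⟨y, hy⟩, hyne⟩ : F') ⟨⟨y₀, hy₀F⟩, hy₀⟩)
  -- `H` is transitive on the other points
  have hHtrans : ∀ y : G ⧸ H, y ≠ x₀ → ∃ g ∈ H, g • y₀ = y := by
    intro y hy
    obtain ⟨g, hg, hgK⟩ := hconj (H ⊓ MulAction.stabilizer G y) inf_le_left (htwo y hy)
    have hkfix : (g * k * g⁻¹) • y = y := by
      have : g * k * g⁻¹ ∈ H ⊓ MulAction.stabilizer G y := hgK ▸ ⟨k, hkK, rfl⟩
      exact this.2
    have h1 : k • (g⁻¹ • y) = g⁻¹ • y := by
      have := congrArg (g⁻¹ • ·) hkfix
      simp only [← mul_smul] at this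
      rw [← mul_smul]
      convert this using 2
      group
    have h2 : g⁻¹ • y ≠ x₀ := fun e => hy (by
      rw [inv_smul_eq_iff] at e
      rw [e, (hfix g).2 hg])
    exact ⟨g, hg, by rw [← huniq _ h1 h2, smul_inv_smul]⟩
  have htwoT : MulAction.IsMultiplyPretransitive G (G ⧸ H) 2 := by
    rw [MulAction.is_two_pretransitive_iff]
    have hto : ∀ a b : G ⧸ H, a ≠ b → ∃ g : G, g • x₀ = a ∧ g • y₀ = b := by
      intro a b hab
      obtain ⟨g, rfl⟩ := MulAction.exists_smul_eq G x₀ a
      obtain ⟨g', hg', hg''⟩ := hHtrans (g⁻¹ • b) (fun e => hab (by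
        rw [inv_smul_eq_iff] at e; exact e.symm))
      refine ⟨g * g', ?_, ?_⟩
      · rw [mul_smul, (hfix g').2 hg']
      · rw [mul_smul, hg'', smul_inv_smul]
    intro a b c d hab hcd
    obtain ⟨g, hg1, hg2⟩ := hto a b hab
    obtain ⟨g', hg1', hg2'⟩ := hto c d hcd
    exact ⟨g' * g⁻¹, by rw [mul_smul, ← hg1, inv_smul_smul, hg1'],
      by rw [mul_smul, ← hg2, inv_smul_smul, hg2']⟩
  have hZ : Cfsg.IsZassenhausGroup G (G ⧸ H) := by
    refine ⟨?_, htwoT, ?_, ⟨k, hk1, x₀, y₀, Ne.symm hy₀, hx₀F, hy₀F⟩, ?_⟩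
    · refine ⟨fun {g g'} hgg => ?_⟩
      have hker : (MulAction.toPermHom G (G ⧸ H)).ker = ⊥ := by
        rcases (inferInstance : (MulAction.toPermHom G (G ⧸ H)).ker.Normal).eq_bot_or_eq_top with e | e
        · exact e
        · exfalso
          have hu' : u ∈ (MulAction.toPermHom G (G ⧸ H)).ker := e ▸ mem_top u
          rw [MonoidHom.mem_ker] at hu'
          exact huH ((hfix u).1 (by
            have := congrArg (fun σ : Equiv.Perm (G ⧸ H) => σ x₀) hu'
            simpa using this))
      apply (MonoidHom.ker_eq_bot_iff _).1 hker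
      ext x
      exact hgg x
    · intro g a b c hab hbc hac hga hgb hgc
      have hto : ∀ a b : G ⧸ H, a ≠ b → ∃ g : G, g • x₀ = a ∧ g • y₀ = b := fun a b hab =>
        (MulAction.is_two_pretransitive_iff.1 htwoT) (Ne.symm hy₀) hab
      obtain ⟨w, hw1, hw2⟩ := hto a b hab
      set g' := w⁻¹ * g * w with hg'
      have e1 : g' • x₀ = x₀ := by rw [hg', mul_smul, mul_smul, hw1, hga, ← hw1, inv_smul_smul]
      have e2 : g' • y₀ = y₀ := by rw [hg', mul_smul, mul_smul, hw2, hgb, ← hw2, inv_smul_smul]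
      have hgK' : g' ∈ K := ⟨(hfix g').1 e1, e2⟩
      by_contra hg1
      have hg'1 : g' ≠ 1 := fun e => hg1 (by
        have : g = w * g' * w⁻¹ := by rw [hg']; group
        rw [this, e]; group)
      have hgen : K = zpowers g' := by
        refine (eq_of_le_of_card_ge (zpowers_le.2 hgK') ?_).symm
        have hd : orderOf g' ∣ 3 := hK3 ▸ by
          simpa using orderOf_dvd_natCard (⟨g', hgK'⟩ : K)
        rcases (Nat.dvd_prime Nat.prime_three).1 hd with e | e
        · exact absurd (orderOf_eq_one_iff.1 e) hg'1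
        · rw [hK3, Nat.card_zpowers, e]
      have hk' : k • (w⁻¹ • c) = w⁻¹ • c := by
        have hgc' : g' • (w⁻¹ • c) = w⁻¹ • c := by
          rw [hg', mul_smul, mul_smul, smul_inv_smul, hgc]
        obtain ⟨i, hi⟩ := mem_zpowers_iff.1 (hgen ▸ hkK : k ∈ zpowers g')
        rw [← hi]
        exact MulAction.mem_stabilizer_iff.1 (zpow_mem (MulAction.mem_stabilizer_iff.2 hgc') i)
      have hne : w⁻¹ • c ≠ x₀ := fun e => hac (by rw [← hw1, ← e, smul_inv_smul])
      exact hbc (by rw [← hw2, ← huniq _ hk' hne, smul_inv_smul])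
    · intro N' hN' htr
      rcases hN'.eq_bot_or_eq_top with e | e
      · exfalso
        subst e
        obtain ⟨⟨n, hn⟩, hne⟩ := @MulAction.exists_smul_eq _ _ _ htr x₀ y₀
        rw [mem_bot] at hn
        subst hn
        exact hy₀ (hne.symm.trans (one_smul G x₀))
      · subst e
        refine ⟨x₀, fun hb => hk1 ?_⟩
        have : (⟨k, mem_top k⟩ : (⊤ : Subgroup G)) ∈ MulAction.stabilizer (⊤ : Subgroup G) x₀ := hx₀F
        exact congrArg Subtype.val ((Subgroup.eq_bot_iff_forall _).1 hb _ this)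
  rcases H66.Feit.classify hZ with ⟨F, hFf, hFt, ⟨e⟩⟩ | hSz
  · exact psl_small hc h e
  · exact absurd hSz (not_isSuzuki h)

end H63.SmallExp
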