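/-
Finite groups with element orders at most five.
-/
import Cfsg.Agent.H63.SmallExp.TISylow
import Cfsg.Agent.H63.SmallExp.Reduction
import Cfsg.Agent.H63.SmallExp.BN
import Cfsg.Agent.H63.SmallExp.Extension

set_option autoImplicit false
set_option linter.style.haveILetI false

namespace H63.SmallExp

open Subgroup

universe u

/-- A finite simple group with element orders at most five is `A₅` or `A₆`. -/
theorem simpleCase : SimpleCase.{u} := by
  intro M _ _ _ h hc hIH
  classical
  by_cases hti : ∀ S T : Sylow 2 M, S ≠ T → (S : Subgroup M) ⊓ T = ⊥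
  · exact ti_case hc h hti
  obtain ⟨D, hD1, hD2, hcore, hnc⟩ := exists_max_intersection hti
  obtain ⟨E, W, S, e, c⟩ := exists_conf h hD1 hcore hnc fun hns =>
    hIH _ (card_lt_of_ne_top (normalizer_ne_top hc hD2 hD1)) (h.subgroup _) hns
  rcases Nat.lt_or_ge 2 (Nat.card W) with hW | hW
  · exfalso
    obtain ⟨rfl, hW4, f, hf, hker⟩ := c.large_case hc h hIH hW
    exact c.false_of_two_locals hc h hIH hW4 f hf hker
  · exact Or.inr (c.small_case hc h (le_antisymm hW c.one_lt))

/-- A non-solvable finite group with element orders at most five is `A₆` or an elementary abelian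
2-group extended by `A₅`. -/
theorem classify {G : Type u} [Group G] [Finite G] (h : Hyp G) (hns : ¬ Group.IsSolvable G) :
    Concl G :=
  classify_of_simpleCase simpleCase (Nat.card G) G rfl h hns

end H63.SmallExp
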